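import Groth.Agent.Lib.Helper45.QCohStalk

/-!
# Basic facts on `X.Modules`: zero objects, sections and stalks

Shared library of helper45.  Everything lives in `Groth.Agent.Lib.Helper45`.
-/

set_option autoImplicit false
universe u
open CategoryTheory CategoryTheory.Limits AlgebraicGeometry TopologicalSpace

namespace Groth.Agent.Lib.Helper45

variable {X : Scheme.{u}}

/-- Two sections of an `O_X`-module with the same germs are equal. -/
theorem section_ext_germ (F : X.Modules) (U : X.Opens) (s t : Γ(F, U))
    (h : ∀ (x : X) (hx : x ∈ U), F.presheaf.germ U x hx s = F.presheaf.germ U x hx t) : s = t :=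
  TopCat.Presheaf.section_ext ⟨F.presheaf, F.isSheaf⟩ U s t h

theorem isZero_iff_sections_subsingleton (F : X.Modules) :
    IsZero F ↔ ∀ U : X.Opens, Subsingleton Γ(F, U) := by
  rw [IsZero.iff_id_eq_zero]
  constructor
  · intro h U
    refine ⟨fun s t => ?_⟩
    have h1 : (𝟙 F : F ⟶ F).app U = (0 : F ⟶ F).app U := by rw [h]
    have hs : s = 0 := by
      have := congrArg (fun φ => (ConcreteCategory.hom φ) s) h1
      simpa using this
    have ht : t = 0 := by
      have := congrArg (fun φ => (ConcreteCategory.hom φ) t) h1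
      simpa using this
    rw [hs, ht]
  · intro h
    apply Scheme.Modules.hom_ext
    intro U
    ext s
    exact (h U).elim _ _

theorem stalk_subsingleton_of_sections (F : X.Modules) (h : ∀ U : X.Opens, Subsingleton Γ(F, U))
    (x : X) : Subsingleton (F.presheaf.stalk x) := by
  refine ⟨fun a b => ?_⟩
  obtain ⟨U, hU, s, rfl⟩ := TopCat.Presheaf.exists_germ_eq F.presheaf a
  obtain ⟨V, hV, t, rfl⟩ := TopCat.Presheaf.exists_germ_eq F.presheaf b
  rw [(h U).elim s 0, (h V).elim t 0, map_zero, map_zero]

theorem sections_subsingleton_of_stalk (F : X.Modules)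
    (h : ∀ x : X, Subsingleton (F.presheaf.stalk x)) (U : X.Opens) : Subsingleton Γ(F, U) :=
  ⟨fun s t => section_ext_germ F U s t fun x _ => (h x).elim _ _⟩

theorem isZero_iff_stalk_subsingleton (F : X.Modules) :
    IsZero F ↔ ∀ x : X, Subsingleton (F.presheaf.stalk x) :=
  ⟨fun h => stalk_subsingleton_of_sections F ((isZero_iff_sections_subsingleton F).mp h),
    fun h => (isZero_iff_sections_subsingleton F).mpr (sections_subsingleton_of_stalk F h)⟩

/-- Every prime of `Γ(X, U)` (`U` affine) is the prime of a point of `U`. -/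
theorem exists_primeIdealOf_eq {U : X.Opens} (hU : IsAffineOpen U) (p : PrimeSpectrum Γ(X, U)) :
    ∃ x : U, hU.primeIdealOf x = p := by
  have hx : (hU.fromSpec p : X) ∈ U := by
    have : (hU.fromSpec p : X) ∈ hU.fromSpec.opensRange := ⟨p, rfl⟩
    rwa [hU.opensRange_fromSpec] at this
  refine ⟨⟨hU.fromSpec p, hx⟩, ?_⟩
  have hinj : Function.Injective hU.fromSpec := hU.fromSpec.isOpenEmbedding.injective
  apply hinj
  exact hU.fromSpec_primeIdealOf ⟨hU.fromSpec p, hx⟩

end Groth.Agent.Lib.Helper45
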