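import Groth.Agent.Lib.Helper45.QCohStalk
import Groth.Agent.Lib.Helper45.ModulesBasic
import Mathlib.RingTheory.Localization.Finiteness

/-!
# Quasi-coherent modules of finite type have finitely generated sections over affine opens

Shared library of helper45.  Everything lives in `Groth.Agent.Lib.Helper45`.

Main results, for `F : X.Modules` quasi-coherent and of finite type
(`SheafOfModules.IsFiniteType F`, e.g. from `Coh.IsCoh F`) and `U` an affine open:
* `finite_sections_of_isFiniteType hU F : Module.Finite Γ(X, U) Γ(F, U)`;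
* `finite_sections_of_isCoh hU F hF` (the same from `Coh.IsCoh F`);
* `isLocalizedModule_restrictBasicOpenₗ hU F g`: `Γ(F, U) → Γ(F, D(g))` is the localization
  away from `g` (needs only quasi-coherence).
Intermediate steps:
* `finite_sections_top_of_generatingSections`: on `Spec R`;
* `generatingSectionsRestrictOfLE`, `generatingSectionsFromSpec`: transport of
  `SheafOfModules.GeneratingSections` along restrictions.
-/

set_option autoImplicit false
universe u
open CategoryTheory CategoryTheory.Limits AlgebraicGeometry TopologicalSpace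

namespace Groth.Agent.Lib.Helper45

theorem finite_of_tilde_iso_of_generatingSections {R : CommRingCat.{u}} (N : (Spec R).Modules)
    (P : ModuleCat.{u} R) (e : tilde P ≅ N) (g : N.GeneratingSections) [Finite g.I] :
    Module.Finite R P := by
  obtain ⟨e'⟩ : Nonempty ((tilde (ModuleCat.of R (g.I →₀ R)) : (Spec R).Modules) ≅
      (SheafOfModules.free g.I : (Spec R).Modules)) := ⟨tildeFinsupp g.I⟩
  obtain ⟨π', h1⟩ : ∃ π' : (SheafOfModules.free g.I : (Spec R).Modules) ⟶ N, Epi π' :=
    ⟨g.π, g.epi⟩
  let φ : (tilde.functor R).obj (ModuleCat.of R (g.I →₀ R)) ⟶ (tilde.functor R).obj P :=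
    e'.hom ≫ π' ≫ e.inv
  have hφ : Epi φ := by
    have h3 : Epi e.inv := inferInstance
    have h4 : Epi e'.hom := @IsIso.epi_of_iso _ _ _ _ _ (Iso.isIso_hom e')
    exact epi_comp' h4 (epi_comp' h1 h3)
  let h : ModuleCat.of R (g.I →₀ R) ⟶ P := (tilde.functor R).preimage φ
  have hh : (tilde.functor R).map h = φ := (tilde.functor R).map_preimage φ
  have hepi : Epi h := by
    apply (tilde.functor R).epi_of_epi_map
    rw [hh]
    exact hφ
  have hsurj : Function.Surjective h.hom := (ModuleCat.epi_iff_surjective h).mp hepi
  exact Module.Finite.of_surjective h.hom hsurj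

/-- A quasi-coherent module on `Spec R` generated by finitely many global sections has a finitely
generated module of global sections. -/
theorem finite_sections_top_of_generatingSections {R : CommRingCat.{u}} (N : (Spec R).Modules)
    [SheafOfModules.IsQuasicoherent.{u, u, u} N] (g : N.GeneratingSections) [Finite g.I] :
    Module.Finite R ((modulesSpecToSheaf.obj N).presheaf.obj (.op ⊤)) := by
  have hiso : IsIso N.fromTildeΓ := inferInstance
  exact finite_of_tilde_iso_of_generatingSections N _ (asIso N.fromTildeΓ) g

open Scheme.Modules in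
set_option backward.isDefEq.respectTransparency false in
/-- Generating sections of `M.over W` restrict to generating sections of `M|_V` for `V ≤ W`. -/
noncomputable def generatingSectionsRestrictOfLE {X : Scheme.{u}} (M : X.Modules) {V W : X.Opens}
    (hVW : V ≤ W) (gen : (M.over W).GeneratingSections) :
    (M.restrict V.ι).GeneratingSections := by
  let u := X.homOfLE hVW
  have : PreservesColimitsOfSize.{u, u} (restrictFunctor u) := inferInstance
  let F := (overEquiv W).functor ⋙ restrictFunctor u
  let iso : SheafOfModules.overFunctor X.ringCatSheaf _ ⋙ F ≅ restrictFunctor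
      (Scheme.Opens.ι V) := (Functor.associator _ _ _).symm ≪≫
        Functor.isoWhiskerRight (Scheme.Modules.overFunctorEquiv _) _ ≪≫
        (restrictFunctorComp _ _).symm ≪≫ (restrictFunctorCongr (by simp [u]))
  exact (gen.map F (Scheme.Modules.restrictUnitIso _).symm).ofEpi (iso.app M).hom

theorem generatingSectionsRestrictOfLE_I {X : Scheme.{u}} (M : X.Modules) {V W : X.Opens}
    (hVW : V ≤ W) (gen : (M.over W).GeneratingSections) :
    (generatingSectionsRestrictOfLE M hVW gen).I = gen.I := rfl

open Scheme.Modules in
set_option backward.isDefEq.respectTransparency false in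
/-- Generating sections of `M|_V` give generating sections of the restriction of `M` to
`Spec Γ(X, V)` for an affine open `V`. -/
noncomputable def generatingSectionsFromSpec {X : Scheme.{u}} (M : X.Modules) {V : X.Opens}
    (hV : IsAffineOpen V) (gen : (M.restrict V.ι).GeneratingSections) :
    (M.restrict hV.fromSpec).GeneratingSections := by
  have : PreservesColimitsOfSize.{u, u} (restrictFunctor hV.isoSpec.inv) := inferInstance
  exact (gen.map (restrictFunctor hV.isoSpec.inv) (restrictUnitIso _).symm).ofEpi
    ((restrictFunctorComp hV.isoSpec.inv V.ι).app M).inv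

theorem generatingSectionsFromSpec_I {X : Scheme.{u}} (M : X.Modules) {V : X.Opens}
    (hV : IsAffineOpen V) (gen : (M.restrict V.ι).GeneratingSections) :
    (generatingSectionsFromSpec M hV gen).I = gen.I := rfl

variable {X : Scheme.{u}}

set_option backward.isDefEq.respectTransparency.types false in
/-- If the restriction of the quasi-coherent module `F` to `Spec Γ(X, V)` (`V` affine open) is
generated by finitely many global sections, then `Γ(F, V)` is a finite `Γ(X, V)`-module. -/
theorem finite_sections_of_generatingSections_fromSpec {V : X.Opens} (hV : IsAffineOpen V)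
    (F : X.Modules) [SheafOfModules.IsQuasicoherent.{u, u, u} F]
    (g : (F.restrict hV.fromSpec).GeneratingSections)
    [Finite g.I] : Module.Finite Γ(X, V) Γ(F, V) := by
  have hfin := finite_sections_top_of_generatingSections (F.restrict hV.fromSpec) g
  have eT : hV.fromSpec ''ᵁ ⊤ = V := by
    rw [Scheme.Hom.image_top_eq_opensRange, hV.opensRange_fromSpec]
  let L : Γ(F.restrict hV.fromSpec, (⊤ : (Spec Γ(X, V)).Opens)) →ₗ[Γ(X, V)] Γ(F, V) :=
    { toFun := fun t => F.presheaf.map (eqToHom eT.symm).op
        ((F.restrictAppIso hV.fromSpec ⊤).hom t)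
      map_add' := fun a b => by rw [map_add, map_add]
      map_smul' := fun r t => by
        rw [smul_restrict_fromSpec]
        simp only [RingHom.id_apply]
        change F.presheaf.map (eqToHom eT.symm).op
          ((X.presheaf.map (homOfLE (image_le hV ⊤)).op r) •
            (F.restrictAppIso hV.fromSpec ⊤).hom t) = _
        rw [Scheme.Modules.map_smul]
        congr 1
        rw [← ConcreteCategory.comp_apply, ← Functor.map_comp]
        have : (homOfLE (image_le hV ⊤)).op ≫ (eqToHom eT.symm).op = 𝟙 _ := rfl
        rw [this, X.presheaf.map_id]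
        rfl }
  have hsurj : Function.Surjective L := by
    intro m
    refine ⟨(F.restrictAppIso hV.fromSpec ⊤).inv (F.presheaf.map (eqToHom eT).op m), ?_⟩
    change F.presheaf.map (eqToHom eT.symm).op (F.presheaf.map (eqToHom eT).op m) = m
    rw [← ConcreteCategory.comp_apply, ← Functor.map_comp]
    have : (eqToHom eT).op ≫ (eqToHom eT.symm).op = 𝟙 _ := rfl
    rw [this, F.presheaf.map_id]
    rfl
  have hfin' : Module.Finite Γ(X, V) Γ(F.restrict hV.fromSpec, (⊤ : (Spec Γ(X, V)).Opens)) := hfin
  exact Module.Finite.of_surjective L hsurj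

section BasicOpen

variable {U : X.Opens} (hU : IsAffineOpen U) (F : X.Modules) (g : Γ(X, U))

/-- `Γ(F, D(g))` as a module over `Γ(X, U)`. -/
noncomputable abbrev sectionsBasicOpenModule : Module Γ(X, U) Γ(F, X.basicOpen g) :=
  Module.compHom _ (algebraMap Γ(X, U) Γ(X, X.basicOpen g))

attribute [local instance] sectionsBasicOpenModule

instance : IsScalarTower Γ(X, U) Γ(X, X.basicOpen g) Γ(F, X.basicOpen g) :=
  IsScalarTower.of_compHom _ _ _

/-- Restriction `Γ(F, U) → Γ(F, D(g))` as a `Γ(X, U)`-linear map. -/
noncomputable def restrictBasicOpenₗ : Γ(F, U) →ₗ[Γ(X, U)] Γ(F, X.basicOpen g) where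
  toFun := F.presheaf.map (homOfLE (X.basicOpen_le g)).op
  map_add' := map_add _
  map_smul' r m := Scheme.Modules.map_smul F (homOfLE (X.basicOpen_le g)) r m

@[simp] theorem restrictBasicOpenₗ_apply (m : Γ(F, U)) :
    restrictBasicOpenₗ F g m = F.presheaf.map (homOfLE (X.basicOpen_le g)).op m := rfl

include hU in
/-- For a quasi-coherent module, `Γ(F, U) → Γ(F, D(g))` is the localization away from `g`. -/
theorem isLocalizedModule_restrictBasicOpenₗ [SheafOfModules.IsQuasicoherent.{u, u, u} F] :
    IsLocalizedModule.Away g (restrictBasicOpenₗ F g) := by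
  apply IsLocalizedModule.Away.mk_of_addCommGroup
  · have hunit : IsUnit (algebraMap Γ(X, U) Γ(X, X.basicOpen g) g) :=
      RingedSpace.isUnit_res_basicOpen X.toRingedSpace g
    rw [Module.End.isUnit_iff]
    obtain ⟨v, hv⟩ := hunit
    refine ⟨fun a b hab => ?_, fun b => ⟨(↑v⁻¹ : Γ(X, X.basicOpen g)) • b, ?_⟩⟩
    · have h1 : (v : Γ(X, X.basicOpen g)) • a = (v : Γ(X, X.basicOpen g)) • b := by
        rw [hv]; exact hab
      have := congrArg (fun z => (↑v⁻¹ : Γ(X, X.basicOpen g)) • z) h1
      simpa [smul_smul] using this
    · rw [Module.algebraMap_end_apply, ← algebraMap_smul Γ(X, X.basicOpen g), ← hv, smul_smul]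
      simp
  · intro s
    obtain ⟨n, t, ht⟩ := exists_restrict_eq_pow_smul hU F g s
    refine ⟨n, t, ?_⟩
    rw [restrictBasicOpenₗ_apply, ht]
    change (algebraMap Γ(X, U) Γ(X, X.basicOpen g) (g ^ n)) • s = _
    rw [map_pow]
    rfl
  · intro t ht
    rw [restrictBasicOpenₗ_apply] at ht
    exact exists_pow_smul_eq_zero_of_restrict_eq_zero hU F g t ht

end BasicOpen

attribute [local instance] sectionsBasicOpenModule

/-- A quasi-coherent module of finite type has finitely generated sections over affine opens. -/
theorem finite_sections_of_isFiniteType {U : X.Opens} (hU : IsAffineOpen U) (F : X.Modules)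
    [SheafOfModules.IsQuasicoherent.{u, u, u} F] [SheafOfModules.IsFiniteType (R := X.ringCatSheaf) F] :
    Module.Finite Γ(X, U) Γ(F, U) := by
  obtain ⟨σ, hσ⟩ := SheafOfModules.IsFiniteType.exists_localGeneratorsData (R := X.ringCatSheaf) F
  have hcov : IsOpenCover σ.X := (Opens.coversTop_iff (T := X) σ.X).mp σ.coversTop
  let t : Set Γ(X, U) := {g | ∃ i, X.basicOpen g ≤ σ.X i}
  have ht : Ideal.span t = ⊤ := by
    by_contra hne
    obtain ⟨m, hm, hle⟩ := Ideal.exists_le_maximal _ hne
    obtain ⟨x, hx⟩ := exists_primeIdealOf_eq hU ⟨m, hm.isPrime⟩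
    have hxm : (hU.primeIdealOf x).asIdeal = m := congrArg PrimeSpectrum.asIdeal hx
    obtain ⟨i, hi⟩ : ∃ i, (x : X) ∈ σ.X i := by
      have : (x : X) ∈ (⨆ i, σ.X i : X.Opens) := by rw [hcov.iSup_eq_top]; trivial
      simpa using this
    obtain ⟨g, hgi, hxg⟩ := hU.exists_basicOpen_le ⟨(x : X), hi⟩ x.2
    have hgm : g ∉ (hU.primeIdealOf x).asIdeal :=
      (mem_basicOpen_iff_not_mem_primeIdealOf hU x g).mp hxg
    apply hgm
    rw [hxm]
    exact hle (Ideal.subset_span ⟨i, hgi⟩)
  have hloc : ∀ g : t, IsLocalization.Away g.val Γ(X, X.basicOpen g.val) :=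
    fun g => hU.isLocalization_basicOpen g.val
  have hlocM : ∀ g : t, IsLocalizedModule.Away g.val (restrictBasicOpenₗ F g.val) :=
    fun g => isLocalizedModule_restrictBasicOpenₗ hU F g.val
  refine Module.Finite.of_localizationSpan' t ht (Rₚ := fun g => Γ(X, X.basicOpen g.val))
    (Mₚ := fun g => Γ(F, X.basicOpen g.val)) (fun g => restrictBasicOpenₗ F g.val) ?_
  rintro ⟨g, i, hgi⟩
  have hfin : Finite (σ.generators i).I := (hσ.isFiniteType i).finite
  let gen := generatingSectionsFromSpec F (hU.basicOpen g)
    (generatingSectionsRestrictOfLE F hgi (σ.generators i))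
  have : Finite gen.I := hfin
  exact finite_sections_of_generatingSections_fromSpec (hU.basicOpen g) F gen

/-- A coherent module (`Coh.IsCoh`: quasi-coherent of finite type) has finitely generated
sections over affine opens. -/
theorem finite_sections_of_isCoh {U : X.Opens} (hU : IsAffineOpen U) (F : X.Modules)
    (hF : Coh.IsCoh F) : Module.Finite Γ(X, U) Γ(F, U) := by
  have h1 : SheafOfModules.IsQuasicoherent.{u, u, u} F := hF.1
  have h2 : SheafOfModules.IsFiniteType (R := X.ringCatSheaf) F := hF.2
  exact finite_sections_of_isFiniteType hU F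

end Groth.Agent.Lib.Helper45
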