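import Groth.Prelude.Def_CurvBase
import Groth.Prelude.Def_FlatMod2
import Mathlib.AlgebraicGeometry.Modules.Tilde

/-!
# Quasi-coherent modules on a scheme: sections over affine opens and stalks

Shared library of helper45.  Everything lives in `Groth.Agent.Lib.Helper45`.

For a quasi-coherent `F : X.Modules`, an affine open `U` and `f : Γ(X, U)`:
* `exists_restrict_eq_pow_smul`: every section over `D(f)` times a power of `f` extends to `U`;
* `exists_pow_smul_eq_zero_of_restrict_eq_zero`: a section over `U` vanishing on `D(f)` is killed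
  by a power of `f`;
* `isLocalizedModule_germₗ`: for `x : U`, the germ map `Γ(F, U) → F_x` is the localization at the
  prime of `x` (as `Γ(X, U)`-modules; `F_x` is a `Γ(X, U)`-module through `stalkModuleSections`).
-/

set_option autoImplicit false
universe u
open CategoryTheory CategoryTheory.Limits AlgebraicGeometry TopologicalSpace

namespace Groth.Agent.Lib.Helper45

variable {X : Scheme.{u}}

section
variable {U : X.Opens} (hU : IsAffineOpen U)

/-- The key compatibility: scalar action of `R = Γ(X,U)` on sections of `F.restrict hU.fromSpec`. -/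
theorem appIso_inv_algebraMap (V : (Spec Γ(X, U)).Opens) (r : Γ(X, U))
    (hle : hU.fromSpec ''ᵁ V ≤ U) :
    (hU.fromSpec.appIso V).inv (algebraMap Γ(X, U) Γ(Spec Γ(X, U), V) r) =
      X.presheaf.map (homOfLE hle).op r := by
  have h : algebraMap Γ(X, U) Γ(Spec Γ(X, U), V) r =
      (hU.fromSpec.appIso V).hom (X.presheaf.map (homOfLE hle).op r) := by
    rw [Scheme.Hom.appIso_hom]
    have : X.presheaf.map (homOfLE hle).op ≫
          Scheme.Hom.app hU.fromSpec (hU.fromSpec ''ᵁ V) ≫ (Spec Γ(X, U)).presheaf.map (eqToHom (hU.fromSpec.preimage_image_eq V).symm).op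
        = (Scheme.ΓSpecIso Γ(X, U)).inv ≫ (Spec Γ(X, U)).presheaf.map (homOfLE le_top).op := by
      rw [← Category.assoc, hU.fromSpec.naturality, Category.assoc]
      rw [hU.fromSpec_app_self]
      simp only [Category.assoc, ← Functor.map_comp]
      rfl
    rw [AlgebraicGeometry.IsAffineOpen.algebraMap_Spec_obj, ← this]
    rfl
  rw [h]
  simp

theorem image_le (V : (Spec Γ(X, U)).Opens) : hU.fromSpec ''ᵁ V ≤ U := by
  conv_rhs => rw [← hU.opensRange_fromSpec]
  exact hU.fromSpec.image_le_opensRange V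

variable (F : X.Modules)

theorem smul_restrict_fromSpec (V : (Spec Γ(X, U)).Opens) (r : Γ(X, U))
    (m : Γ(F.restrict hU.fromSpec, V)) :
    r • m = (F.restrictAppIso hU.fromSpec V).inv
      ((X.presheaf.map (homOfLE (image_le hU V)).op r) • (F.restrictAppIso hU.fromSpec V).hom m) := by
  rw [Scheme.Modules.smul_Spec_def]
  rw [← appIso_inv_algebraMap hU V r (image_le hU V)]
  rfl

variable [F.IsQuasicoherent]

set_option backward.isDefEq.respectTransparency.types false in
include hU in
theorem exists_restrict_eq_pow_smul (f : Γ(X, U)) (s : Γ(F, X.basicOpen f)) :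
    ∃ (n : ℕ) (t : Γ(F, U)), F.presheaf.map (homOfLE (X.basicOpen_le f)).op t =
      (X.presheaf.map (homOfLE (X.basicOpen_le f)).op f) ^ n • s := by
  have hM : IsLocalizing (modulesSpecToSheaf.obj (F.restrict hU.fromSpec)) :=
    (isIso_fromTildeΓ_iff_isLocalizing _).mp inferInstance
  have hloc := hM f
  have eT : hU.fromSpec ''ᵁ ⊤ = U := by
    rw [Scheme.Hom.image_top_eq_opensRange, hU.opensRange_fromSpec]
  have eD : hU.fromSpec ''ᵁ (PrimeSpectrum.basicOpen f) = X.basicOpen f :=
    hU.fromSpec_image_basicOpen f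
  let s' : Γ(F.restrict hU.fromSpec, (PrimeSpectrum.basicOpen f : (Spec Γ(X, U)).Opens)) :=
    (F.restrictAppIso hU.fromSpec _).inv (F.presheaf.map (eqToHom eD).op s)
  obtain ⟨⟨t', ⟨_, n, rfl⟩⟩, ht'⟩ := hloc.surj s'
  refine ⟨n, F.presheaf.map (eqToHom eT.symm).op ((F.restrictAppIso hU.fromSpec _).hom t'), ?_⟩
  have hinj : Function.Injective (F.presheaf.map (eqToHom eD).op) := by
    have : IsIso (F.presheaf.map (eqToHom eD).op) := inferInstance
    exact ((ConcreteCategory.isIso_iff_bijective _).mp this).1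
  apply hinj
  have h1 : F.presheaf.map (eqToHom eD).op
      (F.presheaf.map (homOfLE (X.basicOpen_le f)).op
        (F.presheaf.map (eqToHom eT.symm).op ((F.restrictAppIso hU.fromSpec _).hom t'))) =
      ((modulesSpecToSheaf.obj (F.restrict hU.fromSpec)).obj.map
        (PrimeSpectrum.basicOpen f).leTop.op).hom t' := by
    rw [← ConcreteCategory.comp_apply, ← ConcreteCategory.comp_apply, ← Functor.map_comp,
      ← Functor.map_comp]
    rfl
  rw [h1, ← ht']
  change f ^ n • s' = _
  rw [smul_restrict_fromSpec, Scheme.Modules.map_smul]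
  change (X.presheaf.map (homOfLE (image_le hU (PrimeSpectrum.basicOpen f))).op (f ^ n)) •
      (F.presheaf.map (eqToHom eD).op s) = _
  congr 1
  rw [map_pow, map_pow]
  congr 1
  rw [← ConcreteCategory.comp_apply, ← Functor.map_comp]
  rfl

set_option backward.isDefEq.respectTransparency.types false in
include hU in
theorem exists_pow_smul_eq_zero_of_restrict_eq_zero (f : Γ(X, U)) (t : Γ(F, U))
    (ht : F.presheaf.map (homOfLE (X.basicOpen_le f)).op t = 0) : ∃ n : ℕ, f ^ n • t = 0 := by
  have hM : IsLocalizing (modulesSpecToSheaf.obj (F.restrict hU.fromSpec)) :=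
    (isIso_fromTildeΓ_iff_isLocalizing _).mp inferInstance
  have hloc := hM f
  have eT : hU.fromSpec ''ᵁ ⊤ = U := by
    rw [Scheme.Hom.image_top_eq_opensRange, hU.opensRange_fromSpec]
  have eD : hU.fromSpec ''ᵁ (PrimeSpectrum.basicOpen f) = X.basicOpen f :=
    hU.fromSpec_image_basicOpen f
  let t' : Γ(F.restrict hU.fromSpec, (⊤ : (Spec Γ(X, U)).Opens)) :=
    (F.restrictAppIso hU.fromSpec _).inv (F.presheaf.map (eqToHom eT).op t)
  have h0 : ((modulesSpecToSheaf.obj (F.restrict hU.fromSpec)).obj.map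
        (PrimeSpectrum.basicOpen f).leTop.op).hom t' = 0 := by
    have h1 : ((modulesSpecToSheaf.obj (F.restrict hU.fromSpec)).obj.map
        (PrimeSpectrum.basicOpen f).leTop.op).hom t' =
        F.presheaf.map (eqToHom eD).op (F.presheaf.map (homOfLE (X.basicOpen_le f)).op t) := by
      rw [← ConcreteCategory.comp_apply, ← Functor.map_comp]
      change F.presheaf.map _ (F.presheaf.map (eqToHom eT).op t) = _
      rw [← ConcreteCategory.comp_apply, ← Functor.map_comp]
      rfl
    rw [h1, ht]
    exact map_zero _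
  obtain ⟨⟨_, n, rfl⟩, hn⟩ := (IsLocalizedModule.eq_zero_iff (.powers f) _).mp h0
  refine ⟨n, ?_⟩
  have hinj : Function.Injective (F.presheaf.map (eqToHom eT).op) := by
    have : IsIso (F.presheaf.map (eqToHom eT).op) := inferInstance
    exact ((ConcreteCategory.isIso_iff_bijective _).mp this).1
  apply hinj
  rw [map_zero, Scheme.Modules.map_smul]
  change f ^ n • t' = 0 at hn
  rw [smul_restrict_fromSpec] at hn
  exact hn

end

section Stalk

variable {U : X.Opens} (hU : IsAffineOpen U) (F : X.Modules) (x : U)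

theorem germ_smul (F : X.Modules) (x : X) (U : X.Opens) (hx : x ∈ U) (r : Γ(X, U)) (m : Γ(F, U)) :
    F.presheaf.germ U x hx (r • m) = X.presheaf.germ U x hx r • F.presheaf.germ U x hx m :=
  PresheafOfModules.germ_smul (R := X.presheaf)
    (show PresheafOfModules (X.presheaf ⋙ forget₂ CommRingCat RingCat) from F.val) x U hx r m

/-- The stalk of `F` at `x ∈ U` as a module over `Γ(X, U)`. -/
noncomputable abbrev stalkModuleSections : Module Γ(X, U) (F.presheaf.stalk (x : X)) :=
  Module.compHom _ (algebraMap Γ(X, U) (X.presheaf.stalk (x : X)))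

attribute [local instance] stalkModuleSections

instance : IsScalarTower Γ(X, U) (X.presheaf.stalk (x : X)) (F.presheaf.stalk (x : X)) :=
  IsScalarTower.of_compHom _ _ _

/-- The germ map as a `Γ(X, U)`-linear map. -/
noncomputable def germₗ : Γ(F, U) →ₗ[Γ(X, U)] (F.presheaf.stalk (x : X)) where
  toFun := F.presheaf.germ U x x.2
  map_add' := map_add _
  map_smul' r m := germ_smul F x U x.2 r m

@[simp] theorem germₗ_apply (m : Γ(F, U)) : germₗ F x m = F.presheaf.germ U x x.2 m := rfl

theorem mem_basicOpen_iff_not_mem_primeIdealOf (f : Γ(X, U)) :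
    (x : X) ∈ X.basicOpen f ↔ f ∉ (hU.primeIdealOf x).asIdeal := by
  have := hU.isLocalization_stalk x
  rw [X.mem_basicOpen f x x.2]
  exact IsLocalization.AtPrime.isUnit_to_map_iff (X.presheaf.stalk (x : X))
    (hU.primeIdealOf x).asIdeal f

variable [F.IsQuasicoherent]

theorem isLocalizedModule_germₗ :
    IsLocalizedModule (hU.primeIdealOf x).asIdeal.primeCompl (germₗ F x) := by
  have hloc := hU.isLocalization_stalk x
  refine ⟨?_, ?_, ?_⟩
  · intro s
    rw [Module.End.isUnit_iff]
    have hs : IsUnit (algebraMap Γ(X, U) (X.presheaf.stalk (x : X)) s) :=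
      IsLocalization.map_units _ s
    obtain ⟨u, hu⟩ := hs
    refine ⟨fun a b hab => ?_, fun b => ⟨(↑u⁻¹ : X.presheaf.stalk (x : X)) • b, ?_⟩⟩
    · have h1 : (u : X.presheaf.stalk (x : X)) • a = (u : X.presheaf.stalk (x : X)) • b := by
        rw [hu]; exact hab
      have := congrArg (fun z => (↑u⁻¹ : X.presheaf.stalk (x : X)) • z) h1
      simpa [smul_smul] using this
    · rw [Module.algebraMap_end_apply, ← algebraMap_smul (X.presheaf.stalk (x : X)), ← hu, smul_smul]
      simp
  · intro y
    obtain ⟨V, hxV, s, rfl⟩ := TopCat.Presheaf.exists_germ_eq F.presheaf y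
    obtain ⟨f, hfV, hxf⟩ := hU.exists_basicOpen_le ⟨(x : X), hxV⟩ x.2
    obtain ⟨n, t, ht⟩ := exists_restrict_eq_pow_smul hU F f (F.presheaf.map (homOfLE hfV).op s)
    have hf : f ∉ (hU.primeIdealOf x).asIdeal := (mem_basicOpen_iff_not_mem_primeIdealOf hU x f).mp hxf
    refine ⟨⟨t, ⟨f ^ n, ?_⟩⟩, ?_⟩
    · exact Submonoid.pow_mem _ hf n
    · have h1 := congrArg (F.presheaf.germ (X.basicOpen f) x hxf) ht
      rw [TopCat.Presheaf.germ_res_apply, germ_smul, TopCat.Presheaf.germ_res_apply,
        map_pow, TopCat.Presheaf.germ_res_apply] at h1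
      rw [germₗ_apply]
      change (algebraMap Γ(X, U) (X.presheaf.stalk (x : X)) (f ^ n)) •
        (F.presheaf.germ V (x : X) hxV s) = _
      rw [map_pow]
      exact h1.symm
  · intro m₁ m₂ h
    rw [germₗ_apply, germₗ_apply] at h
    obtain ⟨W, hxW, i₁, i₂, hW⟩ := TopCat.Presheaf.germ_eq F.presheaf (x : X) x.2 x.2 m₁ m₂ h
    obtain ⟨f, hfW, hxf⟩ := hU.exists_basicOpen_le ⟨(x : X), hxW⟩ x.2
    have hf : f ∉ (hU.primeIdealOf x).asIdeal := (mem_basicOpen_iff_not_mem_primeIdealOf hU x f).mp hxf
    have h0 : F.presheaf.map (homOfLE (X.basicOpen_le f)).op (m₁ - m₂) = 0 := by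
      have h2 := congrArg (F.presheaf.map (homOfLE hfW).op) hW
      rw [← ConcreteCategory.comp_apply, ← ConcreteCategory.comp_apply, ← Functor.map_comp,
        ← Functor.map_comp] at h2
      rw [map_sub, sub_eq_zero]
      exact h2
    obtain ⟨n, hn⟩ := exists_pow_smul_eq_zero_of_restrict_eq_zero hU F f (m₁ - m₂) h0
    refine ⟨⟨f ^ n, Submonoid.pow_mem _ hf n⟩, ?_⟩
    rw [smul_sub, sub_eq_zero] at hn
    exact hn

end Stalk

end Groth.Agent.Lib.Helper45
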