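import Groth.Agent.Lib.Helper45.ModulesBasic
import Mathlib.RingTheory.Spectrum.Prime.Topology

/-!
# Points of an affine open versus primes of its ring of sections

Shared library of helper45.  Everything lives in `Groth.Agent.Lib.Helper45`.
-/

set_option autoImplicit false
universe u
open CategoryTheory CategoryTheory.Limits AlgebraicGeometry TopologicalSpace

namespace Groth.Agent.Lib.Helper45

variable {X : Scheme.{u}} {U : X.Opens} (hU : IsAffineOpen U)

/-- Specialization between points of an affine open is inclusion of the corresponding primes. -/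
theorem primeIdealOf_le_iff (x y : U) :
    (hU.primeIdealOf y).asIdeal ≤ (hU.primeIdealOf x).asIdeal ↔ (y : X) ⤳ (x : X) := by
  rw [← hU.fromSpec_primeIdealOf x, ← hU.fromSpec_primeIdealOf y]
  have h := hU.fromSpec.isOpenEmbedding.isInducing.specializes_iff
    (x := (hU.primeIdealOf y : Spec Γ(X, U))) (y := (hU.primeIdealOf x : Spec Γ(X, U)))
  refine Iff.trans ?_ h.symm
  exact (PrimeSpectrum.le_iff_specializes (hU.primeIdealOf y) (hU.primeIdealOf x))

theorem primeIdealOf_injective : Function.Injective hU.primeIdealOf := by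
  intro x y h
  apply Subtype.ext
  rw [← hU.fromSpec_primeIdealOf x, ← hU.fromSpec_primeIdealOf y, h]

/-- The prime of `x` is a minimal prime of `Γ(X, U)` iff `x` has no proper generization. -/
theorem primeIdealOf_mem_minimalPrimes_iff (x : U) :
    (hU.primeIdealOf x).asIdeal ∈ minimalPrimes Γ(X, U) ↔ ∀ y : X, y ⤳ (x : X) → y = x := by
  constructor
  · intro hmin y hy
    have hyU : y ∈ U := hy.mem_open U.2 x.2
    have hle : (hU.primeIdealOf ⟨y, hyU⟩).asIdeal ≤ (hU.primeIdealOf x).asIdeal :=
      (primeIdealOf_le_iff hU x ⟨y, hyU⟩).mpr hy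
    have hge := hmin.2 ⟨(hU.primeIdealOf ⟨y, hyU⟩).isPrime, bot_le⟩ hle
    have heq : hU.primeIdealOf ⟨y, hyU⟩ = hU.primeIdealOf x :=
      PrimeSpectrum.ext (le_antisymm hle hge)
    exact congrArg Subtype.val (primeIdealOf_injective hU heq)
  · intro h
    refine ⟨⟨(hU.primeIdealOf x).isPrime, bot_le⟩, ?_⟩
    rintro q ⟨hq, -⟩ hqx
    obtain ⟨y, hy⟩ := exists_primeIdealOf_eq hU ⟨q, hq⟩
    have hyx : (y : X) ⤳ (x : X) := by
      rw [← primeIdealOf_le_iff hU, hy]
      exact hqx
    have : y = x := Subtype.ext (h y hyx)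
    rw [← this, hy]

end Groth.Agent.Lib.Helper45
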