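import Groth.Agent.Lib.Helper45.WeakAssPoint
import Groth.Agent.Lib.Helper45.AffinePoints
import Groth.Prelude.Def_MeroSh
import Mathlib.Algebra.Category.ModuleCat.Sheaf.LocallyFree

/-!
# Nonzerodivisors, weakly associated points of the structure sheaf and maximal points

Shared library of helper45.  Everything lives in `Groth.Agent.Lib.Helper45`.
-/

set_option autoImplicit false
universe u
open CategoryTheory CategoryTheory.Limits AlgebraicGeometry TopologicalSpace

namespace Groth.Agent.Lib.Helper45

variable {X : Scheme.{u}}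

/-- The structure sheaf is quasi-coherent. -/
instance isQuasicoherent_structureModule (X : Scheme.{u}) :
    SheafOfModules.IsQuasicoherent.{u, u, u} (Coh.structureModule X) := by
  have e : SheafOfModules.free (R := X.ringCatSheaf) PUnit.{u+1} ≅
      SheafOfModules.unit X.ringCatSheaf :=
    Limits.coproductUniqueIso (fun _ : PUnit.{u+1} => SheafOfModules.unit X.ringCatSheaf)
  exact (SheafOfModules.isQuasicoherent X.ringCatSheaf).prop_of_iso e
    (inferInstanceAs (SheafOfModules.free (R := X.ringCatSheaf) PUnit.{u+1}).IsQuasicoherent)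

/-- For an affine open `U`, a point `x ∈ U` is weakly associated to `O_X` iff its prime is weakly
associated to the ring `Γ(X, U)`. -/
theorem isWeakAssPoint_structureModule_iff {U : X.Opens} (hU : IsAffineOpen U) (x : U) :
    Curv2.IsWeakAssPoint (Coh.structureModule X) (x : X) ↔
      (hU.primeIdealOf x).asIdeal ∈ FlatCA.weakAss Γ(X, U) Γ(X, U) :=
  isWeakAssPoint_iff_of_isAffineOpen hU (Coh.structureModule X) x

/-- A section over an affine open which is invertible at every weakly associated point is a
nonzerodivisor. -/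
theorem mem_nonZeroDivisors_of_isUnit_germ {U : X.Opens} (hU : IsAffineOpen U) (t : Γ(X, U))
    (h : ∀ x : U, Curv2.IsWeakAssPoint (Coh.structureModule X) (x : X) →
      IsUnit (X.presheaf.germ U x x.2 t)) : t ∈ nonZeroDivisors Γ(X, U) := by
  by_contra hcon
  have hreg : ¬ IsSMulRegular Γ(X, U) t := by
    intro hreg
    apply hcon
    rw [mem_nonZeroDivisors_iff_right]
    intro a ha
    apply hreg
    change t * a = t * 0
    rw [mul_zero, mul_comm]
    exact ha
  have hmem : t ∈ {f : Γ(X, U) | ¬ IsSMulRegular Γ(X, U) f} := hreg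
  rw [← biUnion_weakAss] at hmem
  simp only [Set.mem_iUnion, SetLike.mem_coe, exists_prop] at hmem
  obtain ⟨p, hp, htp⟩ := hmem
  have hpP : p.IsPrime := isPrime_of_mem_weakAss hp
  obtain ⟨x, hx⟩ := exists_primeIdealOf_eq hU ⟨p, hpP⟩
  have hxp : (hU.primeIdealOf x).asIdeal = p := congrArg PrimeSpectrum.asIdeal hx
  have hw : Curv2.IsWeakAssPoint (Coh.structureModule X) (x : X) := by
    rw [isWeakAssPoint_structureModule_iff hU x, hxp]
    exact hp
  have hu := h x hw
  have := hU.isLocalization_stalk x
  have hnot : t ∉ (hU.primeIdealOf x).asIdeal :=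
    (IsLocalization.AtPrime.isUnit_to_map_iff (X.presheaf.stalk (x : X))
      (hU.primeIdealOf x).asIdeal t).mp hu
  exact hnot (hxp ▸ htp)

/-- At a point without proper generizations, every non-unit of the local ring is nilpotent. -/
theorem isNilpotent_of_not_isUnit_of_maximal_point_aux {U : X.Opens} (hU : IsAffineOpen U)
    (x : U) (hy : ∀ y' : X, y' ⤳ (x : X) → y' = x)
    (a : X.presheaf.stalk (x : X)) (ha : ¬ IsUnit a) : IsNilpotent a := by
  have hmin := (primeIdealOf_mem_minimalPrimes_iff hU x).mpr hy
  have := hU.isLocalization_stalk x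
  have hrad := IsLocalization.AtPrime.radical_map_of_mem_minimalPrimes
    (A := X.presheaf.stalk (x : X)) (hU.primeIdealOf x).asIdeal ⊥ hmin
  rw [IsLocalization.AtPrime.map_eq_maximalIdeal (hU.primeIdealOf x).asIdeal
    (X.presheaf.stalk (x : X)), Ideal.map_bot] at hrad
  have hmem : a ∈ IsLocalRing.maximalIdeal (X.presheaf.stalk (x : X)) :=
    (IsLocalRing.mem_maximalIdeal a).mpr ha
  rw [← hrad] at hmem
  obtain ⟨n, hn⟩ := hmem
  exact ⟨n, hn⟩

theorem isNilpotent_of_not_isUnit_of_maximal_point (y : X) (hy : ∀ y' : X, y' ⤳ y → y' = y)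
    (a : X.presheaf.stalk y) (ha : ¬ IsUnit a) : IsNilpotent a := by
  obtain ⟨_, ⟨U, hU : IsAffineOpen U, rfl⟩, hyU, -⟩ :=
    X.isBasis_affineOpens.exists_subset_of_mem_open (Set.mem_univ y) isOpen_univ
  exact isNilpotent_of_not_isUnit_of_maximal_point_aux hU ⟨y, hyU⟩ hy a ha

/-- At a point without proper generizations, every nonzerodivisor of the local ring is a unit. -/
theorem isUnit_of_mem_nonZeroDivisors_of_maximal_point (y : X) (hy : ∀ y' : X, y' ⤳ y → y' = y)
    (a : X.presheaf.stalk y) (ha : a ∈ nonZeroDivisors (X.presheaf.stalk y)) : IsUnit a := by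
  by_contra hu
  obtain ⟨n, hn⟩ := isNilpotent_of_not_isUnit_of_maximal_point y hy a hu
  have h0 : (0 : X.presheaf.stalk y) ∈ nonZeroDivisors (X.presheaf.stalk y) := by
    rw [← hn]
    exact pow_mem ha n
  exact zero_notMem_nonZeroDivisors h0

end Groth.Agent.Lib.Helper45
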