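import Mathlib
import Groth.Agent.Lib.Helper30.ModEpi
import Groth.Agent.Lib.Helper49.StalkNbhd

/-!
# Epimorphisms of `O_X`-modules and stalks

* `epi_iff_isLocallySurjective`: `φ` is an epimorphism iff its map of presheaves is locally
  surjective;
* `epi_iff_stalkMap_surjective`: `φ` is an epimorphism iff it is surjective on all stalks.
-/

set_option autoImplicit false
universe u
open CategoryTheory CategoryTheory.Limits AlgebraicGeometry TopologicalSpace

namespace Groth.Agent.Lib.Helper45

open Groth.Agent.Lib.Helper49

variable {X : Scheme.{u}} {M N : X.Modules} (φ : M ⟶ N)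

theorem epi_iff_isLocallySurjective :
    Epi φ ↔ TopCat.Presheaf.IsLocallySurjective φ.mapPresheaf :=
  Groth.Agent.Lib.Helper30.ModEpi.epi_iff_isLocallySurjective (R := X.ringCatSheaf) φ

theorem epi_iff_stalkMap_surjective :
    Epi φ ↔ ∀ x : X, Function.Surjective (stalkMap φ x).hom := by
  rw [epi_iff_isLocallySurjective, TopCat.Presheaf.locally_surjective_iff_surjective_on_stalks]
  rfl

theorem stalkMap_surjective_of_epi [Epi φ] (x : X) : Function.Surjective (stalkMap φ x).hom :=
  (epi_iff_stalkMap_surjective φ).mp inferInstance x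

theorem epi_of_stalkMap_surjective (h : ∀ x : X, Function.Surjective (stalkMap φ x).hom) :
    Epi φ :=
  (epi_iff_stalkMap_surjective φ).mpr h

end Groth.Agent.Lib.Helper45
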