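import Mathlib
import Groth.Prelude.Def_Fitting
import Groth.Agent.Lib.Helper10.Fitting
import Groth.Agent.Lib.Helper45.FiniteType
import Groth.Agent.Lib.Helper45.QCohStalk

/-!
# Fitting ideal sheaves of quasi-coherent modules of finite type

For `F` quasi-coherent of finite type on a scheme `X`:
* `sheafIdeal_ideal`: `(Fitt.sheafIdeal F r).ideal U = Fitt.ideal Γ(X, U) Γ(F, U) r` for `U` affine;
* `stalk_fitt_eq_map`: the Fitting ideals of the stalk are the extensions of those of `Γ(F, U)`;
* `not_mem_support_sheafIdeal_iff`: `x ∉ V(Fit_r F)` iff `Fit_r(F_x) = ⊤`.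
-/

set_option autoImplicit false
universe u
open CategoryTheory CategoryTheory.Limits AlgebraicGeometry TopologicalSpace

namespace Groth.Agent.Lib.Helper45

open Groth.Agent.Lib.Helper10.Fitting

attribute [local instance] sectionsBasicOpenModule stalkModuleSections

variable {X : Scheme.{u}} (F : X.Modules) [F.IsQuasicoherent]
  [SheafOfModules.IsFiniteType (R := X.ringCatSheaf) F]

/-- The Fitting ideals of the modules of sections of `F` over affine opens form an ideal sheaf. -/
noncomputable def fittData (r : ℕ) : X.IdealSheafData where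
  ideal U := Fitt.ideal Γ(X, U.1) Γ(F, U.1) r
  map_ideal_basicOpen U f := by
    have := finite_sections_of_isFiniteType U.2 F
    have := U.2.isLocalization_basicOpen f
    have := isLocalizedModule_restrictBasicOpenₗ U.2 F f
    exact (fitt_isLocalizedModule (Submonoid.powers f) Γ(X, X.basicOpen f)
      (restrictBasicOpenₗ F f) r).symm

theorem sheafIdeal_eq_fittData (r : ℕ) : Fitt.sheafIdeal F r = fittData F r :=
  Scheme.IdealSheafData.ofIdeals_ideal (fittData F r)

theorem sheafIdeal_ideal (r : ℕ) (U : X.affineOpens) :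
    (Fitt.sheafIdeal F r).ideal U = Fitt.ideal Γ(X, U.1) Γ(F, U.1) r := by
  rw [sheafIdeal_eq_fittData]
  rfl

/-- Fitting ideals of the stalk. -/
theorem stalk_fitt_eq_map {U : X.Opens} (hU : IsAffineOpen U) (x : U) (r : ℕ) :
    Fitt.ideal (X.presheaf.stalk (x : X)) (F.presheaf.stalk (x : X)) r =
      (Fitt.ideal Γ(X, U) Γ(F, U) r).map (algebraMap Γ(X, U) (X.presheaf.stalk (x : X))) := by
  have := finite_sections_of_isFiniteType hU F
  have := hU.isLocalization_stalk x
  have := isLocalizedModule_germₗ hU F x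
  exact fitt_isLocalizedModule (hU.primeIdealOf x).asIdeal.primeCompl (X.presheaf.stalk (x : X))
    (germₗ F x) r

/-- The stalk of a quasi-coherent module of finite type is a finite module. -/
theorem finite_stalk {U : X.Opens} (hU : IsAffineOpen U) (x : U) :
    Module.Finite (X.presheaf.stalk (x : X)) (F.presheaf.stalk (x : X)) := by
  have := finite_sections_of_isFiniteType hU F
  have := hU.isLocalization_stalk x
  have := isLocalizedModule_germₗ hU F x
  exact Module.Finite.of_isLocalizedModule (hU.primeIdealOf x).asIdeal.primeCompl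
    (Rₚ := X.presheaf.stalk (x : X)) (germₗ F x)

/-- `x ∉ V(Fit_r F)` iff the `r`-th Fitting ideal of the stalk is the unit ideal. -/
theorem not_mem_support_sheafIdeal_iff {U : X.Opens} (hU : IsAffineOpen U) (x : U) (r : ℕ) :
    (x : X) ∉ (Fitt.sheafIdeal F r).support ↔
      Fitt.ideal (X.presheaf.stalk (x : X)) (F.presheaf.stalk (x : X)) r = ⊤ := by
  have hloc := hU.isLocalization_stalk x
  rw [Scheme.IdealSheafData.mem_support_iff_of_mem (U := ⟨U, hU⟩) x.2, sheafIdeal_ideal,
    stalk_fitt_eq_map F hU x r, Scheme.mem_zeroLocus_iff]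
  change ¬ (∀ f ∈ (Fitt.ideal Γ(X, U) Γ(F, U) r : Set Γ(X, U)), (x : X) ∉ X.basicOpen f) ↔ _
  constructor
  · intro h
    push Not at h
    obtain ⟨f, hf, hxf⟩ := h
    apply Ideal.eq_top_of_isUnit_mem _ (Ideal.mem_map_of_mem _ hf)
    exact (X.mem_basicOpen f x x.2).mp hxf
  · intro h hall
    have hne : (Fitt.ideal Γ(X, U) Γ(F, U) r).map
        (algebraMap Γ(X, U) (X.presheaf.stalk (x : X))) ≠ ⊤ := by
      rw [IsLocalization.map_algebraMap_ne_top_iff_disjoint (hU.primeIdealOf x).asIdeal.primeCompl]
      rw [Set.disjoint_left]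
      intro f hf hfI
      have := hall f hfI
      rw [mem_basicOpen_iff_not_mem_primeIdealOf hU x f, not_not] at this
      exact hf this
    exact hne h

/-- Over a local ring, the zeroth Fitting ideal of a finite module is the unit ideal iff the module
is zero. -/
theorem fitt_zero_eq_top_iff {A : Type*} [CommRing A] [IsLocalRing A] {N : Type*} [AddCommGroup N]
    [Module A N] [Module.Finite A N] : Fitt.ideal A N 0 = ⊤ ↔ Subsingleton N := by
  constructor
  · intro h
    obtain ⟨g, hg⟩ := exists_span_eq_top_of_fitt_eq_top h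
    have : Set.range g = ∅ := Set.range_eq_empty g
    rw [this, Submodule.span_empty] at hg
    exact (Submodule.subsingleton_iff A).mp (subsingleton_of_bot_eq_top hg)
  · intro h
    refine fitt_eq_top_of_span (n := 0) (fun i => i.elim0) ?_ le_rfl
    exact Subsingleton.elim _ _

/-- Every point lies outside `V(Fit_r F)` for `r` large. -/
theorem exists_not_mem_support_sheafIdeal (x : X) : ∃ r : ℕ, x ∉ (Fitt.sheafIdeal F r).support := by
  obtain ⟨_, ⟨U, hU : IsAffineOpen U, rfl⟩, hxU, -⟩ :=
    X.isBasis_affineOpens.exists_subset_of_mem_open (Set.mem_univ x) isOpen_univ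
  have := finite_stalk F hU ⟨x, hxU⟩
  obtain ⟨n, g, hg⟩ := Module.Finite.exists_fin (R := X.presheaf.stalk x)
    (M := F.presheaf.stalk x)
  exact ⟨n, (not_mem_support_sheafIdeal_iff F hU ⟨x, hxU⟩ n).mpr (fitt_eq_top_of_span g hg le_rfl)⟩

/-- `V(Fit_0 F)` is the support of `F`. -/
theorem mem_support_sheafIdeal_zero_iff (x : X) :
    x ∈ (Fitt.sheafIdeal F 0).support ↔ ¬ Subsingleton (F.presheaf.stalk x) := by
  obtain ⟨_, ⟨U, hU : IsAffineOpen U, rfl⟩, hxU, -⟩ :=
    X.isBasis_affineOpens.exists_subset_of_mem_open (Set.mem_univ x) isOpen_univ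
  have := finite_stalk F hU ⟨x, hxU⟩
  rw [← not_iff_not, not_not]
  rw [not_mem_support_sheafIdeal_iff F hU ⟨x, hxU⟩ 0]
  exact fitt_zero_eq_top_iff

/-- The Fitting ideals of a finitely presented module are finitely generated. -/
theorem fitt_fg_of_finitePresentation {A : Type*} [CommRing A] {N : Type*} [AddCommGroup N]
    [Module A N] [Module.FinitePresentation A N] (r : ℕ) : (Fitt.ideal A N r).FG := by
  classical
  obtain ⟨n, x, hx⟩ := Module.Finite.exists_fin (R := A) (M := N)
  have hsurj : Function.Surjective (Fintype.linearCombination A x) := by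
    rw [← LinearMap.range_eq_top, Fintype.range_linearCombination, hx]
  obtain ⟨S, hS⟩ := Module.FinitePresentation.fg_ker (Fintype.linearCombination A x) hsurj
  have hSrel : ∀ v ∈ (S : Set (Fin n → A)), v ∈ Rel A x := by
    intro v hv
    change v ∈ LinearMap.ker (Fintype.linearCombination A x)
    rw [← hS]
    exact Submodule.subset_span hv
  -- the finite set of admissible rows
  let S' : Set (Fin n → A) := (S : Set (Fin n → A)) ∪ Set.range (fun j : Fin n => Pi.single j 1)
  have hS'fin : S'.Finite := S.finite_toSet.union (Set.finite_range _)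
  let T : Set (Matrix (Fin n) (Fin n) A) := {a | (∀ i, a i ∈ S') ∧
    (Finset.univ.filter fun i => a i ∉ (S : Set (Fin n → A))).card ≤ r}
  have hTfin : T.Finite := by
    have h1 : (Set.pi Set.univ (fun _ : Fin n => S')).Finite := Set.Finite.pi fun _ => hS'fin
    refine h1.subset ?_
    intro a ha i _
    exact ha.1 i
  have heq : Fitt.ideal A N r = Ideal.span (Matrix.det '' T) := by
    rw [fitt_eq_G x hx r]
    apply le_antisymm
    · refine G_le_of_rel_le_span x r (S : Set (Fin n → A)) (le_of_eq hS.symm) _ ?_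
      intro a ha hcard
      apply Ideal.subset_span
      refine ⟨a, ⟨fun i => ?_, ?_⟩, rfl⟩
      · rcases ha i with h | ⟨j, hj⟩
        · exact Or.inl h
        · exact Or.inr ⟨j, hj.symm⟩
      · convert hcard
    · rw [Ideal.span_le]
      rintro _ ⟨a, ⟨-, hcard⟩, rfl⟩
      apply det_mem_G
      unfold nonRelCard
      refine le_trans (Finset.card_le_card ?_) hcard
      intro i hi
      rw [Finset.mem_filter] at hi ⊢
      exact ⟨hi.1, fun h => hi.2 (hSrel _ h)⟩
  rw [heq]
  exact ⟨(hTfin.image _).toFinset, by rw [Set.Finite.coe_toFinset]⟩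

end Groth.Agent.Lib.Helper45
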