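import Mathlib
import Groth.Agent.Lib.Helper45.FittSheaf
import Groth.Agent.Lib.Helper45.EpiStalk
import Groth.Agent.Lib.Helper49.FibreRank
import Groth.Agent.Lib.Helper49.FreeMod
import Groth.Agent.Lib.Helper49.RestrictStalk
import Groth.Agent.Lib.Helper49.StalkNbhd2

/-!
# Local generators of quasi-coherent modules of finite type

* `exists_basicOpen_generators_of_span_stalk`: generators of the stalk at `x` spread out to
  generating sections over a basic open neighbourhood of `x`;
* `epi_of_linearMap_surjective`: on an affine open, a morphism `M|_U ⟶ N|_U` of quasi-coherent modules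
  which is surjective on sections over `U` is an epimorphism;
* `exists_span_stalk_of_epi_freeMod`: an epimorphism `O_U^r ⟶ F|_U` gives `r` generators of the stalks
  of `F` at the points of `U`;
* `exists_epi_freeMod_of_span`: `r` generating sections over an affine open `V` give an epimorphism
  `O_V^r ⟶ F|_V`.
-/

set_option autoImplicit false
universe u
open CategoryTheory CategoryTheory.Limits AlgebraicGeometry TopologicalSpace

namespace Groth.Agent.Lib.Helper45

open Groth.Agent.Lib.Helper49

attribute [local instance] sectionsBasicOpenModule stalkModuleSections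

variable {X : Scheme.{u}}

/-- Generators of the stalk of a quasi-coherent module of finite type spread out to generating
sections over a basic open neighbourhood. -/
theorem exists_basicOpen_generators_of_span_stalk (M : X.Modules) [M.IsQuasicoherent]
    [SheafOfModules.IsFiniteType (R := X.ringCatSheaf) M] {V : X.Opens} (hV : IsAffineOpen V)
    (xV : V) {n : ℕ} (v : Fin n → ↑(M.presheaf.stalk (xV : X)))
    (hv : Submodule.span (X.presheaf.stalk (xV : X)) (Set.range v) = ⊤) :
    ∃ g : Γ(X, V), (xV : X) ∈ X.basicOpen g ∧ ∃ t : Fin n → Γ(M, X.basicOpen g),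
      Submodule.span Γ(X, X.basicOpen g) (Set.range t) = ⊤ := by
  have := isLocalizedModule_germₗ hV M xV
  have := hV.isLocalization_stalk xV
  have hfin : Module.Finite Γ(X, V) Γ(M, V) := finite_sections_of_isFiniteType hV M
  choose ns hns using fun i => IsLocalizedModule.surj (hV.primeIdealOf xV).asIdeal.primeCompl
    (germₗ M xV) (v i)
  let t : Fin n → Γ(M, V) := fun i => (ns i).1
  have hspan : Submodule.span (X.presheaf.stalk (xV : X))
      (Set.range fun i => germₗ M xV (t i)) = ⊤ := by
    rw [eq_top_iff, ← hv, Submodule.span_le]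
    rintro _ ⟨i, rfl⟩
    have hu : IsUnit (algebraMap Γ(X, V) (X.presheaf.stalk (xV : X)) (ns i).2) :=
      IsLocalization.map_units _ (ns i).2
    obtain ⟨u, hu⟩ := hu
    have h1 : v i = (↑u⁻¹ : X.presheaf.stalk (xV : X)) • germₗ M xV (t i) := by
      have h2 : germₗ M xV (t i) = (u : X.presheaf.stalk (xV : X)) • v i := by
        rw [hu, ← hns i, Submonoid.smul_def, algebraMap_smul]
      rw [h2, ← mul_smul, Units.inv_mul, one_smul]
    rw [h1]
    exact Submodule.smul_mem _ _ (Submodule.subset_span ⟨i, rfl⟩)
  obtain ⟨g, hgS, hg⟩ := exists_smul_mem_span_of_span_localized_eq_top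
    (hV.primeIdealOf xV).asIdeal.primeCompl (germₗ M xV) t hspan
  have hxg : (xV : X) ∈ X.basicOpen g :=
    (mem_basicOpen_iff_not_mem_primeIdealOf hV xV g).mpr hgS
  have := hV.isLocalization_basicOpen g
  have := isLocalizedModule_restrictBasicOpenₗ hV M g
  refine ⟨g, hxg, fun i => restrictBasicOpenₗ M g (t i), ?_⟩
  exact span_localized_eq_top (Submonoid.powers g) (restrictBasicOpenₗ M g) t
    fun n => ⟨g, Submonoid.mem_powers g, hg n⟩

/-- On an affine open `U`, a morphism `M|_U ⟶ N|_U` of quasi-coherent modules inducing a surjective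
map on sections over `U` is an epimorphism. -/
theorem epi_of_linearMap_surjective {U : X.Opens} (hU : IsAffineOpen U) (M N : X.Modules)
    [M.IsQuasicoherent] [N.IsQuasicoherent] (h : Γ(M, U) →ₗ[Γ(X, U)] Γ(N, U))
    (hsurj : Function.Surjective h) (φ : M.restrict U.ι ⟶ N.restrict U.ι)
    (hφ : ∀ m : Γ(M, U), φ.app ⊤ (M.presheaf.map (eqToHom U.ι_image_top).op m) =
        N.presheaf.map (eqToHom U.ι_image_top).op (h m)) : Epi φ := by
  have : (M.restrict U.ι).IsQuasicoherent := Scheme.Modules.isQuasicoherent_restrictFunctor _ _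
  have : (N.restrict U.ι).IsQuasicoherent := Scheme.Modules.isQuasicoherent_restrictFunctor _ _
  have hY : IsAffineOpen (⊤ : (↑U : Scheme.{u}).Opens) := by
    have : IsAffine (↑U : Scheme.{u}) := hU
    exact isAffineOpen_top _
  have happ : Function.Surjective (Helper49.appₗ φ (⊤ : (↑U : Scheme.{u}).Opens)) := by
    intro n'
    obtain ⟨m, hm⟩ := hsurj (N.presheaf.map (eqToHom U.ι_image_top.symm).op n')
    refine ⟨M.presheaf.map (eqToHom U.ι_image_top).op m, ?_⟩
    change φ.app ⊤ (M.presheaf.map (eqToHom U.ι_image_top).op m) = n'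
    rw [hφ, hm]
    exact map_map_id N _ _ n'
  apply epi_of_stalkMap_surjective
  intro y
  obtain ⟨yT, rfl⟩ : ∃ yT : (⊤ : (↑U : Scheme.{u}).Opens), (yT : (↑U : Scheme.{u})) = y :=
    ⟨⟨y, trivial⟩, rfl⟩
  have h1 := stalkMapₗ_eq_map φ hY yT
  have := isLocalizedModule_germₗ hY (M.restrict U.ι) yT
  have := isLocalizedModule_germₗ hY (N.restrict U.ι) yT
  have h2 : Function.Surjective (stalkMapₗ φ yT) := by
    rw [h1]
    exact IsLocalizedModule.map_surjective _ _ _ _ happ
  exact h2

/-- The image of a spanning family under the stalk map of an epimorphism between restrictions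
to an open is spanning. -/
theorem span_conjStalkMap_eq_top_of_epi {U : X.Opens} {M N : X.Modules}
    (φ : M.restrict U.ι ⟶ N.restrict U.ι) [Epi φ] (y : (↑U : Scheme.{u})) {ι : Type*}
    (v : ι → ↑(M.presheaf.stalk (U.ι y)))
    (hv : Submodule.span (X.presheaf.stalk (U.ι y)) (Set.range v) = ⊤) :
    Submodule.span (X.presheaf.stalk (U.ι y))
      (Set.range fun i => conjStalkMapLinear U.ι φ y (v i)) = ⊤ := by
  have hsurj : Function.Surjective (conjStalkMapLinear U.ι φ y) := by
    have h1 : Function.Surjective (restrictStalkIso U.ι N y).hom.hom :=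
      (restrictStalkIso_hom_bijective U.ι N y).2
    have h2 : Function.Surjective (stalkMap φ y).hom := stalkMap_surjective_of_epi φ y
    have h3 : Function.Surjective (restrictStalkIso U.ι M y).inv.hom := by
      intro b
      refine ⟨(restrictStalkIso U.ι M y).hom.hom b, ?_⟩
      rw [← ConcreteCategory.comp_apply, Iso.hom_inv_id]
      rfl
    exact h1.comp (h2.comp h3)
  have h4 : (Set.range fun i => conjStalkMapLinear U.ι φ y (v i)) =
      (conjStalkMapLinear U.ι φ y) '' Set.range v := by
    rw [← Set.range_comp]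
    rfl
  rw [h4, ← Submodule.map_span, hv, Submodule.map_top, LinearMap.range_eq_top.mpr hsurj]

/-- The stalks of `O_X^n` are generated by `n` elements. -/
theorem exists_span_stalk_freeMod (n : ℕ) (x : X) :
    ∃ v : Fin n → ↑((FlatMod.freeMod X n).presheaf.stalk x),
      Submodule.span (X.presheaf.stalk x) (Set.range v) = ⊤ := by
  obtain ⟨_, ⟨W, hW : IsAffineOpen W, rfl⟩, hxW, -⟩ :=
    X.isBasis_affineOpens.exists_subset_of_mem_open (Set.mem_univ x) isOpen_univ
  obtain ⟨xW, rfl⟩ : ∃ xW : W, (xW : X) = x := ⟨⟨x, hxW⟩, rfl⟩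
  let e := sectionsFreeEquiv X n W
  let t : Fin n → Γ(FlatMod.freeMod X n, W) := fun i => e.symm (Pi.single i 1)
  have ht : Submodule.span Γ(X, W) (Set.range t) = ⊤ := by
    have hb : Submodule.span Γ(X, W) (Set.range fun i : Fin n =>
        (Pi.single i 1 : Fin n → Γ(X, W))) = ⊤ := by
      have := (Pi.basisFun Γ(X, W) (Fin n)).span_eq
      convert this using 3
      funext j
      rw [Pi.basisFun_apply]
    have h1 : Set.range t = e.symm '' Set.range fun i : Fin n =>
        (Pi.single i 1 : Fin n → Γ(X, W)) := by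
      rw [← Set.range_comp]
      rfl
    rw [h1]
    have h2 := Submodule.map_span e.symm.toLinearMap (Set.range fun i : Fin n =>
        (Pi.single i 1 : Fin n → Γ(X, W)))
    change Submodule.span Γ(X, W) (e.symm.toLinearMap '' _) = ⊤
    rw [← h2, hb, Submodule.map_top, LinearMap.range_eq_top]
    exact e.symm.surjective
  exact ⟨_, span_germ_eq_top hW (FlatMod.freeMod X n) t ht xW⟩

/-- An epimorphism `O_U^r ⟶ F|_U` gives `r` generators of the stalk of `F` at each point of `U`. -/
theorem exists_span_stalk_of_epi_freeMod {U : X.Opens} (F : X.Modules) (r : ℕ)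
    (π : FlatMod.freeMod (↑U) r ⟶ F.restrict U.ι) [Epi π] (x : X) (hx : x ∈ U) :
    ∃ w : Fin r → ↑(F.presheaf.stalk x),
      Submodule.span (X.presheaf.stalk x) (Set.range w) = ⊤ := by
  obtain ⟨y, rfl⟩ := exists_ι_eq U x hx
  let φ : (FlatMod.freeMod X r).restrict U.ι ⟶ F.restrict U.ι := (restrictFreeIso r U.ι).hom ≫ π
  have : Epi φ := epi_comp _ _
  obtain ⟨v, hv⟩ := exists_span_stalk_freeMod (X := X) r (U.ι y)
  exact ⟨_, span_conjStalkMap_eq_top_of_epi φ y v hv⟩

/-- Generating sections over an affine open give an epimorphism from a free module. -/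
theorem exists_epi_freeMod_of_span {V : X.Opens} (hV : IsAffineOpen V) (F : X.Modules)
    [F.IsQuasicoherent] {r : ℕ} (t : Fin r → Γ(F, V))
    (ht : Submodule.span Γ(X, V) (Set.range t) = ⊤) :
    ∃ π : FlatMod.freeMod (↑V) r ⟶ F.restrict V.ι, Epi π := by
  let L : (Fin r → Γ(X, V)) →ₗ[Γ(X, V)] Γ(F, V) := Fintype.linearCombination Γ(X, V) t
  have hL : Function.Surjective L := by
    rw [← LinearMap.range_eq_top, Fintype.range_linearCombination, ht]
  let h : Γ(FlatMod.freeMod X r, V) →ₗ[Γ(X, V)] Γ(F, V) :=
    L ∘ₗ (sectionsFreeEquiv X r V).toLinearMap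
  have hh : Function.Surjective h := hL.comp (sectionsFreeEquiv X r V).surjective
  obtain ⟨φ, hφ⟩ := exists_hom_restrict_of_linearMap hV (FlatMod.freeMod X r) F h
  have : Epi φ := epi_of_linearMap_surjective hV (FlatMod.freeMod X r) F h hh φ hφ
  exact ⟨(restrictFreeIso r V.ι).inv ≫ φ, epi_comp _ _⟩

open Groth.Agent.Lib.Helper10.Fitting in
/-- The coefficients of a relation among `r` generators lie in the `(r-1)`-st Fitting ideal. -/
theorem coeff_mem_fitt_of_rel {A : Type*} [CommRing A] {N : Type*} [AddCommGroup N] [Module A N]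
    {r : ℕ} (t : Fin r → N) (ht : Submodule.span A (Set.range t) = ⊤) (a : Fin r → A)
    (ha : ∑ i, a i • t i = 0) (j : Fin r) : a j ∈ Fitt.ideal A N (r - 1) := by
  classical
  rw [fitt_eq_G t ht (r - 1)]
  let B : Matrix (Fin r) (Fin r) A := (1 : Matrix (Fin r) (Fin r) A).updateRow j a
  have hdet : B.det = a j := by
    rw [← Matrix.cramer_transpose_apply, Matrix.transpose_one, Matrix.cramer_one]
    rfl
  rw [← hdet]
  apply det_mem_G
  unfold nonRelCard
  have hsub : (Finset.univ.filter fun i => B i ∉ Rel A t) ⊆ Finset.univ.erase j := by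
    intro i hi
    rw [Finset.mem_filter] at hi
    rw [Finset.mem_erase]
    refine ⟨fun hij => hi.2 ?_, Finset.mem_univ i⟩
    subst hij
    rw [mem_Rel]
    have : B i = a := Matrix.updateRow_self
    rw [this]
    exact ha
  refine le_trans (Finset.card_le_card hsub) ?_
  rw [Finset.card_erase_of_mem (Finset.mem_univ j), Finset.card_univ, Fintype.card_fin]

/-- Generators whose relations are killed by a vanishing Fitting ideal form a basis. -/
theorem nonempty_linearEquiv_of_span_of_fitt_eq_bot {A : Type*} [CommRing A] {N : Type*}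
    [AddCommGroup N] [Module A N] {r : ℕ} (t : Fin r → N)
    (ht : Submodule.span A (Set.range t) = ⊤) (h0 : Fitt.ideal A N (r - 1) = ⊥ ∨ r = 0) :
    Nonempty (N ≃ₗ[A] (Fin r → A)) := by
  let L : (Fin r → A) →ₗ[A] N := Fintype.linearCombination A t
  have hsurj : Function.Surjective L := by
    rw [← LinearMap.range_eq_top, Fintype.range_linearCombination, ht]
  have hinj : Function.Injective L := by
    rw [← LinearMap.ker_eq_bot, LinearMap.ker_eq_bot']
    intro a ha
    funext j
    rcases h0 with h0 | h0
    · have := coeff_mem_fitt_of_rel t ht a (by simpa [L, Fintype.linearCombination_apply] using ha) j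
      rw [h0] at this
      exact this
    · subst h0
      exact j.elim0
  exact ⟨(LinearEquiv.ofBijective L ⟨hinj, hsurj⟩).symm⟩

end Groth.Agent.Lib.Helper45
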