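import Groth.Agent.Lib.Helper45.ModulesBasic
import Mathlib.Algebra.Homology.ShortComplex.Ab
import Mathlib.Algebra.Homology.ShortComplex.ShortExact
import Mathlib.CategoryTheory.Limits.FunctorCategory.Basic

/-!
# Left exactness of sections of `O_X`-modules

Shared library of helper45.  Everything lives in `Groth.Agent.Lib.Helper45`.
-/

set_option autoImplicit false
universe u
open CategoryTheory CategoryTheory.Limits AlgebraicGeometry TopologicalSpace

namespace Groth.Agent.Lib.Helper45

variable {X : Scheme.{u}}

/-- Sections over `U` as a functor to abelian groups. -/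
noncomputable def sectionsFunctor (X : Scheme.{u}) (U : X.Opens) : X.Modules ⥤ Ab.{u} :=
  Scheme.Modules.toPresheaf X ⋙ (evaluation _ _).obj (Opposite.op U)

noncomputable instance (U : X.Opens) : PreservesLimits (sectionsFunctor X U) :=
  have : PreservesLimitsOfSize.{u, u} ((evaluation (Opens ↥X)ᵒᵖ Ab.{u}).obj (Opposite.op U)) :=
    inferInstance
  comp_preservesLimits (Scheme.Modules.toPresheaf X)
    ((evaluation (Opens ↥X)ᵒᵖ Ab.{u}).obj (Opposite.op U))

instance (U : X.Opens) : (sectionsFunctor X U).PreservesZeroMorphisms where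
  map_zero _ _ := rfl

@[simp] theorem sectionsFunctor_map {F G : X.Modules} (φ : F ⟶ G) (U : X.Opens) :
    (sectionsFunctor X U).map φ = φ.app U := rfl

theorem app_injective_of_mono {F G : X.Modules} (φ : F ⟶ G) [Mono φ] (U : X.Opens) :
    Function.Injective (φ.app U) := by
  have : Mono ((sectionsFunctor X U).map φ) := inferInstance
  exact (AddCommGrpCat.mono_iff_injective _).mp this

theorem app_exact_of_shortExact (S : ShortComplex X.Modules) (hS : S.ShortExact) (U : X.Opens) :
    Function.Exact (S.f.app U) (S.g.app U) := by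
  have h := hS.exact.map_of_mono_of_preservesKernel (sectionsFunctor X U) hS.mono_f inferInstance
  exact (ShortComplex.ab_exact_iff_function_exact _).mp h

/-- The map on sections over `U` as a `Γ(X, U)`-linear map. -/
noncomputable def appₗ {F G : X.Modules} (φ : F ⟶ G) (U : X.Opens) : Γ(F, U) →ₗ[Γ(X, U)] Γ(G, U) where
  toFun := φ.app U
  map_add' := map_add _
  map_smul' r m := Scheme.Modules.Hom.app_smul φ r m

@[simp] theorem appₗ_apply {F G : X.Modules} (φ : F ⟶ G) (U : X.Opens) (m : Γ(F, U)) :
    appₗ φ U m = φ.app U m := rfl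

end Groth.Agent.Lib.Helper45
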