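import Mathlib
import Groth.Prelude.Def_BlowUp2
import Groth.Agent.Lib.Helper45.FittGen
import Groth.Agent.Lib.Helper45.ModulesBasic
import Groth.Agent.Lib.Helper45.ModulesExact
import Groth.Agent.Lib.Helper49.QCohLocal
import Groth.Agent.Lib.Helper49.CohNoeth
import Groth.Agent.Lib.Helper49.FinLocFreeRetract
import Groth.Agent.S6914
import Groth.Agent.S6915

/-!
# Generating a (not necessarily quasi-coherent) quotient of a quasi-coherent module

Tools for strict transforms: `π : N ⟶ G` an epimorphism with `N` quasi-coherent, `G` arbitrary.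

* `epi_comp_of_forall_exists`: on an affine scheme, `φ₀ ≫ π'` is an epimorphism as soon as every
  global section of `N'` agrees, after `π'`, with the image of a global section of the source;
* `exists_epi_freeMod_of_forall_exists`: sections `t i` of `N` over an affine open `U` which generate
  `Γ(N, U)` modulo the kernel of `π` give an epimorphism `O_U^k ⟶ G|_U`.
-/

set_option autoImplicit false
set_option linter.style.haveILetI false
universe u
open CategoryTheory CategoryTheory.Limits AlgebraicGeometry TopologicalSpace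

namespace Groth.Agent.Lib.Helper45

open Groth.Agent.Lib.Helper49

attribute [local instance] sectionsBasicOpenModule stalkModuleSections

/-- On an affine scheme: if `N'` is quasi-coherent, `π' : N' ⟶ G'` is an epimorphism and every global
section of `N'` has the same image under `π'` as some `φ₀ e`, then `φ₀ ≫ π'` is an epimorphism. -/
theorem epi_comp_of_forall_exists {Y : Scheme.{u}} [IsAffine Y] {F' N' G' : Y.Modules}
    [N'.IsQuasicoherent] (φ₀ : F' ⟶ N') (π' : N' ⟶ G') [Epi π']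
    (h : ∀ m' : Γ(N', ⊤), ∃ e : Γ(F', ⊤), π'.app ⊤ (φ₀.app ⊤ e) = π'.app ⊤ m') :
    Epi (φ₀ ≫ π') := by
  refine epi_of_stalkMap_surjective _ (fun y z => ?_)
  obtain ⟨n, rfl⟩ := stalkMap_surjective_of_epi π' y z
  obtain ⟨yT, rfl⟩ : ∃ yT : (⊤ : Y.Opens), (yT : Y) = y := ⟨⟨y, trivial⟩, rfl⟩
  have hspan := span_germ_eq_top (isAffineOpen_top Y) N' (fun m' : Γ(N', ⊤) => m')
    (by rw [Set.range_id']; exact Submodule.span_univ) yT
  have hn : n ∈ Submodule.span (Y.presheaf.stalk (yT : Y))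
      (Set.range fun m' : Γ(N', ⊤) => germₗ N' yT m') := by
    rw [hspan]; exact Submodule.mem_top
  have key : (stalkMapLinear π' (yT : Y)) n ∈
      LinearMap.range (stalkMapLinear (φ₀ ≫ π') (yT : Y)) := by
    induction hn using Submodule.span_induction with
    | mem x hx =>
      obtain ⟨m', rfl⟩ := hx
      obtain ⟨e, he⟩ := h m'
      refine ⟨F'.presheaf.germ ⊤ (yT : Y) yT.2 e, ?_⟩
      change (stalkMap (φ₀ ≫ π') (yT : Y)).hom _ =
        (stalkMap π' (yT : Y)).hom (N'.presheaf.germ ⊤ (yT : Y) yT.2 m')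
      rw [stalkMap_germ, stalkMap_germ, ← he]
      rfl
    | zero => rw [map_zero]; exact zero_mem _
    | add a b _ _ ha hb => rw [map_add]; exact add_mem ha hb
    | smul r a _ ha => rw [map_smul]; exact Submodule.smul_mem _ _ ha
  obtain ⟨w, hw⟩ := key
  exact ⟨w, hw⟩

/-- Sections `t i` of the quasi-coherent module `N` over an affine open `U` which generate `Γ(N, U)`
modulo the kernel of the epimorphism `π : N ⟶ G` give an epimorphism `O_U^k ⟶ G|_U`; `G` need not be
quasi-coherent. -/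
theorem exists_epi_freeMod_of_forall_exists {X : Scheme.{u}} {U : X.Opens} (hU : IsAffineOpen U)
    (N G : X.Modules) [N.IsQuasicoherent] (π : N ⟶ G) [Epi π] {k : ℕ} (t : Fin k → Γ(N, U))
    (ht : ∀ m : Γ(N, U), ∃ c : Fin k → Γ(X, U), π.app U (∑ i, c i • t i) = π.app U m) :
    ∃ q : FlatMod.freeMod (↑U) k ⟶ G.restrict U.ι, Epi q := by
  let L : (Fin k → Γ(X, U)) →ₗ[Γ(X, U)] Γ(N, U) := Fintype.linearCombination Γ(X, U) t
  let h : Γ(FlatMod.freeMod X k, U) →ₗ[Γ(X, U)] Γ(N, U) :=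
    L ∘ₗ (sectionsFreeEquiv X k U).toLinearMap
  obtain ⟨φ₀, hφ₀⟩ := exists_hom_restrict_of_linearMap hU (FlatMod.freeMod X k) N h
  let π' : N.restrict U.ι ⟶ G.restrict U.ι := (Scheme.Modules.restrictFunctor U.ι).map π
  haveI : Epi π' := inferInstanceAs (Epi ((Scheme.Modules.restrictFunctor U.ι).map π))
  haveI : IsAffine (↑U : Scheme.{u}) := hU
  haveI : (N.restrict U.ι).IsQuasicoherent := Scheme.Modules.isQuasicoherent_restrictFunctor _ _
  have hepi : Epi (φ₀ ≫ π') := by
    refine epi_comp_of_forall_exists φ₀ π' (fun m' => ?_)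
    obtain ⟨c, hc⟩ := ht (N.presheaf.map (eqToHom U.ι_image_top.symm).op m')
    refine ⟨(FlatMod.freeMod X k).presheaf.map (eqToHom U.ι_image_top).op
      ((sectionsFreeEquiv X k U).symm c), ?_⟩
    rw [hφ₀]
    have hh : h ((sectionsFreeEquiv X k U).symm c) = ∑ i, c i • t i := by
      simp [h, L, Fintype.linearCombination_apply]
    rw [hh]
    change π.app (U.ι ''ᵁ ⊤) _ = π.app (U.ι ''ᵁ ⊤) _
    rw [app_map, hc, ← app_map, map_map_id]
  exact ⟨(restrictFreeIso k U.ι).inv ≫ φ₀ ≫ π', epi_comp _ _⟩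

/-- Sections `x i` of the quasi-coherent module `N` over an affine open `V` which generate
`Γ(N, V)` modulo the kernel of `π` up to powers of `g` give an epimorphism `O^k ⟶ G` over `D(g)`. -/
theorem exists_epi_freeMod_basicOpen {X : Scheme.{u}} {V : X.Opens} (hV : IsAffineOpen V)
    (N G : X.Modules) [N.IsQuasicoherent] (π : N ⟶ G) [Epi π] (g : Γ(X, V)) {k : ℕ}
    (x : Fin k → Γ(N, V))
    (hx : ∀ m : Γ(N, V), ∃ (j : ℕ) (c : Fin k → Γ(X, V)),
      π.app V (g ^ j • m) = π.app V (∑ i, c i • x i)) :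
    ∃ q : FlatMod.freeMod (↑(X.basicOpen g)) k ⟶ G.restrict (X.basicOpen g).ι, Epi q := by
  set D := X.basicOpen g with hD
  let ι : D ⟶ V := homOfLE (X.basicOpen_le g)
  refine exists_epi_freeMod_of_forall_exists (hV.basicOpen g) N G π
    (fun i => N.presheaf.map ι.op (x i)) (fun m' => ?_)
  obtain ⟨l, m, hm⟩ := exists_restrict_eq_pow_smul hV N g m'
  obtain ⟨j, c, hc⟩ := hx m
  have hunit : IsUnit (X.presheaf.map ι.op g) := RingedSpace.isUnit_res_basicOpen X.toRingedSpace g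
  obtain ⟨u, hu⟩ := hunit
  refine ⟨fun i => (↑u⁻¹ : Γ(X, D)) ^ (j + l) * X.presheaf.map ι.op (c i), ?_⟩
  have h1 : π.app D (∑ i, X.presheaf.map ι.op (c i) • N.presheaf.map ι.op (x i)) =
      π.app D ((X.presheaf.map ι.op g) ^ (j + l) • m') := by
    have e1 : ∑ i, X.presheaf.map ι.op (c i) • N.presheaf.map ι.op (x i) =
        N.presheaf.map ι.op (∑ i, c i • x i) := by
      rw [map_sum]
      exact Finset.sum_congr rfl fun i _ => (Scheme.Modules.map_smul N ι (c i) (x i)).symm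
    have e2 : (X.presheaf.map ι.op g) ^ (j + l) • m' = N.presheaf.map ι.op (g ^ j • m) := by
      rw [Scheme.Modules.map_smul, map_pow]
      change _ = _ • N.presheaf.map (homOfLE (X.basicOpen_le g)).op m
      rw [hm, smul_smul, ← pow_add]
    rw [e1, e2, app_map, app_map, hc]
  calc π.app D (∑ i, ((↑u⁻¹ : Γ(X, D)) ^ (j + l) * X.presheaf.map ι.op (c i)) •
        N.presheaf.map ι.op (x i))
      = π.app D ((↑u⁻¹ : Γ(X, D)) ^ (j + l) •
          ∑ i, X.presheaf.map ι.op (c i) • N.presheaf.map ι.op (x i)) := by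
        rw [Finset.smul_sum]
        simp only [mul_smul]
    _ = (↑u⁻¹ : Γ(X, D)) ^ (j + l) • π.app D ((X.presheaf.map ι.op g) ^ (j + l) • m') := by
        rw [Scheme.Modules.Hom.app_smul, h1]
    _ = π.app D m' := by
        rw [← Scheme.Modules.Hom.app_smul, smul_smul, ← mul_pow, ← hu, Units.inv_mul, one_pow,
          one_smul]

section Algebra

open Groth.Agent.Lib.Helper10.Fitting

/-- If `Fit_k(M' / T)` is the unit ideal then near every prime `p` the quotient `M' / T` is generated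
by `k` elements: there are `g ∉ p` and `x : Fin k → M'` with `g • M' ⊆ span x + T`. -/
theorem exists_generators_mod_of_fitt_eq_top {B : Type u} [CommRing B] {M' : Type u}
    [AddCommGroup M'] [Module B M'] [Module.Finite B M'] (T : Submodule B M') {k : ℕ}
    (hfit : Fitt.ideal B (M' ⧸ T) k = ⊤) (p : Ideal B) [p.IsPrime] :
    ∃ g : B, g ∉ p ∧ ∃ x : Fin k → M', ∀ m : M', ∃ c : Fin k → B,
      g • m - ∑ i, c i • x i ∈ T := by
  classical
  have hloc : Fitt.ideal (Localization.AtPrime p) (LocalizedModule p.primeCompl (M' ⧸ T)) k = ⊤ := by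
    rw [fitt_isLocalizedModule p.primeCompl (Localization.AtPrime p)
      (LocalizedModule.mkLinearMap p.primeCompl (M' ⧸ T)) k, hfit, Ideal.map_top]
  obtain ⟨g₀, hg₀⟩ := exists_span_eq_top_of_fitt_eq_top hloc
  have hex : ∀ i, ∃ (m : M' ⧸ T) (s : p.primeCompl), g₀ i = LocalizedModule.mk m s := by
    intro i
    induction g₀ i using LocalizedModule.induction_on with
    | h m s => exact ⟨m, s, rfl⟩
  choose q s hqs using hex
  let P : Submodule B (M' ⧸ T) := Submodule.span B (Set.range q)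
  let φ := LocalizedModule.mkLinearMap p.primeCompl (M' ⧸ T)
  have hPtop : P.localized' (Localization.AtPrime p) p.primeCompl φ = ⊤ := by
    rw [eq_top_iff, ← hg₀, Submodule.span_le]
    rintro _ ⟨i, rfl⟩
    refine ⟨q i, Submodule.subset_span ⟨i, rfl⟩, s i, ?_⟩
    rw [hqs i, IsLocalizedModule.mk_eq_mk']
  have hA : ∀ y : M' ⧸ T, ∃ u : B, u ∉ p ∧ u • y ∈ P := by
    intro y
    have hy : φ y ∈ P.localized' (Localization.AtPrime p) p.primeCompl φ := by
      rw [hPtop]; exact Submodule.mem_top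
    obtain ⟨p₀, hp₀, t, ht⟩ := hy
    rw [IsLocalizedModule.mk'_eq_iff, Submonoid.smul_def, ← map_smul] at ht
    obtain ⟨c, hc⟩ := (IsLocalizedModule.eq_iff_exists p.primeCompl φ).mp ht
    refine ⟨(c : B) * (t : B), (c * t).2, ?_⟩
    rw [mul_smul]
    have : (c : B) • ((t : B) • y) = (c : B) • p₀ := hc.symm
    rw [this]
    exact P.smul_mem _ hp₀
  obtain ⟨n, y, hy⟩ := Module.Finite.exists_fin (R := B) (M := M' ⧸ T)
  choose u hu huP using fun a => hA (y a)
  refine ⟨∏ a, u a, ?_, ?_⟩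
  · intro hmem
    obtain ⟨a, -, ha⟩ := (Ideal.IsPrime.prod_mem_iff).mp hmem
    exact hu a ha
  have hgP : ∀ z : M' ⧸ T, (∏ a, u a) • z ∈ P := by
    intro z
    have hz : z ∈ Submodule.span B (Set.range y) := by rw [hy]; exact Submodule.mem_top
    induction hz using Submodule.span_induction with
    | mem w hw =>
      obtain ⟨a, rfl⟩ := hw
      rw [← Finset.prod_erase_mul _ _ (Finset.mem_univ a), mul_smul]
      exact P.smul_mem _ (huP a)
    | zero => rw [smul_zero]; exact zero_mem _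
    | add a b _ _ ha hb => rw [smul_add]; exact add_mem ha hb
    | smul r a _ ha => rw [smul_comm]; exact P.smul_mem _ ha
  choose x hx using fun i => T.mkQ_surjective (q i)
  refine ⟨x, fun m => ?_⟩
  obtain ⟨c, hc⟩ := (Submodule.mem_span_range_iff_exists_fun B).mp (hgP (T.mkQ m))
  refine ⟨c, ?_⟩
  rw [← Submodule.Quotient.mk_eq_zero, Submodule.Quotient.mk_sub, Submodule.Quotient.mk_smul]
  change (∏ a, u a) • T.mkQ m - T.mkQ (∑ i, c i • x i) = 0
  rw [map_sum, ← hc, sub_eq_zero]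
  refine Finset.sum_congr rfl fun i _ => ?_
  rw [map_smul, hx]

end Algebra

section MonoBasis

/-- A morphism of modules which is injective on sections over every member of a basis of opens is a
monomorphism. -/
theorem mono_of_app_injective_of_isBasis {Y : Scheme.{u}} {P Q : Y.Modules} (ψ : P ⟶ Q)
    (B : Set Y.Opens) (hB : TopologicalSpace.Opens.IsBasis B)
    (h : ∀ W ∈ B, ∀ e : Γ(P, W), ψ.app W e = 0 → e = 0) : Mono ψ := by
  refine mono_of_stalkMap_injective ψ (fun y => ?_)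
  rw [injective_iff_map_eq_zero]
  intro a ha
  obtain ⟨U₀, hyU₀, e₀, rfl⟩ := TopCat.Presheaf.exists_germ_eq P.presheaf a
  rw [stalkMap_germ] at ha
  have h0 : Q.presheaf.germ U₀ y hyU₀ (ψ.app U₀ e₀) = Q.presheaf.germ U₀ y hyU₀ 0 := by
    rw [ha, map_zero]
  obtain ⟨W₁, hyW₁, i₁, i₂, hres⟩ := TopCat.Presheaf.germ_eq Q.presheaf y hyU₀ hyU₀ _ _ h0
  obtain ⟨W, hWB, hyW, hWW₁⟩ := TopologicalSpace.Opens.isBasis_iff_nbhd.mp hB hyW₁
  have hW0 : ψ.app W (P.presheaf.map (homOfLE hWW₁ ≫ i₁).op e₀) = 0 := by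
    rw [app_map, op_comp, Functor.map_comp, ConcreteCategory.comp_apply, hres, map_zero, map_zero]
  have := h W hWB _ hW0
  rw [← TopCat.Presheaf.germ_res_apply P.presheaf (homOfLE hWW₁ ≫ i₁) y hyW e₀, this, map_zero]

end MonoBasis

section Regular

/-- The restriction of a nonzerodivisor to a smaller affine open is a nonzerodivisor. -/
theorem restrict_mul_eq_zero_of_nonZeroDivisor {X : Scheme.{u}} {V W : X.Opens}
    (hV : IsAffineOpen V) (hW : IsAffineOpen W) (hWV : W ≤ V) {f : Γ(X, V)}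
    (hf : f ∈ nonZeroDivisors Γ(X, V)) (a : Γ(X, W))
    (ha : X.presheaf.map (homOfLE hWV).op f * a = 0) : a = 0 := by
  have e : W ≤ (𝟙 X : X ⟶ X) ⁻¹ᵁ V := hWV
  have hflat : (Scheme.Hom.appLE (𝟙 X : X ⟶ X) V W e).hom.Flat :=
    Scheme.Hom.flat_appLE (𝟙 X : X ⟶ X) hV hW e
  have happ : Scheme.Hom.appLE (𝟙 X : X ⟶ X) V W e = X.presheaf.map (homOfLE hWV).op := by
    simp only [Scheme.Hom.appLE, Scheme.Hom.id_app]
    rfl
  rw [happ] at hflat
  letI := (X.presheaf.map (homOfLE hWV).op).hom.toAlgebra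
  have hflat' : Module.Flat Γ(X, V) Γ(X, W) := hflat
  have hreg : IsSMulRegular Γ(X, W) f := Module.Flat.isSMulRegular_of_nonZeroDivisors hf
  apply hreg
  change f • a = f • (0 : Γ(X, W))
  rw [smul_zero]
  exact ha

end Regular

section IsoCriterion

/-- Iso criterion for a (not necessarily quasi-coherent) quotient `π : N ⟶ G` of a quasi-coherent
module over an affine open `U`: sections `t i` of `N` over `U` and a retraction `r` of the induced
map `Γ(X, U)^k → Γ(N, U)`, such that `m - ∑ (r m) i • t i` lies in the kernel of `π` and such that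
sections in the kernel of `π` over affine opens `W ≤ U` are killed by a nonzerodivisor,
trivialise `G` over `U`. -/
theorem nonempty_iso_freeMod_of_retraction {X : Scheme.{u}} {U : X.Opens} (hU : IsAffineOpen U)
    (N G : X.Modules) [N.IsQuasicoherent] (π : N ⟶ G) [Epi π] {k : ℕ} (t : Fin k → Γ(N, U))
    (r : Γ(N, U) →ₗ[Γ(X, U)] (Fin k → Γ(X, U)))
    (hrt : ∀ i, r (t i) = Pi.single i 1)
    (hb : ∀ m : Γ(N, U), π.app U (∑ i, r m i • t i) = π.app U m)
    (hc : ∀ (W : X.Opens), IsAffineOpen W → W ≤ U → ∀ m : Γ(N, W), π.app W m = 0 →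
      ∃ a : Γ(X, W), (∀ b : Γ(X, W), a * b = 0 → b = 0) ∧ a • m = 0) :
    Nonempty (G.restrict U.ι ≅ FlatMod.freeMod (↑U) k) := by
  classical
  let L : (Fin k → Γ(X, U)) →ₗ[Γ(X, U)] Γ(N, U) := Fintype.linearCombination Γ(X, U) t
  let hφ : Γ(FlatMod.freeMod X k, U) →ₗ[Γ(X, U)] Γ(N, U) :=
    L ∘ₗ (sectionsFreeEquiv X k U).toLinearMap
  let hρ : Γ(N, U) →ₗ[Γ(X, U)] Γ(FlatMod.freeMod X k, U) :=
    (sectionsFreeEquiv X k U).symm.toLinearMap ∘ₗ r
  haveI : (FlatMod.freeMod X k).IsQuasicoherent := isQuasicoherent_freeMod X k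
  obtain ⟨φ₀, hφ₀⟩ := exists_hom_restrict_of_linearMap hU (FlatMod.freeMod X k) N hφ
  obtain ⟨ρ, hρ'⟩ := exists_hom_restrict_of_linearMap hU N (FlatMod.freeMod X k) hρ
  have hrL : ∀ c : Fin k → Γ(X, U), r (L c) = c := by
    intro c
    simp only [L, Fintype.linearCombination_apply, map_sum, map_smul, hrt]
    funext j
    simp [Finset.sum_apply, Pi.single_apply]
  have hid : φ₀ ≫ ρ = 𝟙 _ := by
    refine hom_ext_restrict hU (FlatMod.freeMod X k) (FlatMod.freeMod X k) (fun s => ?_)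
    set s₀ : Γ(FlatMod.freeMod X k, U) :=
      (FlatMod.freeMod X k).presheaf.map (eqToHom U.ι_image_top.symm).op s with hs₀
    have hs : s = (FlatMod.freeMod X k).presheaf.map (eqToHom U.ι_image_top).op s₀ :=
      (map_map_id (FlatMod.freeMod X k) (eqToHom U.ι_image_top) (eqToHom U.ι_image_top.symm)
        s).symm
    rw [hs]
    have h1 : (φ₀ ≫ ρ).app ⊤ ((FlatMod.freeMod X k).presheaf.map (eqToHom U.ι_image_top).op s₀) =
        ρ.app ⊤ (φ₀.app ⊤ ((FlatMod.freeMod X k).presheaf.map (eqToHom U.ι_image_top).op s₀)) :=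
      rfl
    rw [h1, hφ₀, hρ']
    have h2 : hρ (hφ s₀) = s₀ := by
      simp only [hφ, hρ, LinearMap.comp_apply, LinearEquiv.coe_coe, hrL,
        LinearEquiv.symm_apply_apply]
    rw [h2]
    rfl
  let π' : N.restrict U.ι ⟶ G.restrict U.ι := (Scheme.Modules.restrictFunctor U.ι).map π
  haveI : Epi π' := inferInstanceAs (Epi ((Scheme.Modules.restrictFunctor U.ι).map π))
  haveI : IsAffine (↑U : Scheme.{u}) := hU
  haveI : (N.restrict U.ι).IsQuasicoherent := Scheme.Modules.isQuasicoherent_restrictFunctor _ _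
  have hepi : Epi (φ₀ ≫ π') := by
    refine epi_comp_of_forall_exists φ₀ π' (fun m' => ?_)
    set m := N.presheaf.map (eqToHom U.ι_image_top.symm).op m' with hm
    have hm' : m' = N.presheaf.map (eqToHom U.ι_image_top).op m :=
      (map_map_id N (eqToHom U.ι_image_top) (eqToHom U.ι_image_top.symm) m').symm
    refine ⟨ρ.app ⊤ m', ?_⟩
    rw [hm', hρ', hφ₀]
    have hh : hφ (hρ m) = ∑ i, r m i • t i := by
      simp [hφ, hρ, L, Fintype.linearCombination_apply]
    rw [hh]
    change π.app (U.ι ''ᵁ ⊤) _ = π.app (U.ι ''ᵁ ⊤) _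
    rw [app_map, hb, ← app_map]
  have hmono : Mono (φ₀ ≫ π') := by
    refine mono_of_app_injective_of_isBasis (φ₀ ≫ π') _
      (Scheme.isBasis_affineOpens (↑U : Scheme.{u})) (fun W hW e he => ?_)
    have hW' : IsAffineOpen (U.ι ''ᵁ W) := IsAffineOpen.image_of_isOpenImmersion hW U.ι
    have hle : U.ι ''ᵁ W ≤ U := Scheme.Opens.ι_image_le U W
    obtain ⟨a, hareg, ham⟩ := hc (U.ι ''ᵁ W) hW' hle (φ₀.app W e) he
    have h1 : ρ.app W (φ₀.app W e) = 0 := by
      have h2 : ρ.app W ((show Γ((↑U : Scheme.{u}), W) from a) • (φ₀.app W e)) = 0 := by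
        have : (show Γ((↑U : Scheme.{u}), W) from a) • (φ₀.app W e) = 0 := by
          change ((U.ι.appIso W).inv (show Γ((↑U : Scheme.{u}), W) from a) : Γ(X, U.ι ''ᵁ W)) •
            (show Γ(N, U.ι ''ᵁ W) from φ₀.app W e) = 0
          rw [Scheme.Opens.ι_appIso]
          exact ham
        rw [this, map_zero]
      rw [Scheme.Modules.Hom.app_smul] at h2
      have h3 : a • (show Γ(FlatMod.freeMod X k, U.ι ''ᵁ W) from ρ.app W (φ₀.app W e)) = 0 := by
        have h4 : ((U.ι.appIso W).inv (show Γ((↑U : Scheme.{u}), W) from a) : Γ(X, U.ι ''ᵁ W)) •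
            (show Γ(FlatMod.freeMod X k, U.ι ''ᵁ W) from ρ.app W (φ₀.app W e)) = 0 := h2
        rw [Scheme.Opens.ι_appIso] at h4
        exact h4
      have h5 := congrArg (sectionsFreeEquiv X k (U.ι ''ᵁ W)) h3
      rw [map_smul, map_zero] at h5
      have h7 : sectionsFreeEquiv X k (U.ι ''ᵁ W)
          (show Γ(FlatMod.freeMod X k, U.ι ''ᵁ W) from ρ.app W (φ₀.app W e)) = 0 := by
        funext i
        exact hareg _ (congrFun h5 i)
      exact (LinearEquiv.map_eq_zero_iff _).mp h7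
    have h6 : (φ₀ ≫ ρ).app W e = e := by rw [hid]; rfl
    rw [← h6]
    exact h1
  haveI : IsIso (φ₀ ≫ π') := isIso_of_mono_of_epi _
  exact ⟨(asIso (φ₀ ≫ π')).symm ≪≫ restrictFreeIso k U.ι⟩

end IsoCriterion

section LocalFreeness

/-- The computation behind `exists_epi_freeMod_basicOpen`: generators modulo the kernel of `π` over
`V`, up to powers of `g`, restrict to generators modulo the kernel of `π` over `D(g)`. -/
theorem forall_exists_basicOpen {X : Scheme.{u}} {V : X.Opens} (hV : IsAffineOpen V)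
    (N G : X.Modules) [N.IsQuasicoherent] (π : N ⟶ G) (g : Γ(X, V)) {k : ℕ}
    (x : Fin k → Γ(N, V))
    (hx : ∀ m : Γ(N, V), ∃ (j : ℕ) (c : Fin k → Γ(X, V)),
      π.app V (g ^ j • m) = π.app V (∑ i, c i • x i)) (m' : Γ(N, X.basicOpen g)) :
    ∃ c : Fin k → Γ(X, X.basicOpen g),
      π.app (X.basicOpen g)
        (∑ i, c i • N.presheaf.map (homOfLE (X.basicOpen_le g)).op (x i)) =
      π.app (X.basicOpen g) m' := by
  let D : X.Opens := X.basicOpen g
  let ι : D ⟶ V := homOfLE (X.basicOpen_le g)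
  obtain ⟨l, m, hm⟩ := exists_restrict_eq_pow_smul hV N g m'
  obtain ⟨j, c, hc⟩ := hx m
  have hunit : IsUnit (X.presheaf.map ι.op g) := RingedSpace.isUnit_res_basicOpen X.toRingedSpace g
  obtain ⟨u, hu⟩ := hunit
  refine ⟨fun i => (↑u⁻¹ : Γ(X, D)) ^ (j + l) * X.presheaf.map ι.op (c i), ?_⟩
  change π.app D (∑ i, ((↑u⁻¹ : Γ(X, D)) ^ (j + l) * X.presheaf.map ι.op (c i)) •
        N.presheaf.map ι.op (x i)) = π.app D m'
  have h1 : π.app D (∑ i, X.presheaf.map ι.op (c i) • N.presheaf.map ι.op (x i)) =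
      π.app D ((X.presheaf.map ι.op g) ^ (j + l) • m') := by
    have e1 : ∑ i, X.presheaf.map ι.op (c i) • N.presheaf.map ι.op (x i) =
        N.presheaf.map ι.op (∑ i, c i • x i) := by
      rw [map_sum]
      exact Finset.sum_congr rfl fun i _ => (Scheme.Modules.map_smul N ι (c i) (x i)).symm
    have e2 : (X.presheaf.map ι.op g) ^ (j + l) • m' = N.presheaf.map ι.op (g ^ j • m) := by
      rw [Scheme.Modules.map_smul, map_pow]
      change _ = _ • N.presheaf.map (homOfLE (X.basicOpen_le g)).op m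
      rw [hm, smul_smul, ← pow_add]
    rw [e1, e2, app_map, app_map, hc]
  calc π.app D (∑ i, ((↑u⁻¹ : Γ(X, D)) ^ (j + l) * X.presheaf.map ι.op (c i)) •
        N.presheaf.map ι.op (x i))
      = π.app D ((↑u⁻¹ : Γ(X, D)) ^ (j + l) •
          ∑ i, X.presheaf.map ι.op (c i) • N.presheaf.map ι.op (x i)) := by
        rw [Finset.smul_sum]
        simp only [mul_smul]
    _ = (↑u⁻¹ : Γ(X, D)) ^ (j + l) • π.app D ((X.presheaf.map ι.op g) ^ (j + l) • m') := by
        rw [Scheme.Modules.Hom.app_smul, h1]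
    _ = π.app D m' := by
        rw [← Scheme.Modules.Hom.app_smul, smul_smul, ← mul_pow, ← hu, Units.inv_mul, one_pow,
          one_smul]

/-- On an affine open `W` inside an affine open `V` where the ideal sheaf `𝓔` is generated by `f`, a
section is killed by a power of `𝓔` iff it is killed by a power of `f`. -/
theorem killedByPowerNear_iff {X : Scheme.{u}} (𝓔 : X.IdealSheafData) (M : X.Modules)
    {V : X.affineOpens} {f : Γ(X, V.1)} (hf : 𝓔.ideal V = Ideal.span {f}) (W : X.affineOpens)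
    (hWV : W.1 ≤ V.1) (m : Γ(M, W.1)) :
    BlowUp.KilledByPowerNear 𝓔 M W m ↔
      ∃ n : ℕ, (X.presheaf.map (homOfLE hWV).op f) ^ n • m = 0 := by
  have hW : 𝓔.ideal W = Ideal.span {X.presheaf.map (homOfLE hWV).op f} := by
    rw [← 𝓔.map_ideal (U := W) (V := V) hWV, hf, Ideal.map_span, Set.image_singleton]
    rfl
  have hpow : ∀ n : ℕ, (𝓔 ^ n).ideal W =
      Ideal.span {(X.presheaf.map (homOfLE hWV).op f) ^ n} := by
    intro n
    rw [Scheme.IdealSheafData.ideal_pow, Pi.pow_apply, hW, Ideal.span_singleton_pow]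
  constructor
  · rintro ⟨n, hn⟩
    exact ⟨n, hn _ (by rw [hpow]; exact Ideal.mem_span_singleton_self _)⟩
  · rintro ⟨n, hn⟩
    refine ⟨n, fun a ha => ?_⟩
    rw [hpow, Ideal.mem_span_singleton'] at ha
    obtain ⟨c, rfl⟩ := ha
    rw [mul_smul, hn, smul_zero]

theorem mem_powTorsion_iff {S : Type u} [CommRing S] (x : S) {N : Type u} [AddCommGroup N]
    [Module S N] {m : N} : m ∈ FlatCA.powTorsion S x N ↔ ∃ n : ℕ, x ^ n • m = 0 := by
  unfold FlatCA.powTorsion
  rw [Submodule.mem_iSup_of_directed]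
  · simp only [Submodule.mem_torsionBy_iff]
  · apply Monotone.directed_le
    intro n₁ n₂ h
    exact Submodule.torsionBy_le_torsionBy_of_dvd _ _ (pow_dvd_pow x h)

/-- Generators whose relations are killed by a vanishing Fitting ideal form a basis. -/
theorem bijective_linearCombination_of_span_of_fitt_eq_bot {A : Type*} [CommRing A] {N : Type*}
    [AddCommGroup N] [Module A N] {r : ℕ} (t : Fin r → N)
    (ht : Submodule.span A (Set.range t) = ⊤) (h0 : Fitt.ideal A N (r - 1) = ⊥ ∨ r = 0) :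
    Function.Bijective (Fintype.linearCombination A t) := by
  let L : (Fin r → A) →ₗ[A] N := Fintype.linearCombination A t
  have hsurj : Function.Surjective L := by
    rw [← LinearMap.range_eq_top, Fintype.range_linearCombination, ht]
  have hinj : Function.Injective L := by
    rw [← LinearMap.ker_eq_bot, LinearMap.ker_eq_bot']
    intro a ha
    funext j
    rcases h0 with h0 | h0
    · have := coeff_mem_fitt_of_rel t ht a (by simpa [L, Fintype.linearCombination_apply] using ha) j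
      rw [h0] at this
      exact this
    · subst h0
      exact j.elim0
  exact ⟨hinj, hsurj⟩

end LocalFreeness

section LocalFreenessMain

open Groth.Agent.Lib.Helper10.Fitting

theorem mem_nonZeroDivisors_of_forall_mul {A : Type*} [CommRing A] {a : A}
    (h : ∀ b : A, a * b = 0 → b = 0) : a ∈ nonZeroDivisors A :=
  mem_nonZeroDivisors_iff.mpr ⟨h, fun x hx => h x (by rwa [mul_comm])⟩

/-- Local freeness of a strict-transform-like quotient.  `N` is quasi-coherent of finite type, on the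
affine open `V` the `k`-th Fitting ideal of `N` is generated by the nonzerodivisor `f`, the kernel
of the epimorphism `π : N ⟶ G` on affine opens of `V` is the `f`-power torsion, and (unless `k = 0`)
the `(k-1)`-st Fitting ideal of `N` is `f`-power torsion.  Then `G` is free of rank `k` near every
point of `V`. -/
theorem exists_iso_freeMod_of_fitt {X : Scheme.{u}} (N G : X.Modules) [N.IsQuasicoherent]
    [SheafOfModules.IsFiniteType (R := X.ringCatSheaf) N] (π : N ⟶ G) [Epi π] (k : ℕ)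
    {V : X.Opens} (hV : IsAffineOpen V) (s' : X) (hs' : s' ∈ V) (f : Γ(X, V))
    (hf : f ∈ nonZeroDivisors Γ(X, V))
    (hfit : Fitt.ideal Γ(X, V) Γ(N, V) k = Ideal.span {f})
    (hker : ∀ (W : X.Opens) (_ : IsAffineOpen W) (hWV : W ≤ V) (m : Γ(N, W)),
      π.app W m = 0 ↔ ∃ n : ℕ, (X.presheaf.map (homOfLE hWV).op f) ^ n • m = 0)
    (htors : k = 0 ∨ ∀ (W : X.Opens) (_ : IsAffineOpen W) (hWV : W ≤ V),
      ∀ z ∈ Fitt.ideal Γ(X, W) Γ(N, W) (k - 1),
        ∃ n : ℕ, (X.presheaf.map (homOfLE hWV).op f) ^ n * z = 0) :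
    ∃ U : X.Opens, s' ∈ U ∧ Nonempty (G.restrict U.ι ≅ FlatMod.freeMod (↑U) k) := by
  classical
  haveI : Module.Finite Γ(X, V) Γ(N, V) := finite_sections_of_isFiniteType hV N
  let T₀ : Submodule Γ(X, V) Γ(N, V) := LinearMap.ker (appₗ π V)
  have hT₀ : ∀ m : Γ(N, V), f • m = 0 → m ∈ T₀ := by
    intro m hm
    rw [LinearMap.mem_ker]
    change π.app V m = 0
    rw [hker V hV le_rfl m]
    refine ⟨1, ?_⟩
    rw [pow_one]
    have : X.presheaf.map (homOfLE (le_refl V)).op f = f := by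
      have h1 : (homOfLE (le_refl V)).op = 𝟙 (Opposite.op V) := rfl
      rw [h1, X.presheaf.map_id]
      rfl
    rw [this]
    exact hm
  have hfit₀ := Groth.Agent.S6914.fitt_quotient_eq_top Γ(N, V) k f hfit T₀ hT₀
  obtain ⟨g, hg, x, hx⟩ := exists_generators_mod_of_fitt_eq_top T₀ hfit₀
    (hV.primeIdealOf ⟨s', hs'⟩).asIdeal
  let U : X.Opens := X.basicOpen g
  have hU : IsAffineOpen U := hV.basicOpen g
  have hUV : U ≤ V := X.basicOpen_le g
  have hs'U : s' ∈ U := (mem_basicOpen_iff_not_mem_primeIdealOf hV ⟨s', hs'⟩ g).mpr hg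
  let fU : Γ(X, U) := X.presheaf.map (homOfLE hUV).op f
  let t : Fin k → Γ(N, U) := fun i => N.presheaf.map (homOfLE hUV).op (x i)
  have ht : ∀ m' : Γ(N, U), ∃ c : Fin k → Γ(X, U),
      π.app U (∑ i, c i • t i) = π.app U m' := by
    refine forall_exists_basicOpen hV N G π g x (fun m => ?_)
    obtain ⟨c, hc⟩ := hx m
    refine ⟨1, c, ?_⟩
    rw [pow_one]
    have h0 : π.app V (g • m - ∑ i, c i • x i) = 0 := hc
    rw [map_sub, sub_eq_zero] at h0
    exact h0
  haveI : Module.Finite Γ(X, U) Γ(N, U) := finite_sections_of_isFiniteType hU N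
  let T : Submodule Γ(X, U) Γ(N, U) := FlatCA.powTorsion Γ(X, U) fU Γ(N, U)
  have hTker : ∀ m : Γ(N, U), m ∈ T ↔ π.app U m = 0 := by
    intro m
    rw [mem_powTorsion_iff]
    exact (hker U hU hUV m).symm
  let tbar : Fin k → Γ(N, U) ⧸ T := fun i => T.mkQ (t i)
  have hquot : ∀ (m : Γ(N, U)) (c : Fin k → Γ(X, U)),
      π.app U (∑ i, c i • t i) = π.app U m → T.mkQ m = ∑ i, c i • tbar i := by
    intro m c hc
    have hmem : m - ∑ i, c i • t i ∈ T := by
      rw [hTker, map_sub, hc, sub_self]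
    have h1 : T.mkQ (m - ∑ i, c i • t i) = 0 := by
      rw [Submodule.mkQ_apply, Submodule.Quotient.mk_eq_zero]
      exact hmem
    rw [map_sub, sub_eq_zero, map_sum] at h1
    rw [h1]
    exact Finset.sum_congr rfl fun i _ => map_smul _ _ _
  have hspan : Submodule.span Γ(X, U) (Set.range tbar) = ⊤ := by
    rw [eq_top_iff]
    rintro z -
    obtain ⟨m, rfl⟩ := T.mkQ_surjective z
    obtain ⟨c, hc⟩ := ht m
    rw [hquot m c hc]
    exact Submodule.sum_mem _ fun i _ =>
      Submodule.smul_mem _ _ (Submodule.subset_span ⟨i, rfl⟩)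
  have hfUnzd : fU ∈ nonZeroDivisors Γ(X, U) :=
    mem_nonZeroDivisors_of_forall_mul (restrict_mul_eq_zero_of_nonZeroDivisor hV hU hUV hf)
  have h0 : Fitt.ideal Γ(X, U) (Γ(N, U) ⧸ T) (k - 1) = ⊥ ∨ k = 0 := by
    rcases htors with hk | htors
    · exact Or.inr hk
    · exact Or.inl (Groth.Agent.S6915.fitt_quotient_powTorsion_eq_bot Γ(N, U) (k - 1) fU hfUnzd
        (htors U hU hUV))
  have hbij := bijective_linearCombination_of_span_of_fitt_eq_bot tbar hspan h0
  let E : (Fin k → Γ(X, U)) ≃ₗ[Γ(X, U)] (Γ(N, U) ⧸ T) :=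
    LinearEquiv.ofBijective (Fintype.linearCombination Γ(X, U) tbar) hbij
  let r : Γ(N, U) →ₗ[Γ(X, U)] (Fin k → Γ(X, U)) := E.symm.toLinearMap ∘ₗ T.mkQ
  have hEr : ∀ m : Γ(N, U), ∑ i, r m i • tbar i = T.mkQ m := by
    intro m
    have : E (r m) = T.mkQ m := by
      simp only [r, LinearMap.comp_apply, LinearEquiv.coe_coe, LinearEquiv.apply_symm_apply]
    rw [← this]
    simp only [E, LinearEquiv.ofBijective_apply, Fintype.linearCombination_apply]
  refine ⟨U, hs'U, nonempty_iso_freeMod_of_retraction hU N G π t r ?_ ?_ ?_⟩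
  · intro i
    change E.symm (tbar i) = _
    rw [LinearEquiv.symm_apply_eq]
    simp only [E, LinearEquiv.ofBijective_apply, Fintype.linearCombination_apply_single, one_smul]
  · intro m
    have hmem : m - ∑ i, r m i • t i ∈ T := by
      rw [← Submodule.Quotient.mk_eq_zero, ← Submodule.mkQ_apply, map_sub, map_sum, sub_eq_zero,
        ← hEr m]
      exact Finset.sum_congr rfl fun i _ => (map_smul _ _ _).symm
    have h1 := (hTker _).mp hmem
    rw [map_sub, sub_eq_zero] at h1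
    exact h1.symm
  · intro W hW hWU m hm
    have hWV : W ≤ V := hWU.trans hUV
    obtain ⟨n, hn⟩ := (hker W hW hWV m).mp hm
    refine ⟨(X.presheaf.map (homOfLE hWV).op f) ^ n, ?_, hn⟩
    have hnzd : X.presheaf.map (homOfLE hWV).op f ∈ nonZeroDivisors Γ(X, W) :=
      mem_nonZeroDivisors_of_forall_mul (restrict_mul_eq_zero_of_nonZeroDivisor hV hW hWV hf)
    exact (mem_nonZeroDivisors_iff.mp (pow_mem hnzd n)).1

theorem exists_retraction_of_fitt {X : Scheme.{u}} (N G : X.Modules) [N.IsQuasicoherent]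
    [SheafOfModules.IsFiniteType (R := X.ringCatSheaf) N] (π : N ⟶ G) [Epi π] (k : ℕ)
    {V : X.Opens} (hV : IsAffineOpen V) (s' : X) (hs' : s' ∈ V) (f : Γ(X, V))
    (hf : f ∈ nonZeroDivisors Γ(X, V))
    (hfit : Fitt.ideal Γ(X, V) Γ(N, V) k = Ideal.span {f})
    (hker : ∀ (W : X.Opens) (_ : IsAffineOpen W) (hWV : W ≤ V) (m : Γ(N, W)),
      π.app W m = 0 ↔ ∃ n : ℕ, (X.presheaf.map (homOfLE hWV).op f) ^ n • m = 0)
    (htors : k = 0 ∨ ∀ (W : X.Opens) (_ : IsAffineOpen W) (hWV : W ≤ V),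
      ∀ z ∈ Fitt.ideal Γ(X, W) Γ(N, W) (k - 1),
        ∃ n : ℕ, (X.presheaf.map (homOfLE hWV).op f) ^ n * z = 0) :
    ∃ g : Γ(X, V), s' ∈ X.basicOpen g ∧
      ∃ (t : Fin k → Γ(N, X.basicOpen g))
        (r : Γ(N, X.basicOpen g) →ₗ[Γ(X, X.basicOpen g)] (Fin k → Γ(X, X.basicOpen g))),
        (∀ i, r (t i) = Pi.single i 1) ∧
        (∀ m : Γ(N, X.basicOpen g),
          π.app (X.basicOpen g) (∑ i, r m i • t i) = π.app (X.basicOpen g) m) ∧
        (∀ (W : X.Opens), IsAffineOpen W → W ≤ X.basicOpen g → ∀ m : Γ(N, W), π.app W m = 0 →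
          ∃ a : Γ(X, W), (∀ b : Γ(X, W), a * b = 0 → b = 0) ∧ a • m = 0) ∧
        (∀ m : Γ(N, X.basicOpen g), r m = 0 ↔ π.app (X.basicOpen g) m = 0) := by
  classical
  haveI : Module.Finite Γ(X, V) Γ(N, V) := finite_sections_of_isFiniteType hV N
  let T₀ : Submodule Γ(X, V) Γ(N, V) := LinearMap.ker (appₗ π V)
  have hT₀ : ∀ m : Γ(N, V), f • m = 0 → m ∈ T₀ := by
    intro m hm
    rw [LinearMap.mem_ker]
    change π.app V m = 0
    rw [hker V hV le_rfl m]
    refine ⟨1, ?_⟩
    rw [pow_one]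
    have : X.presheaf.map (homOfLE (le_refl V)).op f = f := by
      have h1 : (homOfLE (le_refl V)).op = 𝟙 (Opposite.op V) := rfl
      rw [h1, X.presheaf.map_id]
      rfl
    rw [this]
    exact hm
  have hfit₀ := Groth.Agent.S6914.fitt_quotient_eq_top Γ(N, V) k f hfit T₀ hT₀
  obtain ⟨g, hg, x, hx⟩ := exists_generators_mod_of_fitt_eq_top T₀ hfit₀
    (hV.primeIdealOf ⟨s', hs'⟩).asIdeal
  let U : X.Opens := X.basicOpen g
  have hU : IsAffineOpen U := hV.basicOpen g
  have hUV : U ≤ V := X.basicOpen_le g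
  have hs'U : s' ∈ U := (mem_basicOpen_iff_not_mem_primeIdealOf hV ⟨s', hs'⟩ g).mpr hg
  let fU : Γ(X, U) := X.presheaf.map (homOfLE hUV).op f
  let t : Fin k → Γ(N, U) := fun i => N.presheaf.map (homOfLE hUV).op (x i)
  have ht : ∀ m' : Γ(N, U), ∃ c : Fin k → Γ(X, U),
      π.app U (∑ i, c i • t i) = π.app U m' := by
    refine forall_exists_basicOpen hV N G π g x (fun m => ?_)
    obtain ⟨c, hc⟩ := hx m
    refine ⟨1, c, ?_⟩
    rw [pow_one]
    have h0 : π.app V (g • m - ∑ i, c i • x i) = 0 := hc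
    rw [map_sub, sub_eq_zero] at h0
    exact h0
  haveI : Module.Finite Γ(X, U) Γ(N, U) := finite_sections_of_isFiniteType hU N
  let T : Submodule Γ(X, U) Γ(N, U) := FlatCA.powTorsion Γ(X, U) fU Γ(N, U)
  have hTker : ∀ m : Γ(N, U), m ∈ T ↔ π.app U m = 0 := by
    intro m
    rw [mem_powTorsion_iff]
    exact (hker U hU hUV m).symm
  let tbar : Fin k → Γ(N, U) ⧸ T := fun i => T.mkQ (t i)
  have hquot : ∀ (m : Γ(N, U)) (c : Fin k → Γ(X, U)),
      π.app U (∑ i, c i • t i) = π.app U m → T.mkQ m = ∑ i, c i • tbar i := by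
    intro m c hc
    have hmem : m - ∑ i, c i • t i ∈ T := by
      rw [hTker, map_sub, hc, sub_self]
    have h1 : T.mkQ (m - ∑ i, c i • t i) = 0 := by
      rw [Submodule.mkQ_apply, Submodule.Quotient.mk_eq_zero]
      exact hmem
    rw [map_sub, sub_eq_zero, map_sum] at h1
    rw [h1]
    exact Finset.sum_congr rfl fun i _ => map_smul _ _ _
  have hspan : Submodule.span Γ(X, U) (Set.range tbar) = ⊤ := by
    rw [eq_top_iff]
    rintro z -
    obtain ⟨m, rfl⟩ := T.mkQ_surjective z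
    obtain ⟨c, hc⟩ := ht m
    rw [hquot m c hc]
    exact Submodule.sum_mem _ fun i _ =>
      Submodule.smul_mem _ _ (Submodule.subset_span ⟨i, rfl⟩)
  have hfUnzd : fU ∈ nonZeroDivisors Γ(X, U) :=
    mem_nonZeroDivisors_of_forall_mul (restrict_mul_eq_zero_of_nonZeroDivisor hV hU hUV hf)
  have h0 : Fitt.ideal Γ(X, U) (Γ(N, U) ⧸ T) (k - 1) = ⊥ ∨ k = 0 := by
    rcases htors with hk | htors
    · exact Or.inr hk
    · exact Or.inl (Groth.Agent.S6915.fitt_quotient_powTorsion_eq_bot Γ(N, U) (k - 1) fU hfUnzd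
        (htors U hU hUV))
  have hbij := bijective_linearCombination_of_span_of_fitt_eq_bot tbar hspan h0
  let E : (Fin k → Γ(X, U)) ≃ₗ[Γ(X, U)] (Γ(N, U) ⧸ T) :=
    LinearEquiv.ofBijective (Fintype.linearCombination Γ(X, U) tbar) hbij
  let r : Γ(N, U) →ₗ[Γ(X, U)] (Fin k → Γ(X, U)) := E.symm.toLinearMap ∘ₗ T.mkQ
  have hEr : ∀ m : Γ(N, U), ∑ i, r m i • tbar i = T.mkQ m := by
    intro m
    have : E (r m) = T.mkQ m := by
      simp only [r, LinearMap.comp_apply, LinearEquiv.coe_coe, LinearEquiv.apply_symm_apply]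
    rw [← this]
    simp only [E, LinearEquiv.ofBijective_apply, Fintype.linearCombination_apply]
  refine ⟨g, hs'U, t, r, ?_, ?_, ?_, ?_⟩
  rotate_left 3
  · intro m
    change E.symm (T.mkQ m) = 0 ↔ _
    rw [LinearEquiv.map_eq_zero_iff, Submodule.mkQ_apply, Submodule.Quotient.mk_eq_zero]
    exact hTker m
  · intro i
    change E.symm (tbar i) = _
    rw [LinearEquiv.symm_apply_eq]
    simp only [E, LinearEquiv.ofBijective_apply, Fintype.linearCombination_apply_single, one_smul]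
  · intro m
    have hmem : m - ∑ i, r m i • t i ∈ T := by
      rw [← Submodule.Quotient.mk_eq_zero, ← Submodule.mkQ_apply, map_sub, map_sum, sub_eq_zero,
        ← hEr m]
      exact Finset.sum_congr rfl fun i _ => (map_smul _ _ _).symm
    have h1 := (hTker _).mp hmem
    rw [map_sub, sub_eq_zero] at h1
    exact h1.symm
  · intro W hW hWU m hm
    have hWV : W ≤ V := hWU.trans hUV
    obtain ⟨n, hn⟩ := (hker W hW hWV m).mp hm
    refine ⟨(X.presheaf.map (homOfLE hWV).op f) ^ n, ?_, hn⟩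
    have hnzd : X.presheaf.map (homOfLE hWV).op f ∈ nonZeroDivisors Γ(X, W) :=
      mem_nonZeroDivisors_of_forall_mul (restrict_mul_eq_zero_of_nonZeroDivisor hV hW hWV hf)
    exact (mem_nonZeroDivisors_iff.mp (pow_mem hnzd n)).1

end LocalFreenessMain

section HomExt

/-- On an affine scheme, two morphisms out of a quasi-coherent module (into an arbitrary module)
which agree on global sections are equal. -/
theorem hom_ext_of_app_top {Y : Scheme.{u}} [IsAffine Y] {N' G' : Y.Modules} [N'.IsQuasicoherent]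
    (α β : N' ⟶ G') (h : ∀ m : Γ(N', ⊤), α.app ⊤ m = β.app ⊤ m) : α = β := by
  refine Scheme.Modules.hom_ext α β (fun W => ?_)
  ext n
  refine section_ext_germ G' W _ _ (fun y hy => ?_)
  rw [← stalkMap_germ, ← stalkMap_germ]
  obtain ⟨yT, rfl⟩ : ∃ yT : (⊤ : Y.Opens), (yT : Y) = y := ⟨⟨y, trivial⟩, rfl⟩
  have hspan := span_germ_eq_top (isAffineOpen_top Y) N' (fun m' : Γ(N', ⊤) => m')
    (by rw [Set.range_id']; exact Submodule.span_univ) yT
  have hlin : stalkMapLinear α (yT : Y) = stalkMapLinear β (yT : Y) := by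
    refine LinearMap.ext_on_range hspan (fun m' => ?_)
    change (stalkMap α (yT : Y)).hom (N'.presheaf.germ ⊤ (yT : Y) yT.2 m') =
      (stalkMap β (yT : Y)).hom (N'.presheaf.germ ⊤ (yT : Y) yT.2 m')
    rw [stalkMap_germ, stalkMap_germ, h]
  exact congrArg (fun L => L (N'.presheaf.germ W (yT : Y) hy n)) hlin

end HomExt

section Splitting

/-- The splitting data behind `nonempty_iso_freeMod_of_retraction`. -/
theorem exists_splitting_of_retraction {X : Scheme.{u}} {U : X.Opens} (hU : IsAffineOpen U)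
    (N G : X.Modules) [N.IsQuasicoherent] (π : N ⟶ G) [Epi π] {k : ℕ} (t : Fin k → Γ(N, U))
    (r : Γ(N, U) →ₗ[Γ(X, U)] (Fin k → Γ(X, U)))
    (hrt : ∀ i, r (t i) = Pi.single i 1)
    (hb : ∀ m : Γ(N, U), π.app U (∑ i, r m i • t i) = π.app U m)
    (hc : ∀ (W : X.Opens), IsAffineOpen W → W ≤ U → ∀ m : Γ(N, W), π.app W m = 0 →
      ∃ a : Γ(X, W), (∀ b : Γ(X, W), a * b = 0 → b = 0) ∧ a • m = 0) :
    ∃ (φ₀ : (FlatMod.freeMod X k).restrict U.ι ⟶ N.restrict U.ι)
      (ρ : N.restrict U.ι ⟶ (FlatMod.freeMod X k).restrict U.ι),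
      φ₀ ≫ ρ = 𝟙 _ ∧ IsIso (φ₀ ≫ (Scheme.Modules.restrictFunctor U.ι).map π) ∧
      ρ ≫ φ₀ ≫ (Scheme.Modules.restrictFunctor U.ι).map π =
        (Scheme.Modules.restrictFunctor U.ι).map π := by
  classical
  let L : (Fin k → Γ(X, U)) →ₗ[Γ(X, U)] Γ(N, U) := Fintype.linearCombination Γ(X, U) t
  let hφ : Γ(FlatMod.freeMod X k, U) →ₗ[Γ(X, U)] Γ(N, U) :=
    L ∘ₗ (sectionsFreeEquiv X k U).toLinearMap
  let hρ : Γ(N, U) →ₗ[Γ(X, U)] Γ(FlatMod.freeMod X k, U) :=
    (sectionsFreeEquiv X k U).symm.toLinearMap ∘ₗ r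
  haveI : (FlatMod.freeMod X k).IsQuasicoherent := isQuasicoherent_freeMod X k
  obtain ⟨φ₀, hφ₀⟩ := exists_hom_restrict_of_linearMap hU (FlatMod.freeMod X k) N hφ
  obtain ⟨ρ, hρ'⟩ := exists_hom_restrict_of_linearMap hU N (FlatMod.freeMod X k) hρ
  have hrL : ∀ c : Fin k → Γ(X, U), r (L c) = c := by
    intro c
    simp only [L, Fintype.linearCombination_apply, map_sum, map_smul, hrt]
    funext j
    simp [Finset.sum_apply, Pi.single_apply]
  have hid : φ₀ ≫ ρ = 𝟙 _ := by
    refine hom_ext_restrict hU (FlatMod.freeMod X k) (FlatMod.freeMod X k) (fun s => ?_)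
    set s₀ : Γ(FlatMod.freeMod X k, U) :=
      (FlatMod.freeMod X k).presheaf.map (eqToHom U.ι_image_top.symm).op s with hs₀
    have hs : s = (FlatMod.freeMod X k).presheaf.map (eqToHom U.ι_image_top).op s₀ :=
      (map_map_id (FlatMod.freeMod X k) (eqToHom U.ι_image_top) (eqToHom U.ι_image_top.symm)
        s).symm
    rw [hs]
    have h1 : (φ₀ ≫ ρ).app ⊤ ((FlatMod.freeMod X k).presheaf.map (eqToHom U.ι_image_top).op s₀) =
        ρ.app ⊤ (φ₀.app ⊤ ((FlatMod.freeMod X k).presheaf.map (eqToHom U.ι_image_top).op s₀)) :=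
      rfl
    rw [h1, hφ₀, hρ']
    have h2 : hρ (hφ s₀) = s₀ := by
      simp only [hφ, hρ, LinearMap.comp_apply, LinearEquiv.coe_coe, hrL,
        LinearEquiv.symm_apply_apply]
    rw [h2]
    rfl
  let π' : N.restrict U.ι ⟶ G.restrict U.ι := (Scheme.Modules.restrictFunctor U.ι).map π
  haveI : Epi π' := inferInstanceAs (Epi ((Scheme.Modules.restrictFunctor U.ι).map π))
  haveI : IsAffine (↑U : Scheme.{u}) := hU
  haveI : (N.restrict U.ι).IsQuasicoherent := Scheme.Modules.isQuasicoherent_restrictFunctor _ _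
  have hepi : Epi (φ₀ ≫ π') := by
    refine epi_comp_of_forall_exists φ₀ π' (fun m' => ?_)
    set m := N.presheaf.map (eqToHom U.ι_image_top.symm).op m' with hm
    have hm' : m' = N.presheaf.map (eqToHom U.ι_image_top).op m :=
      (map_map_id N (eqToHom U.ι_image_top) (eqToHom U.ι_image_top.symm) m').symm
    refine ⟨ρ.app ⊤ m', ?_⟩
    rw [hm', hρ', hφ₀]
    have hh : hφ (hρ m) = ∑ i, r m i • t i := by
      simp [hφ, hρ, L, Fintype.linearCombination_apply]
    rw [hh]
    change π.app (U.ι ''ᵁ ⊤) _ = π.app (U.ι ''ᵁ ⊤) _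
    rw [app_map, hb, ← app_map]
  have hmono : Mono (φ₀ ≫ π') := by
    refine mono_of_app_injective_of_isBasis (φ₀ ≫ π') _
      (Scheme.isBasis_affineOpens (↑U : Scheme.{u})) (fun W hW e he => ?_)
    have hW' : IsAffineOpen (U.ι ''ᵁ W) := IsAffineOpen.image_of_isOpenImmersion hW U.ι
    have hle : U.ι ''ᵁ W ≤ U := Scheme.Opens.ι_image_le U W
    obtain ⟨a, hareg, ham⟩ := hc (U.ι ''ᵁ W) hW' hle (φ₀.app W e) he
    have h1 : ρ.app W (φ₀.app W e) = 0 := by
      have h2 : ρ.app W ((show Γ((↑U : Scheme.{u}), W) from a) • (φ₀.app W e)) = 0 := by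
        have : (show Γ((↑U : Scheme.{u}), W) from a) • (φ₀.app W e) = 0 := by
          change ((U.ι.appIso W).inv (show Γ((↑U : Scheme.{u}), W) from a) : Γ(X, U.ι ''ᵁ W)) •
            (show Γ(N, U.ι ''ᵁ W) from φ₀.app W e) = 0
          rw [Scheme.Opens.ι_appIso]
          exact ham
        rw [this, map_zero]
      rw [Scheme.Modules.Hom.app_smul] at h2
      have h3 : a • (show Γ(FlatMod.freeMod X k, U.ι ''ᵁ W) from ρ.app W (φ₀.app W e)) = 0 := by
        have h4 : ((U.ι.appIso W).inv (show Γ((↑U : Scheme.{u}), W) from a) : Γ(X, U.ι ''ᵁ W)) •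
            (show Γ(FlatMod.freeMod X k, U.ι ''ᵁ W) from ρ.app W (φ₀.app W e)) = 0 := h2
        rw [Scheme.Opens.ι_appIso] at h4
        exact h4
      have h5 := congrArg (sectionsFreeEquiv X k (U.ι ''ᵁ W)) h3
      rw [map_smul, map_zero] at h5
      have h7 : sectionsFreeEquiv X k (U.ι ''ᵁ W)
          (show Γ(FlatMod.freeMod X k, U.ι ''ᵁ W) from ρ.app W (φ₀.app W e)) = 0 := by
        funext i
        exact hareg _ (congrFun h5 i)
      exact (LinearEquiv.map_eq_zero_iff _).mp h7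
    have h6 : (φ₀ ≫ ρ).app W e = e := by rw [hid]; rfl
    rw [← h6]
    exact h1
  haveI : IsIso (φ₀ ≫ π') := isIso_of_mono_of_epi _
  refine ⟨φ₀, ρ, hid, inferInstanceAs (IsIso (φ₀ ≫ π')), ?_⟩
  refine hom_ext_of_app_top (ρ ≫ φ₀ ≫ π') π' (fun m' => ?_)
  set m := N.presheaf.map (eqToHom U.ι_image_top.symm).op m' with hm
  have hm' : m' = N.presheaf.map (eqToHom U.ι_image_top).op m :=
    (map_map_id N (eqToHom U.ι_image_top) (eqToHom U.ι_image_top.symm) m').symm
  change π'.app ⊤ (φ₀.app ⊤ (ρ.app ⊤ m')) = π'.app ⊤ m'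
  rw [hm', hρ', hφ₀]
  have hh : hφ (hρ m) = ∑ i, r m i • t i := by
    simp [hφ, hρ, L, Fintype.linearCombination_apply]
  rw [hh]
  change π.app (U.ι ''ᵁ ⊤) _ = π.app (U.ι ''ᵁ ⊤) _
  rw [app_map, hb, ← app_map]


end Splitting

section KernelQCoh

/-- If, over the open `U`, the restriction `π'` of `π : N ⟶ G` becomes an isomorphism after
precomposing with `φ₀`, and `ρ ≫ φ₀ ≫ π' = π'`, then the kernel of `π` restricted to `U` is a
retract of `N|_U`, hence quasi-coherent. -/
theorem isQuasicoherent_restrict_kernel_of_splitting {X : Scheme.{u}} {U : X.Opens}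
    (N G : X.Modules) [N.IsQuasicoherent] (π : N ⟶ G) {P : (↑U : Scheme.{u}).Modules}
    (φ₀ : P ⟶ N.restrict U.ι) (ρ : N.restrict U.ι ⟶ P)
    [IsIso (φ₀ ≫ (Scheme.Modules.restrictFunctor U.ι).map π)]
    (hπ : ρ ≫ φ₀ ≫ (Scheme.Modules.restrictFunctor U.ι).map π =
      (Scheme.Modules.restrictFunctor U.ι).map π) :
    ((kernel π).restrict U.ι).IsQuasicoherent := by
  set π' : N.restrict U.ι ⟶ G.restrict U.ι := (Scheme.Modules.restrictFunctor U.ι).map π with hπ'
  have hρ : ρ = π' ≫ inv (φ₀ ≫ π') := by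
    rw [← cancel_mono (φ₀ ≫ π'), Category.assoc, IsIso.inv_hom_id, Category.comp_id, hπ]
  have hiρ : kernel.ι π' ≫ ρ = 0 := by
    rw [hρ, ← Category.assoc, kernel.condition, zero_comp]
  let p : N.restrict U.ι ⟶ kernel π' := kernel.lift π' (𝟙 _ - ρ ≫ φ₀) (by
    rw [Preadditive.sub_comp, Category.id_comp, Category.assoc, hπ, sub_self])
  have h : kernel.ι π' ≫ p = 𝟙 _ := by
    rw [← cancel_mono (kernel.ι π'), Category.assoc, kernel.lift_ι, Preadditive.comp_sub,
      Category.comp_id, ← Category.assoc, hiρ, zero_comp, sub_zero, Category.id_comp]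
  haveI : (N.restrict U.ι).IsQuasicoherent := Scheme.Modules.isQuasicoherent_restrictFunctor _ _
  have hK' : (kernel π').IsQuasicoherent :=
    isQuasicoherent_of_retract (kernel.ι π') p h inferInstance
  exact isQuasicoherent_of_iso (PreservesKernel.iso (Scheme.Modules.restrictFunctor U.ι) π).symm hK'

end KernelQCoh

end Groth.Agent.Lib.Helper45
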