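import Groth.Agent.Lib.Helper45.WeakAssPoint

/-!
# Modules whose sections over an affine open localize correctly; pushforwards along affine maps

Shared library of helper45.  Everything lives in `Groth.Agent.Lib.Helper45`.

`IsLocalizingOn F U` packages the two facts about sections over basic opens which make the stalks
of `F` at points of the affine open `U` localizations of `Γ(F, U)`.  Quasi-coherent modules satisfy
it on every affine open, and so do pushforwards of quasi-coherent modules along affine morphisms
(without having to know that these pushforwards are quasi-coherent).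
-/

set_option autoImplicit false
universe u
open CategoryTheory CategoryTheory.Limits AlgebraicGeometry TopologicalSpace

namespace Groth.Agent.Lib.Helper45

variable {X : Scheme.{u}}

/-- Sections of `F` over basic opens of `U` are localizations of the sections over `U`. -/
structure IsLocalizingOn (F : X.Modules) (U : X.Opens) : Prop where
  exists_restrict_eq_pow_smul : ∀ (f : Γ(X, U)) (s : Γ(F, X.basicOpen f)),
    ∃ (n : ℕ) (t : Γ(F, U)), F.presheaf.map (homOfLE (X.basicOpen_le f)).op t =
      (X.presheaf.map (homOfLE (X.basicOpen_le f)).op f) ^ n • s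
  exists_pow_smul_eq_zero : ∀ (f : Γ(X, U)) (t : Γ(F, U)),
    F.presheaf.map (homOfLE (X.basicOpen_le f)).op t = 0 → ∃ n : ℕ, f ^ n • t = 0

theorem isLocalizingOn_of_isQuasicoherent {U : X.Opens} (hU : IsAffineOpen U) (F : X.Modules)
    [F.IsQuasicoherent] : IsLocalizingOn F U :=
  ⟨exists_restrict_eq_pow_smul hU F, exists_pow_smul_eq_zero_of_restrict_eq_zero hU F⟩

section Stalk

variable {U : X.Opens} (hU : IsAffineOpen U) (F : X.Modules) (x : U)

attribute [local instance] stalkModuleSections

theorem isLocalizedModule_germₗ_of_isLocalizingOn (hF : IsLocalizingOn F U) :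
    IsLocalizedModule (hU.primeIdealOf x).asIdeal.primeCompl (germₗ F x) := by
  have hloc := hU.isLocalization_stalk x
  refine ⟨?_, ?_, ?_⟩
  · intro s
    rw [Module.End.isUnit_iff]
    have hs : IsUnit (algebraMap Γ(X, U) (X.presheaf.stalk (x : X)) s) :=
      IsLocalization.map_units _ s
    obtain ⟨u, hu⟩ := hs
    refine ⟨fun a b hab => ?_, fun b => ⟨(↑u⁻¹ : X.presheaf.stalk (x : X)) • b, ?_⟩⟩
    · have h1 : (u : X.presheaf.stalk (x : X)) • a = (u : X.presheaf.stalk (x : X)) • b := by
        rw [hu]; exact hab
      have := congrArg (fun z => (↑u⁻¹ : X.presheaf.stalk (x : X)) • z) h1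
      simpa [smul_smul] using this
    · rw [Module.algebraMap_end_apply, ← algebraMap_smul (X.presheaf.stalk (x : X)), ← hu, smul_smul]
      simp
  · intro y
    obtain ⟨V, hxV, s, rfl⟩ := TopCat.Presheaf.exists_germ_eq F.presheaf y
    obtain ⟨f, hfV, hxf⟩ := hU.exists_basicOpen_le ⟨(x : X), hxV⟩ x.2
    obtain ⟨n, t, ht⟩ := hF.exists_restrict_eq_pow_smul f (F.presheaf.map (homOfLE hfV).op s)
    have hf : f ∉ (hU.primeIdealOf x).asIdeal := (mem_basicOpen_iff_not_mem_primeIdealOf hU x f).mp hxf
    refine ⟨⟨t, ⟨f ^ n, ?_⟩⟩, ?_⟩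
    · exact Submonoid.pow_mem _ hf n
    · have h1 := congrArg (F.presheaf.germ (X.basicOpen f) x hxf) ht
      rw [TopCat.Presheaf.germ_res_apply, germ_smul, TopCat.Presheaf.germ_res_apply,
        map_pow, TopCat.Presheaf.germ_res_apply] at h1
      rw [germₗ_apply]
      change (algebraMap Γ(X, U) (X.presheaf.stalk (x : X)) (f ^ n)) •
        (F.presheaf.germ V (x : X) hxV s) = _
      rw [map_pow]
      exact h1.symm
  · intro m₁ m₂ h
    rw [germₗ_apply, germₗ_apply] at h
    obtain ⟨W, hxW, i₁, i₂, hW⟩ := TopCat.Presheaf.germ_eq F.presheaf (x : X) x.2 x.2 m₁ m₂ h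
    obtain ⟨f, hfW, hxf⟩ := hU.exists_basicOpen_le ⟨(x : X), hxW⟩ x.2
    have hf : f ∉ (hU.primeIdealOf x).asIdeal := (mem_basicOpen_iff_not_mem_primeIdealOf hU x f).mp hxf
    have h0 : F.presheaf.map (homOfLE (X.basicOpen_le f)).op (m₁ - m₂) = 0 := by
      have h2 := congrArg (F.presheaf.map (homOfLE hfW).op) hW
      rw [← ConcreteCategory.comp_apply, ← ConcreteCategory.comp_apply, ← Functor.map_comp,
        ← Functor.map_comp] at h2
      rw [map_sub, sub_eq_zero]
      exact h2
    obtain ⟨n, hn⟩ := hF.exists_pow_smul_eq_zero f (m₁ - m₂) h0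
    refine ⟨⟨f ^ n, Submonoid.pow_mem _ hf n⟩, ?_⟩
    rw [smul_sub, sub_eq_zero] at hn
    exact hn

/-- Weakly associated points of a module localizing on the affine open `U` are the points of the
primes of `Γ(X, U)` weakly associated to `Γ(F, U)`. -/
theorem isWeakAssPoint_iff_of_isLocalizingOn (hF : IsLocalizingOn F U) :
    Curv2.IsWeakAssPoint F (x : X) ↔
      (hU.primeIdealOf x).asIdeal ∈ FlatCA.weakAss Γ(X, U) Γ(F, U) := by
  have := hU.isLocalization_stalk x
  have := isLocalizedModule_germₗ_of_isLocalizingOn hU F x hF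
  rw [isWeakAssPoint_iff_exists_radical_annEl]
  exact (mem_weakAss_iff_exists_radical_annEl_eq_maximalIdeal (hU.primeIdealOf x).asIdeal
    (X.presheaf.stalk (x : X)) (germₗ F x)).symm

end Stalk

section Pushforward

variable {S : Scheme.{u}} (f : X ⟶ S)

theorem pushforward_smul (F : X.Modules) (W : S.Opens) (a : Γ(S, W))
    (m : Γ((Scheme.Modules.pushforward f).obj F, W)) :
    a • m = ((f.app W a) • (show Γ(F, f ⁻¹ᵁ W) from m) : Γ(F, f ⁻¹ᵁ W)) := rfl

/-- The pushforward of a quasi-coherent module along an affine morphism localizes correctly on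
affine opens of the target. -/
theorem isLocalizingOn_pushforward [IsAffineHom f] (F : X.Modules) [F.IsQuasicoherent]
    {V : S.Opens} (hV : IsAffineOpen V) :
    IsLocalizingOn ((Scheme.Modules.pushforward f).obj F) V := by
  have hU : IsAffineOpen (f ⁻¹ᵁ V) := hV.preimage f
  have hF := isLocalizingOn_of_isQuasicoherent hU F
  constructor
  · intro g s
    have e : f ⁻¹ᵁ (S.basicOpen g) = X.basicOpen (f.app V g) := Scheme.preimage_basicOpen f g
    obtain ⟨n, t, ht⟩ := hF.exists_restrict_eq_pow_smul (f.app V g)
      (F.presheaf.map (eqToHom e.symm).op (show Γ(F, f ⁻¹ᵁ (S.basicOpen g)) from s))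
    refine ⟨n, t, ?_⟩
    have hinj : Function.Injective (F.presheaf.map (eqToHom e.symm).op) := by
      have : IsIso (F.presheaf.map (eqToHom e.symm).op) := inferInstance
      exact ((ConcreteCategory.isIso_iff_bijective _).mp this).1
    apply hinj
    rw [pushforward_smul, Scheme.Modules.map_smul]
    have h1 : F.presheaf.map (eqToHom e.symm).op
        (((Scheme.Modules.pushforward f).obj F).presheaf.map (homOfLE (S.basicOpen_le g)).op t) =
        F.presheaf.map (homOfLE (X.basicOpen_le (f.app V g))).op t := by
      change F.presheaf.map (eqToHom e.symm).op (F.presheaf.map _ t) = _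
      rw [← ConcreteCategory.comp_apply, ← Functor.map_comp]
      rfl
    rw [h1, ht]
    congr 1
    rw [map_pow, map_pow]
    congr 1
    have h2 := congrArg (fun φ => (ConcreteCategory.hom φ) g)
      (f.naturality (homOfLE (S.basicOpen_le g)).op)
    simp only [CommRingCat.comp_apply] at h2
    rw [h2]
    conv_rhs => rw [← ConcreteCategory.comp_apply, ← Functor.map_comp]
    rfl
  · intro g (t : Γ(F, f ⁻¹ᵁ V)) ht
    have e : f ⁻¹ᵁ (S.basicOpen g) = X.basicOpen (f.app V g) := Scheme.preimage_basicOpen f g
    have h0 : F.presheaf.map (homOfLE (X.basicOpen_le (f.app V g))).op t = 0 := by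
      have h1 : F.presheaf.map (eqToHom e.symm).op
          (((Scheme.Modules.pushforward f).obj F).presheaf.map (homOfLE (S.basicOpen_le g)).op t) =
          F.presheaf.map (homOfLE (X.basicOpen_le (f.app V g))).op t := by
        change F.presheaf.map (eqToHom e.symm).op (F.presheaf.map _ t) = _
        rw [← ConcreteCategory.comp_apply, ← Functor.map_comp]
        rfl
      rw [← h1, ht]
      exact map_zero _
    obtain ⟨n, hn⟩ := hF.exists_pow_smul_eq_zero (f.app V g) t h0
    refine ⟨n, ?_⟩
    change (f.app V (g ^ n)) • t = 0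
    rw [map_pow]
    exact hn

end Pushforward

end Groth.Agent.Lib.Helper45
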