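import Groth.Prelude.Def_ClSub2
import Groth.Agent.S2249
import Groth.Agent.Lib.Helper45.ModulesExact
import Groth.Agent.Lib.Helper45.RegularSections
import Groth.Agent.Lib.Helper49.QCohLocal
import Groth.Agent.Lib.Helper49.AffineHom

set_option autoImplicit false
universe u
open AlgebraicGeometry CategoryTheory Limits Opposite TopologicalSpace

namespace Groth.Agent.Lib.Helper45

variable {X : Scheme.{u}} (I : X.IdealSheafData)

theorem isQuasicoherent_quotMod : (ClSub.quotMod I).IsQuasicoherent :=
  haveI : Coh.IsQCoh (Coh.structureModule I.subscheme) :=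
    isQuasicoherent_structureModule _
  Groth.Agent.S2249.result I.subschemeι (Coh.structureModule I.subscheme)

instance isQuasicoherent_idealMod : (ClSub.idealMod I).IsQuasicoherent :=
  Groth.Agent.Lib.Helper49.isQuasicoherent_kernel _ (isQuasicoherent_structureModule X)
    (isQuasicoherent_quotMod I)

instance mono_idealModι : Mono (ClSub.idealModι I) :=
  inferInstanceAs (Mono (kernel.ι (ClSub.toSubscheme I)))

theorem toSubscheme_app (V : X.Opens) (a : Γ(X, V)) :
    (ClSub.toSubscheme I).app V a = (I.subschemeι.app V a : Γ(I.subscheme, I.subschemeι ⁻¹ᵁ V)) :=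
  rfl

theorem idealModι_app_injective (U : X.Opens) :
    Function.Injective ((ClSub.idealModι I).app U) :=
  app_injective_of_mono _ U

theorem idealModι_app_exact (U : X.Opens) :
    Function.Exact ((ClSub.idealModι I).app U) ((ClSub.toSubscheme I).app U) := by
  have hS : (ShortComplex.mk (ClSub.idealModι I) (ClSub.toSubscheme I)
      (kernel.condition _)).Exact := ShortComplex.exact_kernel (ClSub.toSubscheme I)
  have h := hS.map_of_mono_of_preservesKernel (sectionsFunctor X U) (mono_idealModι I) inferInstance
  exact (ShortComplex.ab_exact_iff_function_exact _).mp h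

/-- A function on an affine open lies in the ideal iff it is (the image of) a section of the
ideal module. -/
theorem mem_ideal_iff_exists_section (U : X.affineOpens) (a : Γ(X, U.1)) :
    a ∈ I.ideal U ↔ ∃ s : Γ(ClSub.idealMod I, U.1), (ClSub.idealModι I).app U.1 s = a := by
  rw [← I.ker_subschemeι_app U, RingHom.mem_ker]
  constructor
  · intro h
    exact ((idealModι_app_exact I U.1) a).1 h
  · rintro ⟨s, rfl⟩
    exact ((idealModι_app_exact I U.1) _).2 ⟨s, rfl⟩

theorem idealModι_app_mem (U : X.affineOpens) (s : Γ(ClSub.idealMod I, U.1)) :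
    (show Γ(X, U.1) from (ClSub.idealModι I).app U.1 s) ∈ I.ideal U :=
  (mem_ideal_iff_exists_section I U _).2 ⟨s, rfl⟩

theorem idealModι_app_smul (U : X.Opens) (r : Γ(X, U)) (s : Γ(ClSub.idealMod I, U)) :
    (show Γ(X, U) from (ClSub.idealModι I).app U (r • s)) =
      r * (show Γ(X, U) from (ClSub.idealModι I).app U s) :=
  Scheme.Modules.Hom.app_smul (ClSub.idealModι I) r s

/-- A quasi-coherent module whose sections over an affine open `U` are free of rank one restricts
to the structure sheaf on `U`. -/
theorem nonempty_restrict_iso_structureModule {U : X.Opens} (hU : IsAffineOpen U)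
    (F : X.Modules) [F.IsQuasicoherent]
    (e : Γ(F, U) ≃ₗ[Γ(X, U)] Γ(Coh.structureModule X, U)) :
    Nonempty (F.restrict U.ι ≅ Coh.structureModule (↑U)) := by
  obtain ⟨φ, -⟩ := Helper49.exists_iso_restrict_of_linearEquiv hU F (Coh.structureModule X) e
  exact ⟨φ ≪≫ Scheme.Modules.restrictUnitIso U.ι⟩

end Groth.Agent.Lib.Helper45
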