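import Mathlib
import Groth.Prelude.Def_Pic
import Groth.Agent.Lib.Helper49.QcqsModules
import Groth.Agent.Lib.Helper45.IdealModSections

/-!
# Local bases of invertible modules

`IsBasisOn L V t`: the section `t ∈ Γ(L, V)` is a basis of `L` over `V`, i.e. for every open
`W ≤ V` the map `Γ(X, W) → Γ(L, W)`, `r ↦ r • t|_W` is bijective.

* `IsBasisOn.mono`, `IsBasisOn.smul_unit`, `IsBasisOn.of_cover` (gluing),
* `exists_isBasisOn_of_iso`: a trivialisation `L|_V ≅ O_V` gives a basis on `V`,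
* `IsBasisOn.nonempty_iso`: a basis on an affine open `V` gives `L|_V ≅ O_V` (for `L` qcoh),
* `isQuasicoherent_of_isInvertible`.
-/

set_option autoImplicit false
universe u
open CategoryTheory CategoryTheory.Limits AlgebraicGeometry TopologicalSpace

namespace Groth.Agent.Lib.Helper45

open Groth.Agent.Lib.Helper49

variable {X : Scheme.{u}} (L : X.Modules)

/-- `t` is a basis of `L` over `V`. -/
def IsBasisOn (V : X.Opens) (t : Γ(L, V)) : Prop :=
  ∀ (W : X.Opens) (h : W ≤ V), Function.Bijective (fun r : Γ(X, W) => r • mres L h t)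

variable {L}

theorem IsBasisOn.mono {V V' : X.Opens} {t : Γ(L, V)} (ht : IsBasisOn L V t) (h : V' ≤ V) :
    IsBasisOn L V' (mres L h t) := by
  intro W hW
  have := ht W (hW.trans h)
  simpa only [mres_mres] using this

theorem IsBasisOn.smul_unit {V : X.Opens} {t : Γ(L, V)} (ht : IsBasisOn L V t) (u : Γ(X, V))
    (hu : IsUnit u) : IsBasisOn L V (u • t) := by
  intro W hW
  have h1 := ht W hW
  have hu' : IsUnit (fres hW u) := hu.map _
  have h2 : Function.Bijective (fun r : Γ(X, W) => r * fres hW u) := by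
    obtain ⟨v, hv⟩ := hu'
    rw [← hv]
    exact (Units.mulRight v).bijective
  have : (fun r : Γ(X, W) => r • mres L hW (u • t)) =
      (fun r : Γ(X, W) => r • mres L hW t) ∘ (fun r : Γ(X, W) => r * fres hW u) := by
    funext r
    simp only [Function.comp_apply, mres_smul, mul_smul]
  rw [this]
  exact h1.comp h2

theorem IsBasisOn.exists_eq_smul {V : X.Opens} {t : Γ(L, V)} (ht : IsBasisOn L V t)
    (s : Γ(L, V)) : ∃ r : Γ(X, V), r • t = s := by
  obtain ⟨r, hr⟩ := (ht V le_rfl).2 s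
  exact ⟨r, by simpa using hr⟩

theorem IsBasisOn.eq_of_smul_eq {V : X.Opens} {t : Γ(L, V)} (ht : IsBasisOn L V t)
    {r r' : Γ(X, V)} (h : r • t = r' • t) : r = r' := by
  apply (ht V le_rfl).1
  simpa using h

theorem IsBasisOn.congr_open {V V' : X.Opens} (e : V = V') {t : Γ(L, V)} (ht : IsBasisOn L V t) :
    IsBasisOn L V' (mres L e.symm.le t) := by
  subst e
  simpa using ht

/-- Being a basis is local on the open. -/
theorem IsBasisOn.of_cover {ι : Type*} (V : ι → X.Opens) (W : X.Opens) (hV : ∀ i, V i ≤ W)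
    (hcov : W ≤ ⨆ i, V i) (t : Γ(L, W)) (h : ∀ i, IsBasisOn L (V i) (mres L (hV i) t)) :
    IsBasisOn L W t := by
  intro W' hW'
  have hle : ∀ i, W' ⊓ V i ≤ W' := fun i => inf_le_left
  have hcov' : W' ≤ ⨆ i, W' ⊓ V i := by
    intro x hx
    obtain ⟨i, hi⟩ := Opens.mem_iSup.mp (hcov (hW' hx))
    exact Opens.mem_iSup.mpr ⟨i, ⟨hx, hi⟩⟩
  have hb : ∀ i, Function.Bijective
      (fun r : Γ(X, W' ⊓ V i) => r • mres L ((hle i).trans hW') t) := by
    intro i
    have := h i (W' ⊓ V i) inf_le_right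
    simpa only [mres_mres] using this
  constructor
  · intro r r' hrr'
    apply TopCat.Sheaf.eq_of_locally_eq' X.sheaf (fun i => W' ⊓ V i) W'
      (fun i => homOfLE (hle i)) hcov'
    intro i
    apply (hb i).1
    have := congrArg (mres L (hle i)) hrr'
    simp only [mres_smul, mres_mres] at this
    exact this
  · intro s
    choose c hc using fun i => (hb i).2 (mres L (hle i) s)
    obtain ⟨r, hr, -⟩ := TopCat.Sheaf.existsUnique_gluing' X.sheaf (fun i => W' ⊓ V i) W'
      (fun i => homOfLE (hle i)) hcov' c (by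
        intro i j
        change fres inf_le_left (c i) = fres inf_le_right (c j)
        have hinj := (h i ((W' ⊓ V i) ⊓ (W' ⊓ V j)) (inf_le_left.trans inf_le_right)).1
        apply hinj
        have h1 := congrArg (mres L (inf_le_left : (W' ⊓ V i) ⊓ (W' ⊓ V j) ≤ W' ⊓ V i)) (hc i)
        have h2 := congrArg (mres L (inf_le_right : (W' ⊓ V i) ⊓ (W' ⊓ V j) ≤ W' ⊓ V j)) (hc j)
        simp only [mres_smul, mres_mres] at h1 h2 ⊢
        rw [h1, h2])
    refine ⟨(show Γ(X, W') from r), ?_⟩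
    apply TopCat.Sheaf.eq_of_locally_eq' ⟨L.presheaf, L.isSheaf⟩ (fun i => W' ⊓ V i) W'
      (fun i => homOfLE (hle i)) hcov'
    intro i
    change mres L (hle i) ((show Γ(X, W') from r) • mres L hW' t) = mres L (hle i) s
    have hri : fres (hle i) (show Γ(X, W') from r) = c i := hr i
    rw [mres_smul, mres_mres, hri]
    exact hc i

/-- A trivialisation of `L` over `V` gives a basis of `L` over `V`. -/
theorem exists_isBasisOn_of_iso {V : X.Opens}
    (φ : L.restrict V.ι ≅ Coh.structureModule (↑V : Scheme.{u})) :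
    ∃ t : Γ(L, V), IsBasisOn L V t := by
  -- the section `φ⁻¹(1)`
  let one' : Γ(Coh.structureModule (↑V : Scheme.{u}), ⊤) :=
    (show Γ(Coh.structureModule (↑V : Scheme.{u}), ⊤) from (1 : Γ((↑V : Scheme.{u}), ⊤)))
  let t₀' : Γ(L.restrict V.ι, ⊤) := φ.inv.app ⊤ one'
  let t₀ : Γ(L, V.ι ''ᵁ ⊤) := t₀'
  have key : ∀ W' : (↑V : Scheme.{u}).Opens, Function.Bijective
      (fun r : Γ(X, V.ι ''ᵁ W') => r • mres L (V.ι.image_mono (le_top : W' ≤ ⊤)) t₀) := by
    intro W'
    let α := V.ι.appIso W'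
    let oneW : Γ(Coh.structureModule (↑V : Scheme.{u}), W') :=
      (show Γ(Coh.structureModule (↑V : Scheme.{u}), W') from (1 : Γ((↑V : Scheme.{u}), W')))
    let tW' : Γ(L.restrict V.ι, W') := φ.inv.app W' oneW
    have htW : mres L (V.ι.image_mono (le_top : W' ≤ ⊤)) t₀ =
        (show Γ(L, V.ι ''ᵁ W') from tW') := by
      change (L.restrict V.ι).presheaf.map (homOfLE (le_top : W' ≤ ⊤)).op (φ.inv.app ⊤ one') =
        φ.inv.app W' oneW
      rw [← app_map φ.inv (homOfLE (le_top : W' ≤ ⊤)) one']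
      congr 1
      exact map_one (((↑V : Scheme.{u}).presheaf.map (homOfLE (le_top : W' ≤ ⊤)).op).hom)
    let tW : Γ(L, V.ι ''ᵁ W') := tW'
    have htW2 : mres L (V.ι.image_mono (le_top : W' ≤ ⊤)) t₀ = tW := htW
    have hφt : φ.hom.app W' tW' = oneW := by
      change φ.hom.app W' (φ.inv.app W' oneW) = oneW
      rw [← ConcreteCategory.comp_apply, ← Scheme.Modules.Hom.comp_app, Iso.inv_hom_id]
      rfl
    have hsmul : ∀ (r' : Γ((↑V : Scheme.{u}), W')) (m : Γ(L.restrict V.ι, W')),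
        r' • m = (show Γ(L.restrict V.ι, W') from
          (α.inv r') • (show Γ(L, V.ι ''ᵁ W') from m)) := fun r' m => rfl
    have hsmul1 : ∀ (r' : Γ((↑V : Scheme.{u}), W')),
        r' • oneW = (show Γ(Coh.structureModule (↑V : Scheme.{u}), W') from r') := fun r' =>
      mul_one r'
    have hkey : ∀ r : Γ(X, V.ι ''ᵁ W'), (α.hom r) • tW' = r • tW := by
      intro r
      rw [hsmul]
      change (α.inv (α.hom r)) • tW = r • tW
      rw [Iso.hom_inv_id_apply]
    simp only [htW2]
    constructor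
    · intro r₁ r₂ h12
      have h12' : r₁ • tW = r₂ • tW := h12
      rw [← hkey r₁, ← hkey r₂] at h12'
      have h4 := congrArg (φ.hom.app W') h12'
      rw [Scheme.Modules.Hom.app_smul, Scheme.Modules.Hom.app_smul, hφt, hsmul1, hsmul1] at h4
      have h6 : α.hom r₁ = α.hom r₂ := h4
      have h7 := congrArg α.inv h6
      rwa [Iso.hom_inv_id_apply, Iso.hom_inv_id_apply] at h7
    · intro s
      let s' : Γ(L.restrict V.ι, W') := s
      let r' : Γ((↑V : Scheme.{u}), W') :=
        (show Γ((↑V : Scheme.{u}), W') from φ.hom.app W' s')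
      have e1 : φ.inv.app W' (φ.hom.app W' s') = s' := by
        rw [← ConcreteCategory.comp_apply, ← Scheme.Modules.Hom.comp_app, Iso.hom_inv_id]
        rfl
      have e2 : φ.inv.app W' (r' • oneW) = r' • tW' :=
        Scheme.Modules.Hom.app_smul φ.inv r' oneW
      have hs' : s' = r' • tW' := by
        rw [hsmul1] at e2
        exact e1.symm.trans e2
      refine ⟨α.inv r', ?_⟩
      change (α.inv r') • tW = s
      rw [hsmul] at hs'
      exact hs'.symm
  have hbasis : IsBasisOn L (V.ι ''ᵁ ⊤) t₀ := by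
    intro W hW
    obtain ⟨W', rfl⟩ : ∃ W' : (↑V : Scheme.{u}).Opens, W = V.ι ''ᵁ W' := by
      refine ⟨V.ι ⁻¹ᵁ W, ?_⟩
      rw [Scheme.Hom.image_preimage_eq_opensRange_inf, Scheme.Opens.opensRange_ι]
      refine (inf_eq_right.2 ?_).symm
      exact hW.trans (le_of_eq V.ι_image_top)
    exact key W'
  exact ⟨_, hbasis.congr_open V.ι_image_top⟩


/-- A basis of a quasi-coherent module over an affine open trivialises it there. -/
theorem IsBasisOn.nonempty_iso [L.IsQuasicoherent] {V : X.Opens} (hV : IsAffineOpen V)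
    {t : Γ(L, V)} (ht : IsBasisOn L V t) :
    Nonempty (L.restrict V.ι ≅ Coh.structureModule (↑V : Scheme.{u})) := by
  have hb := ht V le_rfl
  simp only [mres_self] at hb
  let φ : Γ(Coh.structureModule X, V) →ₗ[Γ(X, V)] Γ(L, V) :=
    { toFun := fun r => (show Γ(X, V) from r) • t
      map_add' := fun a b => add_smul (show Γ(X, V) from a) (show Γ(X, V) from b) t
      map_smul' := fun c r => mul_smul c (show Γ(X, V) from r) t }
  exact nonempty_restrict_iso_structureModule hV L (LinearEquiv.ofBijective φ hb).symm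

/-- Invertible modules are quasi-coherent. -/
theorem isQuasicoherent_of_isInvertible (hL : PicF.IsInvertible L) : L.IsQuasicoherent := by
  choose U hxU hφ using hL
  refine isQuasicoherent_of_forall_restrict L (ι := X) (fun x => (↑(U x) : Scheme.{u}))
    (fun x => (U x).ι) (fun x => ⟨x, by rw [Scheme.Opens.range_ι]; exact hxU x⟩) (fun x => ?_)
  exact isQuasicoherent_of_iso (hφ x).some.symm (isQuasicoherent_structureModule _)

/-- Invertible modules have local bases. -/
theorem exists_isBasisOn_of_isInvertible (hL : PicF.IsInvertible L) (x : X) :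
    ∃ V : X.Opens, x ∈ V ∧ ∃ t : Γ(L, V), IsBasisOn L V t := by
  obtain ⟨V, hxV, ⟨φ⟩⟩ := hL x
  exact ⟨V, hxV, exists_isBasisOn_of_iso φ⟩

/-! ### The prime of functions vanishing at a point -/

/-- The prime ideal of functions on `V` vanishing at `x ∈ V`. -/
noncomputable def vanishingIdealAt (x : X) {V : X.Opens} (hx : x ∈ V) : Ideal Γ(X, V) :=
  Ideal.comap (X.presheaf.germ V x hx).hom (IsLocalRing.maximalIdeal (X.presheaf.stalk x))

theorem mem_vanishingIdealAt_iff (x : X) {V : X.Opens} (hx : x ∈ V) (a : Γ(X, V)) :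
    a ∈ vanishingIdealAt x hx ↔ x ∉ X.basicOpen a := by
  rw [Scheme.mem_basicOpen X a x hx]
  exact IsLocalRing.mem_maximalIdeal _

instance (x : X) {V : X.Opens} (hx : x ∈ V) : (vanishingIdealAt x hx).IsPrime :=
  Ideal.comap_isPrime _ _

/-- On an affine open, a point which is not a specialization of `z` is separated from `z` by a
function. -/
theorem exists_mem_basicOpen_not_mem {U : X.Opens} (hU : IsAffineOpen U) {x z : X} (hx : x ∈ U)
    (h : ¬ z ⤳ x) : ∃ c : Γ(X, U), x ∈ X.basicOpen c ∧ z ∉ X.basicOpen c := by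
  rw [specializes_iff_forall_open] at h
  push Not at h
  obtain ⟨O, hO, hxO, hzO⟩ := h
  obtain ⟨f, hf, hxf⟩ := hU.exists_basicOpen_le (V := ⟨O, hO⟩) ⟨x, hxO⟩ hx
  exact ⟨f, hxf, fun hz => hzO (hf hz)⟩

section Core

variable [L.IsQuasicoherent] {U₀ : X.Opens} (hU₀ : IsAffineOpen U₀)

include hU₀ in
/-- A local basis near a point of an affine open `U₀` can be taken to be the restriction of a
section over `U₀` to a basic open. -/
theorem exists_global_isBasisOn_near {x : X} (hx : x ∈ U₀) {V : X.Opens} (hxV : x ∈ V)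
    {t : Γ(L, V)} (ht : IsBasisOn L V t) :
    ∃ g : Γ(X, U₀), x ∈ X.basicOpen g ∧ ∃ y : Γ(L, U₀),
      IsBasisOn L (X.basicOpen g) (mres L (X.basicOpen_le g) y) := by
  obtain ⟨g, hg, hxg⟩ := hU₀.exists_basicOpen_le ⟨x, hxV⟩ hx
  have ht' := ht.mono hg
  obtain ⟨n, y, hy⟩ := exists_restrict_eq_pow_smul hU₀ L g (mres L hg t)
  refine ⟨g, hxg, y, ?_⟩
  have hu : IsUnit (fres (X.basicOpen_le g) g) := RingedSpace.isUnit_res_basicOpen _ g
  have := ht'.smul_unit _ (hu.pow n)
  rw [mres_apply, hy]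
  exact this

include hU₀ in
/-- **Simultaneous trivialisation near finitely many points.**  Let `L` be a quasi-coherent module
with local bases at the points of an affine open `U₀` and `T` a finite set of points of `U₀`, no
two of which specialise to each other.  Then there is a section `p` of `L` over `U₀` which is a
basis of `L` on an open neighbourhood `W ⊆ U₀` of `T`. -/
theorem exists_isBasisOn_of_finset
    (hloc : ∀ x ∈ U₀, ∃ V : X.Opens, x ∈ V ∧ ∃ t : Γ(L, V), IsBasisOn L V t)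
    (T : Finset X) (hT : ∀ x ∈ T, x ∈ U₀) (hsp : ∀ x ∈ T, ∀ z ∈ T, z ⤳ x → z = x) :
    ∃ (W : X.Opens) (hW : W ≤ U₀) (p : Γ(L, U₀)),
      (∀ x ∈ T, x ∈ W) ∧ IsBasisOn L W (mres L hW p) := by
  classical
  -- Step 1: local bases coming from global sections
  have h1 : ∀ x : X, ∃ g : Γ(X, U₀), ∃ y : Γ(L, U₀), x ∈ T →
      (x ∈ X.basicOpen g ∧ IsBasisOn L (X.basicOpen g) (mres L (X.basicOpen_le g) y)) := by
    intro x
    by_cases hxT : x ∈ T
    · obtain ⟨V, hxV, t, ht⟩ := hloc x (hT x hxT)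
      obtain ⟨g, hxg, y, hy⟩ := exists_global_isBasisOn_near hU₀ (hT x hxT) hxV ht
      exact ⟨g, y, fun _ => ⟨hxg, hy⟩⟩
    · exact ⟨0, 0, fun h => absurd h hxT⟩
  choose g y hgy using h1
  -- Step 2: separating functions
  have h2 : ∀ x z : X, ∃ c : Γ(X, U₀), x ∈ T → z ∈ T → z ≠ x →
      (x ∈ X.basicOpen c ∧ z ∉ X.basicOpen c) := by
    intro x z
    by_cases h : x ∈ T ∧ z ∈ T ∧ z ≠ x
    · obtain ⟨c, hc⟩ := exists_mem_basicOpen_not_mem hU₀ (hT x h.1)
        (fun hzx => h.2.2 (hsp x h.1 z h.2.1 hzx))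
      exact ⟨c, fun _ _ _ => hc⟩
    · exact ⟨0, fun a b c => absurd ⟨a, b, c⟩ h⟩
  choose c hc using h2
  let a : X → Γ(X, U₀) := fun x => ∏ z ∈ T.erase x, c x z
  have ha1 : ∀ x ∈ T, x ∈ X.basicOpen (a x) := by
    intro x hxT
    have := (mem_vanishingIdealAt_iff x (hT x hxT) (a x)).not
    rw [not_not] at this
    rw [← this, Ideal.IsPrime.prod_mem_iff]
    rintro ⟨z, hz, hmem⟩
    rw [mem_vanishingIdealAt_iff] at hmem
    exact hmem (hc x z hxT (Finset.mem_of_mem_erase hz) (Finset.ne_of_mem_erase hz)).1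
  have ha2 : ∀ x ∈ T, ∀ z ∈ T, z ≠ x → z ∉ X.basicOpen (a x) := by
    intro x hxT z hzT hzx
    rw [← mem_vanishingIdealAt_iff z (hT z hzT)]
    refine Ideal.IsPrime.prod_mem_iff.mpr ⟨z, Finset.mem_erase.mpr ⟨hzx, hzT⟩, ?_⟩
    rw [mem_vanishingIdealAt_iff]
    exact (hc x z hxT hzT hzx).2
  let p : Γ(L, U₀) := ∑ x ∈ T, a x • y x
  -- Step 3: near `x ∈ T`, `p` is a unit multiple of `y x`
  have h3 : ∀ x ∈ T, ∃ r : Γ(X, X.basicOpen (g x)), x ∈ X.basicOpen r ∧
      mres L (X.basicOpen_le (g x)) p = r • mres L (X.basicOpen_le (g x)) (y x) := by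
    intro x hxT
    have hD : X.basicOpen (g x) ≤ U₀ := X.basicOpen_le (g x)
    have hxD : x ∈ X.basicOpen (g x) := (hgy x hxT).1
    have hB := (hgy x hxT).2
    choose ρ hρ using fun z => hB.exists_eq_smul (mres L hD (y z))
    have hρx : ρ x = 1 := by
      apply hB.eq_of_smul_eq
      rw [hρ x, one_smul]
    refine ⟨∑ z ∈ T, fres hD (a z) * ρ z, ?_, ?_⟩
    · rw [← not_not (a := x ∈ _), ← mem_vanishingIdealAt_iff x hxD]
      intro hmem
      rw [← Finset.add_sum_erase T _ hxT, hρx, mul_one] at hmem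
      have hsum : ∑ z ∈ T.erase x, fres hD (a z) * ρ z ∈ vanishingIdealAt x hxD := by
        refine Ideal.sum_mem _ fun z hz => Ideal.mul_mem_right _ _ ?_
        rw [mem_vanishingIdealAt_iff, basicOpen_fres]
        exact fun h => ha2 z (Finset.mem_of_mem_erase hz) x hxT (Finset.ne_of_mem_erase hz).symm h.2
      have hax : fres hD (a x) ∈ vanishingIdealAt x hxD := by
        have := Ideal.sub_mem _ hmem hsum
        simpa using this
      rw [mem_vanishingIdealAt_iff, basicOpen_fres] at hax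
      exact hax ⟨hxD, ha1 x hxT⟩
    · rw [Finset.sum_smul]
      simp only [p, map_sum, mres_smul, mul_smul, hρ]
  choose r hr using h3
  -- Step 4: glue
  have hle : ∀ i : {x // x ∈ T}, X.basicOpen (r i.1 i.2) ≤ U₀ := fun i =>
    (X.basicOpen_le _).trans (X.basicOpen_le (g i.1))
  let W : X.Opens := ⨆ i : {x // x ∈ T}, X.basicOpen (r i.1 i.2)
  have hW : W ≤ U₀ := iSup_le hle
  refine ⟨W, hW, p, fun x hxT => Opens.mem_iSup.mpr ⟨⟨x, hxT⟩, (hr x hxT).1⟩, ?_⟩
  refine IsBasisOn.of_cover (fun i : {x // x ∈ T} => X.basicOpen (r i.1 i.2)) W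
    (fun i => le_iSup (fun i : {x // x ∈ T} => X.basicOpen (r i.1 i.2)) i) le_rfl _ (fun i => ?_)
  rw [mres_mres]
  have hB := ((hgy i.1 i.2).2).mono (X.basicOpen_le (r i.1 i.2))
  have hu : IsUnit (fres (X.basicOpen_le (r i.1 i.2)) (r i.1 i.2)) :=
    RingedSpace.isUnit_res_basicOpen _ (r i.1 i.2)
  have h4 := hB.smul_unit _ hu
  have h5 : mres L (hle i) p = fres (X.basicOpen_le (r i.1 i.2)) (r i.1 i.2) •
      mres L (X.basicOpen_le (r i.1 i.2)) (mres L (X.basicOpen_le (g i.1)) (y i.1)) := by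
    rw [← mres_smul, ← (hr i.1 i.2).2, mres_mres]
  rw [h5]
  exact h4

end Core

end Groth.Agent.Lib.Helper45
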