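import Mathlib
import Groth.Prelude.Def_RefHull
import Groth.Agent.Lib.Helper45.EpiStalk
import Groth.Agent.Lib.Helper45.ModulesExact
import Groth.Agent.Lib.Helper49.FreeMod
import Groth.Agent.Lib.Helper49.StalkExact
import Groth.Agent.Lib.Helper49.FiniteTypeLocal
import Groth.Agent.Lib.Helper49.FinitePresentation2

/-!
# Local generators and relations of finite type / finitely presented `O_X`-modules

Shared library of helper45 (namespace `Groth.Agent.Lib.Helper45.RefHullBasic`).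

* `gen π i`: the `i`-th generator defined by `π : O_Y^n ⟶ N`.
* `app_eq_sum_gen`: `π(s) = ∑ sᵢ • genᵢ`.
* `exists_local_combination`: if `π` is an epimorphism every section is locally a combination of
  the generators.
-/

set_option autoImplicit false
universe u
open CategoryTheory CategoryTheory.Limits AlgebraicGeometry TopologicalSpace

namespace Groth.Agent.Lib.Helper45.RefHullBasic

open Groth.Agent.Lib.Helper49

section YSide

variable {Y : Scheme.{u}} {N : Y.Modules} {n : ℕ}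

/-- The `i`-th generator (a global section) defined by `π : O_Y^n ⟶ N`. -/
noncomputable def gen (π : FlatMod.freeMod Y n ⟶ N) (i : Fin n) : Γ(N, ⊤) :=
  (freeι Y n i ≫ π).app ⊤ (1 : Γ(Y, ⊤))

/-- A morphism out of `O_Y` is determined by the image of `1`. -/
theorem unit_app_eq (φ : Coh.structureModule Y ⟶ N) (W : Y.Opens) (a : Γ(Y, W)) :
    φ.app W a = a • N.presheaf.map (homOfLE le_top).op (φ.app ⊤ (1 : Γ(Y, ⊤))) := by
  have h1 : φ.app W a = a • φ.app W (1 : Γ(Y, W)) := by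
    have := Scheme.Modules.Hom.app_smul φ a (1 : Γ(Y, W))
    rw [← this]
    congr 1
    exact (mul_one a).symm
  rw [h1]
  congr 1
  have hnat := congrArg (fun g => g.hom (1 : Γ(Y, ⊤)))
    (φ.mapPresheaf.naturality (homOfLE (le_top : W ≤ ⊤)).op)
  refine Eq.trans ?_ hnat
  change φ.app W (1 : Γ(Y, W)) = φ.app W (Y.presheaf.map (homOfLE (le_top : W ≤ ⊤)).op 1)
  rw [map_one]

theorem app_eq_sum_gen (π : FlatMod.freeMod Y n ⟶ N) (W : Y.Opens)
    (s : Γ(FlatMod.freeMod Y n, W)) :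
    π.app W s = ∑ i, (sectionsFreeEquiv Y n W s i) •
      N.presheaf.map (homOfLE le_top).op (gen π i) := by
  have h1 : s = ∑ i, (freeι Y n i).app W (sectionsFreeEquiv Y n W s i) :=
    ((sectionsFreeEquiv Y n W).symm_apply_apply s).symm
  conv_lhs => rw [h1]
  rw [map_sum]
  refine Finset.sum_congr rfl fun i _ => ?_
  exact unit_app_eq (freeι Y n i ≫ π) W _

/-- If `π` is an epimorphism, every section of `N` is locally a combination of the generators. -/
theorem exists_local_combination (π : FlatMod.freeMod Y n ⟶ N) [Epi π] (W : Y.Opens) (m : Γ(N, W))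
    (y : Y) (hy : y ∈ W) :
    ∃ (W' : Y.Opens) (_ : y ∈ W') (j : W' ⟶ W) (a : Fin n → Γ(Y, W')),
      N.presheaf.map j.op m = ∑ i, a i • N.presheaf.map (homOfLE le_top).op (gen π i) := by
  obtain ⟨W', hle, hyW', s, hs⟩ := exists_app_eq_of_epi π W m y hy
  exact ⟨W', hyW', homOfLE hle, sectionsFreeEquiv Y n W' s, by rw [← hs, app_eq_sum_gen]⟩

/-- The matrix of `ρ : O_Y^m ⟶ O_Y^n`. -/
noncomputable def rel {m : ℕ} (ρ : FlatMod.freeMod Y m ⟶ FlatMod.freeMod Y n) (j : Fin m)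
    (i : Fin n) : Γ(Y, ⊤) :=
  (freeι Y m j ≫ ρ ≫ freeπ Y n i).app ⊤ (1 : Γ(Y, ⊤))

theorem sum_rel_smul_gen {m : ℕ} (π : FlatMod.freeMod Y n ⟶ N)
    (ρ : FlatMod.freeMod Y m ⟶ FlatMod.freeMod Y n) (h : ρ ≫ π = 0) (j : Fin m) :
    ∑ i, rel ρ j i • gen π i = 0 := by
  have h1 := app_eq_sum_gen π ⊤ (ρ.app ⊤ ((freeι Y m j).app ⊤ (1 : Γ(Y, ⊤))))
  have h2 : π.app ⊤ (ρ.app ⊤ ((freeι Y m j).app ⊤ (1 : Γ(Y, ⊤)))) = 0 := by
    change (ρ ≫ π).app ⊤ ((freeι Y m j).app ⊤ (1 : Γ(Y, ⊤))) = 0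
    rw [h]
    rfl
  rw [h2] at h1
  rw [h1]
  refine Finset.sum_congr rfl fun i _ => ?_
  have h3 : homOfLE (le_top : (⊤ : Y.Opens) ≤ ⊤) = 𝟙 _ := Subsingleton.elim _ _
  rw [h3]
  simp only [op_id, CategoryTheory.Functor.map_id]
  rfl

/-- If `κ : O_Y^m ⟶ ker π` is an epimorphism, then relations between the generators are locally
combinations of the rows of the matrix of `κ ≫ ι`. -/
theorem exists_local_relation {m : ℕ} (π : FlatMod.freeMod Y n ⟶ N) [Epi π]
    (κ : FlatMod.freeMod Y m ⟶ kernel π) [Epi κ] (W : Y.Opens) (a : Fin n → Γ(Y, W))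
    (ha : ∑ i, a i • N.presheaf.map (homOfLE (le_top : W ≤ ⊤)).op (gen π i) = 0)
    (y : Y) (hy : y ∈ W) :
    ∃ (W' : Y.Opens) (_ : y ∈ W') (j : W' ⟶ W) (b : Fin m → Γ(Y, W')),
      ∀ i, Y.presheaf.map j.op (a i) =
        ∑ k, b k * Y.presheaf.map (homOfLE le_top).op (rel (κ ≫ kernel.ι π) k i) := by
  set s : Γ(FlatMod.freeMod Y n, W) := (sectionsFreeEquiv Y n W).symm a with hs
  have hπs : π.app W s = 0 := by
    rw [app_eq_sum_gen, hs, LinearEquiv.apply_symm_apply]
    exact ha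
  let S : ShortComplex Y.Modules := ShortComplex.mk (kernel.ι π) π (kernel.condition π)
  have hS : S.ShortExact :=
    { exact := ShortComplex.exact_of_f_is_kernel _ (kernelIsKernel π)
      mono_f := inferInstanceAs (Mono (kernel.ι π))
      epi_g := inferInstanceAs (Epi π) }
  obtain ⟨k, hk⟩ := (app_exact_of_shortExact S hS W s).mp hπs
  obtain ⟨W', hle, hyW', s', hs'⟩ := exists_app_eq_of_epi κ W k y hy
  refine ⟨W', hyW', homOfLE hle, sectionsFreeEquiv Y m W' s', fun i => ?_⟩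
  have h1 := app_eq_sum_gen (κ ≫ kernel.ι π ≫ freeπ Y n i) W' s'
  have h2 : (κ ≫ kernel.ι π ≫ freeπ Y n i).app W' s' =
      Y.presheaf.map (homOfLE hle).op (a i) := by
    change (freeπ Y n i).app W' ((kernel.ι π).app W' (κ.app W' s')) = _
    rw [hs']
    have hnat1 := congrArg (fun g => g.hom k)
      ((kernel.ι π).mapPresheaf.naturality (homOfLE hle).op)
    have hnat1' : (kernel.ι π).app W' ((kernel π).presheaf.map (homOfLE hle).op k) =
        (FlatMod.freeMod Y n).presheaf.map (homOfLE hle).op ((kernel.ι π).app W k) := hnat1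
    rw [hnat1']
    have hk' : (kernel.ι π).app W k = s := hk
    rw [hk']
    have hnat2 := congrArg (fun g => g.hom s)
      ((freeπ Y n i).mapPresheaf.naturality (homOfLE hle).op)
    have hnat2' : (freeπ Y n i).app W' ((FlatMod.freeMod Y n).presheaf.map (homOfLE hle).op s) =
        (Coh.structureModule Y).presheaf.map (homOfLE hle).op ((freeπ Y n i).app W s) := hnat2
    rw [hnat2']
    have h3 : (freeπ Y n i).app W s = a i := by
      have := congrFun ((sectionsFreeEquiv Y n W).apply_symm_apply a) i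
      exact this
    rw [h3]
    rfl
  rw [← h2, h1]
  refine Finset.sum_congr rfl fun k _ => ?_
  rfl

/-- `O_Y^n` is the free sheaf of modules on any type with `n` elements. -/
noncomputable def freeModIsoFreeOfEquiv {I : Type u} (e : Fin n ≃ I) :
    FlatMod.freeMod Y n ≅ SheafOfModules.free (R := Y.ringCatSheaf) I :=
  Sigma.whiskerEquiv (f := fun _ : Fin n => Coh.structureModule Y)
    (g := fun _ : I => SheafOfModules.unit Y.ringCatSheaf) e (fun _ => Iso.refl _)

/-- Finitely many generating sections give an epimorphism from `O_Y^n`. -/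
theorem exists_epi_freeMod_of_generatingSections (G : N.GeneratingSections) [Finite G.I] :
    ∃ (n : ℕ) (π : FlatMod.freeMod Y n ⟶ N), Epi π := by
  obtain ⟨n, ⟨e⟩⟩ := Finite.exists_equiv_fin G.I
  have : Epi (C := Y.Modules) G.π := G.epi
  exact ⟨n, (freeModIsoFreeOfEquiv e.symm).hom ≫ G.π, epi_comp _ _⟩

/-- A finite presentation gives epimorphisms `π : O_Y^n ⟶ N` and `κ : O_Y^m ⟶ ker π`. -/
theorem exists_epi_freeMod_of_presentation (P : N.Presentation) [P.IsFinite] :
    ∃ (n m : ℕ) (π : FlatMod.freeMod Y n ⟶ N) (κ : FlatMod.freeMod Y m ⟶ kernel π),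
      Epi π ∧ Epi κ := by
  obtain ⟨n, ⟨e⟩⟩ := Finite.exists_equiv_fin P.generators.I
  obtain ⟨m, ⟨e'⟩⟩ := Finite.exists_equiv_fin P.relations.I
  have h1 : Epi (C := Y.Modules) P.generators.π := P.generators.epi
  have h2 : Epi (C := Y.Modules) P.relations.π := P.relations.epi
  let α : FlatMod.freeMod Y n ⟶ SheafOfModules.free (R := Y.ringCatSheaf) P.generators.I :=
    (freeModIsoFreeOfEquiv e.symm).hom
  let π : FlatMod.freeMod Y n ⟶ N := α ≫ P.generators.π
  let κ : FlatMod.freeMod Y m ⟶ kernel π :=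
    (freeModIsoFreeOfEquiv e'.symm).hom ≫ P.relations.π ≫
      (kernelIsIsoComp α P.generators.π).inv
  have hκ : Epi κ := by
    have : Epi (P.relations.π ≫ (kernelIsIsoComp α P.generators.π).inv) := epi_comp _ _
    exact epi_comp _ _
  exact ⟨n, m, π, κ, epi_comp _ _, hκ⟩

end YSide

section XSide

variable {X Y : Scheme.{u}} (f : Y ⟶ X) [IsOpenImmersion f] (F : X.Modules) {n : ℕ}

/-- The generators of `F` over `f ''ᵁ ⊤` defined by `π : O_Y^n ⟶ F|_Y`. -/
noncomputable def genX (π : FlatMod.freeMod Y n ⟶ F.restrict f) (i : Fin n) : Γ(F, f ''ᵁ ⊤) :=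
  gen π i

/-- A section of the restriction viewed as a section of `F`. -/
@[reducible] def toX {W : Y.Opens} (s : Γ(F.restrict f, W)) : Γ(F, f ''ᵁ W) := s

theorem restrict_smul_eq (W : Y.Opens) (b : Γ(Y, W)) (s : Γ(F.restrict f, W)) :
    toX f F (b • s) = ((f.appIso W).inv b : Γ(X, f ''ᵁ W)) • toX f F s := rfl

theorem germ_restrict_smul (W : Y.Opens) (b : Γ(Y, W)) (s : Γ(F.restrict f, W)) (y : Y)
    (hy : y ∈ W) :
    F.presheaf.germ (f ''ᵁ W) (f y) ⟨y, hy, rfl⟩ (toX f F (b • s)) =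
      X.presheaf.germ (f ''ᵁ W) (f y) ⟨y, hy, rfl⟩ ((f.appIso W).inv b) •
        F.presheaf.germ (f ''ᵁ W) (f y) ⟨y, hy, rfl⟩ (toX f F s) := by
  rw [restrict_smul_eq]
  exact Mero.germ_smul F (f ''ᵁ W) (f y) ⟨y, hy, rfl⟩ _ _

theorem germ_restrict_map {W W' : Y.Opens} (j : W' ⟶ W) (s : Γ(F.restrict f, W)) (y : Y)
    (hy : y ∈ W') :
    F.presheaf.germ (f ''ᵁ W') (f y) ⟨y, hy, rfl⟩
      (toX f F ((F.restrict f).presheaf.map j.op s)) =
    F.presheaf.germ (f ''ᵁ W) (f y) ⟨y, j.le hy, rfl⟩ (toX f F s) :=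
  TopCat.Presheaf.germ_res_apply F.presheaf (f.opensFunctor.map j) (f y) ⟨y, hy, rfl⟩ s

theorem germ_restrict_sum {W : Y.Opens} {ι : Type*} (t : Finset ι)
    (s : ι → Γ(F.restrict f, W)) (y : Y) (hy : y ∈ W) :
    F.presheaf.germ (f ''ᵁ W) (f y) ⟨y, hy, rfl⟩ (toX f F (∑ i ∈ t, s i)) =
      ∑ i ∈ t, F.presheaf.germ (f ''ᵁ W) (f y) ⟨y, hy, rfl⟩ (toX f F (s i)) :=
  map_sum (F.presheaf.germ (f ''ᵁ W) (f y) ⟨y, hy, rfl⟩).hom _ _

/-- The germs of the generators span every stalk. -/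
theorem span_germ_genX (π : FlatMod.freeMod Y n ⟶ F.restrict f) [Epi π] (y : Y) :
    Submodule.span (X.presheaf.stalk (f y)) (Set.range fun i =>
      F.presheaf.germ (f ''ᵁ ⊤) (f y) ⟨y, Opens.mem_top y, rfl⟩ (genX f F π i)) = ⊤ := by
  rw [eq_top_iff]
  intro a _
  obtain ⟨W, hy, m, rfl⟩ := exists_germ_image_eq f F y a
  obtain ⟨W', hyW', j, b, hb⟩ := exists_local_combination π W m y hy
  have h0 := germ_restrict_map f F j m y hyW'
  rw [hb, germ_restrict_sum f F _ _ y hyW'] at h0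
  refine (congrArg (· ∈ _) h0).mp ?_
  refine Submodule.sum_mem _ fun i _ => ?_
  rw [germ_restrict_smul f F W' (b i) _ y hyW']
  refine Submodule.smul_mem _ _ ?_
  rw [germ_restrict_map f F (homOfLE (le_top : W' ≤ ⊤)) (gen π i) y hyW']
  exact Submodule.subset_span ⟨i, rfl⟩

/-- The germ at `f y` of a section of `O_Y` over `W ∋ y`, viewed as a section of `O_X`. -/
noncomputable def germY {W : Y.Opens} (y : Y) (hy : y ∈ W) : Γ(Y, W) →+* X.presheaf.stalk (f y) :=
  (X.presheaf.germ (f ''ᵁ W) (f y) ⟨y, hy, rfl⟩).hom.comp (f.appIso W).inv.hom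

theorem germY_map {W W' : Y.Opens} (j : W' ⟶ W) (a : Γ(Y, W)) (y : Y) (hy : y ∈ W') :
    germY f y hy (Y.presheaf.map j.op a) = germY f y (j.le hy) a := by
  have h1 := congrArg (fun g => g.hom a) (f.appIso_inv_naturality j.op)
  change (f.appIso W').inv (Y.presheaf.map j.op a) =
    X.presheaf.map (f.opensFunctor.op.map j.op) ((f.appIso W).inv a) at h1
  change X.presheaf.germ (f ''ᵁ W') (f y) ⟨y, hy, rfl⟩ ((f.appIso W').inv (Y.presheaf.map j.op a)) = _
  rw [h1]
  exact TopCat.Presheaf.germ_res_apply X.presheaf (f.opensFunctor.map j) (f y) ⟨y, hy, rfl⟩ _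

theorem germ_restrict_smul' (W : Y.Opens) (b : Γ(Y, W)) (s : Γ(F.restrict f, W)) (y : Y)
    (hy : y ∈ W) :
    F.presheaf.germ (f ''ᵁ W) (f y) ⟨y, hy, rfl⟩ (toX f F (b • s)) =
      germY f y hy b • F.presheaf.germ (f ''ᵁ W) (f y) ⟨y, hy, rfl⟩ (toX f F s) :=
  germ_restrict_smul f F W b s y hy

/-- Finitely many elements of the stalk of `O_X` at `f y` come from sections of `O_Y` over a
common neighbourhood of `y`. -/
theorem exists_germY_eq {ι : Type*} [Finite ι] (y : Y) (c : ι → X.presheaf.stalk (f y)) :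
    ∃ (W : Y.Opens) (hy : y ∈ W) (a : ι → Γ(Y, W)), ∀ i, germY f y hy (a i) = c i := by
  choose W₁ hW₁ a₁ ha₁ using fun i => TopCat.Presheaf.exists_germ_eq X.presheaf (c i)
  let W : Y.Opens := ⨅ i, f ⁻¹ᵁ W₁ i
  have hyW : y ∈ W := by
    have : y ∈ (W : Set Y) := by
      rw [Opens.coe_iInf]
      exact Set.mem_iInter.mpr fun i => hW₁ i
    exact this
  have hle : ∀ i, f ''ᵁ W ≤ W₁ i := by
    intro i
    rintro _ ⟨z, hz, rfl⟩
    exact (iInf_le (fun i => f ⁻¹ᵁ W₁ i) i) hz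
  refine ⟨W, hyW, fun i => (f.appIso W).hom (X.presheaf.map (homOfLE (hle i)).op (a₁ i)),
    fun i => ?_⟩
  change X.presheaf.germ (f ''ᵁ W) (f y) ⟨y, hyW, rfl⟩
    ((f.appIso W).inv ((f.appIso W).hom (X.presheaf.map (homOfLE (hle i)).op (a₁ i)))) = _
  rw [Iso.hom_inv_id_apply, TopCat.Presheaf.germ_res_apply]
  exact ha₁ i

/-- The relation matrix, with entries viewed as sections of `O_X`. -/
noncomputable def relX {m : ℕ} (ρ : FlatMod.freeMod Y m ⟶ FlatMod.freeMod Y n) (j : Fin m)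
    (i : Fin n) : Γ(X, f ''ᵁ ⊤) :=
  (f.appIso ⊤).inv (rel ρ j i)

theorem sum_relX_smul_genX {m : ℕ} (π : FlatMod.freeMod Y n ⟶ F.restrict f)
    (ρ : FlatMod.freeMod Y m ⟶ FlatMod.freeMod Y n) (h : ρ ≫ π = 0) (j : Fin m) :
    ∑ i, relX f ρ j i • genX f F π i = 0 :=
  sum_rel_smul_gen π ρ h j

theorem map_map_apply (N : Y.Modules) {W W' W'' : Y.Opens} (j : W' ⟶ W) (j' : W'' ⟶ W')
    (s : Γ(N, W)) :
    N.presheaf.map j'.op (N.presheaf.map j.op s) = N.presheaf.map (j' ≫ j).op s := by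
  rw [op_comp, N.presheaf.map_comp]
  rfl

/-- Relations between the germs of the generators are combinations of the germs of the rows of the
relation matrix. -/
theorem mem_span_relX {m : ℕ} (π : FlatMod.freeMod Y n ⟶ F.restrict f) [Epi π]
    (κ : FlatMod.freeMod Y m ⟶ kernel π) [Epi κ] (y : Y) (c : Fin n → X.presheaf.stalk (f y))
    (hc : ∑ i, c i • F.presheaf.germ (f ''ᵁ ⊤) (f y) ⟨y, Opens.mem_top y, rfl⟩
      (genX f F π i) = 0) :
    c ∈ Submodule.span (X.presheaf.stalk (f y)) (Set.range fun j => fun i =>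
      X.presheaf.germ (f ''ᵁ ⊤) (f y) ⟨y, Opens.mem_top y, rfl⟩
        (relX f (κ ≫ kernel.ι π) j i)) := by
  obtain ⟨W, hyW, a, ha⟩ := exists_germY_eq f y c
  let z : Γ(F.restrict f, W) :=
    ∑ i, a i • (F.restrict f).presheaf.map (homOfLE (le_top : W ≤ ⊤)).op (gen π i)
  have hz : F.presheaf.germ (f ''ᵁ W) (f y) ⟨y, hyW, rfl⟩ (toX f F z) = 0 := by
    rw [germ_restrict_sum f F _ _ y hyW, ← hc]
    refine Finset.sum_congr rfl fun i _ => ?_
    rw [germ_restrict_smul' f F W (a i) _ y hyW, ha i,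
      germ_restrict_map f F (homOfLE (le_top : W ≤ ⊤)) (gen π i) y hyW]
    rfl
  have hfy : f y ∈ f ''ᵁ W := ⟨y, hyW, rfl⟩
  obtain ⟨W', hfyW', iU, iV, e⟩ := TopCat.Presheaf.germ_eq F.presheaf (U := f ''ᵁ W)
    (V := f ''ᵁ W) (f y) hfy hfy (toX f F z) 0 (by rw [hz, map_zero])
  rw [map_zero] at e
  let W'' : Y.Opens := W ⊓ f ⁻¹ᵁ W'
  have hyW'' : y ∈ W'' := ⟨hyW, hfyW'⟩
  let j'' : W'' ⟶ W := homOfLE inf_le_left
  have hle : f ''ᵁ W'' ≤ W' := by
    rintro _ ⟨w, hw, rfl⟩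
    exact hw.2
  have hz'' : (F.restrict f).presheaf.map j''.op z = 0 := by
    have h1 : (F.restrict f).presheaf.map j''.op z =
        F.presheaf.map (homOfLE hle).op (F.presheaf.map iU.op (toX f F z)) := by
      rw [← ConcreteCategory.comp_apply, ← F.presheaf.map_comp]
      rfl
    rw [h1, e]
    exact map_zero _
  have hz3 : (F.restrict f).presheaf.map j''.op z =
      ∑ i, Y.presheaf.map j''.op (a i) •
        (F.restrict f).presheaf.map (homOfLE (le_top : W'' ≤ ⊤)).op (gen π i) := by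
    rw [map_sum]
    refine Finset.sum_congr rfl fun i _ => ?_
    rw [Scheme.Modules.map_smul, map_map_apply]
    rfl
  obtain ⟨W3, hy3, j3, b, hb⟩ := exists_local_relation π κ W''
    (fun i => Y.presheaf.map j''.op (a i)) (by rw [← hz3, hz'']) y hyW''
  rw [Submodule.mem_span_range_iff_exists_fun]
  refine ⟨fun k => germY f y hy3 (b k), ?_⟩
  funext i
  rw [Finset.sum_apply]
  have h5 : c i = germY f y hy3 (Y.presheaf.map j3.op (Y.presheaf.map j''.op (a i))) := by
    rw [germY_map, germY_map, ha i]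
  rw [h5, hb i, map_sum]
  refine Finset.sum_congr rfl fun k _ => ?_
  rw [map_mul, germY_map]
  rfl

end XSide

section Main

variable {X : Scheme.{u}}

/-- A finite type module is, near every point, generated by finitely many sections, in the sense
that their germs span all nearby stalks. -/
theorem exists_local_generators (F : X.Modules) (hF : CohB1.IsFT F) (x : X) :
    ∃ (V : X.Opens) (_ : x ∈ V) (n : ℕ) (t : Fin n → Γ(F, V)),
      ∀ (y : X) (hy : y ∈ V), Submodule.span (X.presheaf.stalk y)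
        (Set.range fun i => F.presheaf.germ V y hy (t i)) = ⊤ := by
  obtain ⟨ι, U, hU, hG⟩ := exists_cover_of_isFiniteType F hF
  obtain ⟨i, hxi⟩ := hU.exists_mem x
  obtain ⟨G, hGfin⟩ := hG i
  obtain ⟨n, π, hπ⟩ := exists_epi_freeMod_of_generatingSections G
  refine ⟨(U i).ι ''ᵁ ⊤, ⟨⟨x, hxi⟩, Opens.mem_top _, rfl⟩, n, genX (U i).ι F π, ?_⟩
  rintro _ ⟨y, hy, rfl⟩
  exact span_germ_genX (U i).ι F π y

/-- A finitely presented module is, near every point, generated by finitely many sections with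
finitely many relations generating all relations between the germs at nearby points. -/
theorem exists_local_presentation (F : X.Modules) (hF : CohB1.IsFP F) (x : X) :
    ∃ (V : X.Opens) (_ : x ∈ V) (n m : ℕ) (t : Fin n → Γ(F, V)) (r : Fin m → Fin n → Γ(X, V)),
      (∀ j, ∑ i, r j i • t i = 0) ∧
      (∀ (y : X) (hy : y ∈ V), Submodule.span (X.presheaf.stalk y)
        (Set.range fun i => F.presheaf.germ V y hy (t i)) = ⊤) ∧
      (∀ (y : X) (hy : y ∈ V) (c : Fin n → X.presheaf.stalk y),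
        ∑ i, c i • F.presheaf.germ V y hy (t i) = 0 →
        c ∈ Submodule.span (X.presheaf.stalk y)
          (Set.range fun j => fun i => X.presheaf.germ V y hy (r j i))) := by
  obtain ⟨ι, U, hU, hP⟩ := exists_cover_of_isFinitePresentation F hF
  obtain ⟨i, hxi⟩ := hU.exists_mem x
  obtain ⟨P, hPfin⟩ := hP i
  obtain ⟨n, m, π, κ, hπ, hκ⟩ := exists_epi_freeMod_of_presentation P
  refine ⟨(U i).ι ''ᵁ ⊤, ⟨⟨x, hxi⟩, Opens.mem_top _, rfl⟩, n, m, genX (U i).ι F π,
    relX (U i).ι (κ ≫ kernel.ι π), ?_, ?_, ?_⟩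
  · intro j
    exact sum_relX_smul_genX (U i).ι F π (κ ≫ kernel.ι π)
      (by rw [Category.assoc, kernel.condition, comp_zero]) j
  · rintro _ ⟨y, hy, rfl⟩
    exact span_germ_genX (U i).ι F π y
  · rintro _ ⟨y, hy, rfl⟩ c hc
    exact mem_span_relX (U i).ι F π κ y c hc

end Main

end Groth.Agent.Lib.Helper45.RefHullBasic
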