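import Groth.Agent.Lib.Helper45.WeakAss
import Mathlib.Algebra.Module.LocalizedModule.Basic
import Mathlib.RingTheory.Localization.AtPrime.Basic
import Mathlib.RingTheory.Ideal.MinimalPrime.Localization

/-!
# Weakly associated primes and abstract localizations (`IsLocalization`, `IsLocalizedModule`)

Shared library of helper45.  Everything lives in `Groth.Agent.Lib.Helper45`.
-/

set_option autoImplicit false

universe u v w

namespace Groth.Agent.Lib.Helper45

open Submodule

section IsLoc

variable {A : Type u} [CommRing A] (S : Submonoid A) (B : Type v) [CommRing B] [Algebra A B]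
  [IsLocalization S B] {M : Type w} {N : Type*} [AddCommGroup M] [Module A M] [AddCommGroup N]
  [Module A N] [Module B N] [IsScalarTower A B N] (f : M →ₗ[A] N) [IsLocalizedModule S f]

include S in
/-- The annihilator over the localized ring of the image of `m` is the extension of the
annihilator of `m`. -/
theorem annEl_of_isLocalizedModule (m : M) :
    annEl B (f m) = (annEl A m).map (algebraMap A B) := by
  ext b
  obtain ⟨a, t, rfl⟩ := IsLocalization.exists_mk'_eq S b
  have hunit : IsUnit (algebraMap A B t) := IsLocalization.map_units B t
  have h1 : IsLocalization.mk' B a t • f m = 0 ↔ algebraMap A B a • f m = 0 := by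
    have : algebraMap A B a = algebraMap A B t * IsLocalization.mk' B a t := by
      rw [mul_comm, IsLocalization.mk'_spec]
    rw [this, mul_smul]
    exact (hunit.smul_eq_zero).symm
  rw [mem_annEl, h1, algebraMap_smul, ← map_smul, IsLocalizedModule.eq_zero_iff S f,
    IsLocalization.mk'_mem_map_algebraMap_iff S]
  constructor
  · rintro ⟨c, hc⟩
    refine ⟨c, c.2, ?_⟩
    rw [mem_annEl, mul_smul]
    exact hc
  · rintro ⟨c, hcS, hc⟩
    refine ⟨⟨c, hcS⟩, ?_⟩
    rw [mem_annEl, mul_smul] at hc
    exact hc

include S f in
/-- Every annihilator of an element of the localized module is the extension of an annihilator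
of an element of the original module. -/
theorem exists_annEl_eq_map (n : N) :
    ∃ m : M, annEl B n = (annEl A m).map (algebraMap A B) := by
  obtain ⟨⟨m, s⟩, hs⟩ := IsLocalizedModule.surj S f n
  refine ⟨m, ?_⟩
  rw [← annEl_of_isLocalizedModule S B f m, ← hs]
  have hunit : IsUnit (algebraMap A B s) := IsLocalization.map_units B s
  ext b
  rw [mem_annEl, mem_annEl, Submonoid.smul_def, ← algebraMap_smul B (s : A) n, smul_comm]
  exact (hunit.smul_eq_zero).symm

end IsLoc

section AtPrime

variable {A : Type u} [CommRing A] (p : Ideal A) [p.IsPrime] (B : Type v) [CommRing B] [Algebra A B]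
  [IsLocalization.AtPrime B p] [IsLocalRing B] {M : Type w} {N : Type*} [AddCommGroup M]
  [Module A M] [AddCommGroup N] [Module A N] [Module B N] [IsScalarTower A B N] (f : M →ₗ[A] N)
  [IsLocalizedModule p.primeCompl f]

include f in
/-- `p` is weakly associated to `M` iff some element of the localization `M_p` has an annihilator
whose radical is the maximal ideal of `A_p` (abstract localizations). -/
theorem mem_weakAss_iff_exists_radical_annEl_eq_maximalIdeal :
    p ∈ FlatCA.weakAss A M ↔ ∃ n : N, (annEl B n).radical = IsLocalRing.maximalIdeal B := by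
  have hmax : IsLocalRing.maximalIdeal B = p.map (algebraMap A B) :=
    (IsLocalization.AtPrime.map_eq_maximalIdeal p B).symm
  constructor
  · rintro ⟨m, hm⟩
    refine ⟨f m, ?_⟩
    rw [annEl_of_isLocalizedModule p.primeCompl B f m,
      IsLocalization.AtPrime.radical_map_of_mem_minimalPrimes B p _ hm, hmax]
  · rintro ⟨n, hn⟩
    obtain ⟨m, hm⟩ := exists_annEl_eq_map p.primeCompl B f n
    refine ⟨m, ?_⟩
    rw [hm] at hn
    have hmem : IsLocalRing.maximalIdeal B ∈
        ((annEl A m).map (algebraMap A B)).minimalPrimes := by
      refine ⟨⟨inferInstance, ?_⟩, ?_⟩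
      · rw [← hn]; exact Ideal.le_radical
      · intro q hq _
        rw [← hn]
        exact (Ideal.IsPrime.radical_le_iff hq.1).mpr hq.2
    rw [IsLocalization.minimalPrimes_map p.primeCompl, Set.mem_preimage,
      IsLocalization.AtPrime.under_maximalIdeal B p] at hmem
    exact hmem

end AtPrime

end Groth.Agent.Lib.Helper45
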