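import Groth.Agent.Lib.Helper45.QCohStalk
import Groth.Agent.Lib.Helper45.WeakAssIsLoc

/-!
# Weakly associated points of quasi-coherent modules versus weakly associated primes

Shared library of helper45.  Everything lives in `Groth.Agent.Lib.Helper45`.
-/

set_option autoImplicit false
universe u
open CategoryTheory CategoryTheory.Limits AlgebraicGeometry TopologicalSpace

namespace Groth.Agent.Lib.Helper45

section LocalRing

variable {B : Type*} [CommRing B] [IsLocalRing B]

/-- In a local ring, the radical of `I` is the maximal ideal iff the maximal ideal is minimal over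
`I`. -/
theorem radical_eq_maximalIdeal_iff (I : Ideal B) :
    I.radical = IsLocalRing.maximalIdeal B ↔ IsLocalRing.maximalIdeal B ∈ I.minimalPrimes := by
  constructor
  · intro hn
    refine ⟨⟨inferInstance, ?_⟩, ?_⟩
    · rw [← hn]; exact Ideal.le_radical
    · intro q hq _
      rw [← hn]
      exact (Ideal.IsPrime.radical_le_iff hq.1).mpr hq.2
  · intro hm
    apply le_antisymm
    · exact (Ideal.IsPrime.radical_le_iff inferInstance).mpr hm.1.2
    · rw [Ideal.radical_eq_sInf]
      refine le_sInf ?_
      rintro q ⟨hIq, hq⟩
      exact hm.2 ⟨hq, hIq⟩ (IsLocalRing.le_maximalIdeal hq.ne_top)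

end LocalRing

variable {X : Scheme.{u}}

theorem ker_toSpanSingleton_eq_annEl {R M : Type*} [CommRing R] [AddCommGroup M] [Module R M]
    (m : M) : LinearMap.ker (LinearMap.toSpanSingleton R M m) = annEl R m := by
  ext r
  rw [LinearMap.mem_ker, LinearMap.toSpanSingleton_apply, mem_annEl]

theorem isWeakAssPoint_iff_exists_radical_annEl (F : X.Modules) (x : X) :
    Curv2.IsWeakAssPoint F x ↔ ∃ m : F.presheaf.stalk x,
      (annEl (X.presheaf.stalk x) m).radical = IsLocalRing.maximalIdeal (X.presheaf.stalk x) := by
  unfold Curv2.IsWeakAssPoint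
  simp only [ker_toSpanSingleton_eq_annEl]

/-- `x` is a weakly associated point of `F` iff the maximal ideal of `O_{X,x}` is weakly
associated to the stalk `F_x`.  (No quasi-coherence needed.) -/
theorem isWeakAssPoint_iff_mem_weakAss_stalk (F : X.Modules) (x : X) :
    Curv2.IsWeakAssPoint F x ↔ IsLocalRing.maximalIdeal (X.presheaf.stalk x) ∈
      FlatCA.weakAss (X.presheaf.stalk x) (F.presheaf.stalk x) := by
  rw [isWeakAssPoint_iff_exists_radical_annEl]
  simp only [radical_eq_maximalIdeal_iff]
  rfl

attribute [local instance] stalkModuleSections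

/-- For a quasi-coherent module `F`, an affine open `U` and a point `x ∈ U`: `x` is weakly
associated to `F` iff the prime of `x` in `Γ(X, U)` is weakly associated to `Γ(F, U)`. -/
theorem isWeakAssPoint_iff_of_isAffineOpen {U : X.Opens} (hU : IsAffineOpen U) (F : X.Modules)
    [F.IsQuasicoherent] (x : U) :
    Curv2.IsWeakAssPoint F (x : X) ↔
      (hU.primeIdealOf x).asIdeal ∈ FlatCA.weakAss Γ(X, U) Γ(F, U) := by
  have := hU.isLocalization_stalk x
  have := isLocalizedModule_germₗ hU F x
  rw [isWeakAssPoint_iff_exists_radical_annEl]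
  exact (mem_weakAss_iff_exists_radical_annEl_eq_maximalIdeal (hU.primeIdealOf x).asIdeal
    (X.presheaf.stalk (x : X)) (germₗ F x)).symm

end Groth.Agent.Lib.Helper45
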