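import Groth.Agent.Lib.Helper45.WeakAssPoint
import Groth.Agent.Lib.Helper45.ModulesBasic
import Mathlib.RingTheory.Ideal.AssociatedPrime.Basic

/-!
# Associated points (Mathlib's `IsAssociatedPrime`, with a radical) are weakly associated points

Shared library of helper45.  Everything lives in `Groth.Agent.Lib.Helper45`.
-/

set_option autoImplicit false
universe u
open CategoryTheory CategoryTheory.Limits AlgebraicGeometry TopologicalSpace

namespace Groth.Agent.Lib.Helper45

variable {X : Scheme.{u}}

theorem isAssociatedPrime_maximalIdeal_iff {B : Type*} [CommRing B] [IsLocalRing B] {N : Type*}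
    [AddCommGroup N] [Module B N] :
    IsAssociatedPrime (IsLocalRing.maximalIdeal B) N ↔
      ∃ n : N, (annEl B n).radical = IsLocalRing.maximalIdeal B := by
  constructor
  · rintro ⟨_, n, hn⟩
    refine ⟨n, ?_⟩
    rw [hn]
    congr 1
    ext r
    rw [Submodule.mem_colon_singleton, Submodule.mem_bot, mem_annEl]
  · rintro ⟨n, hn⟩
    refine ⟨inferInstance, n, ?_⟩
    rw [← hn]
    congr 1
    ext r
    rw [Submodule.mem_colon_singleton, Submodule.mem_bot, mem_annEl]

/-- With Mathlib's definition of associated primes (radical of an annihilator), the associated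
points of an `O_X`-module are its weakly associated points. -/
theorem isAssPoint_iff_isWeakAssPoint (F : X.Modules) (x : X) :
    Curv2.IsAssPoint F x ↔ Curv2.IsWeakAssPoint F x := by
  rw [isWeakAssPoint_iff_exists_radical_annEl]
  exact isAssociatedPrime_maximalIdeal_iff

/-- If the open `U` contains all weakly associated points of the quasi-coherent module `F`, then
a section over `V` vanishing on `U ⊓ V` is zero. -/
theorem eq_zero_of_restrict_eq_zero (F : X.Modules) [F.IsQuasicoherent] (U : X.Opens)
    (hU : ∀ x : X, Curv2.IsWeakAssPoint F x → x ∈ U) (s : Γ(F, ⊤))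
    (hs : F.presheaf.map (homOfLE (le_top : U ≤ ⊤)).op s = 0) : s = 0 := by
  apply section_ext_germ
  intro x _
  rw [map_zero]
  obtain ⟨_, ⟨V, hV : IsAffineOpen V, rfl⟩, hxV, -⟩ :=
    X.isBasis_affineOpens.exists_subset_of_mem_open (Set.mem_univ x) isOpen_univ
  have hm : F.presheaf.map (homOfLE (le_top : V ≤ ⊤)).op s = 0 := by
    by_contra hne
    obtain ⟨p, hp, hle⟩ := exists_mem_weakAss_of_ne_zero (R := Γ(X, V)) hne
    have hpP : p.IsPrime := isPrime_of_mem_weakAss hp
    obtain ⟨y, hy⟩ := exists_primeIdealOf_eq hV ⟨p, hpP⟩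
    have hyp : (hV.primeIdealOf y).asIdeal = p := congrArg PrimeSpectrum.asIdeal hy
    have hw : Curv2.IsWeakAssPoint F (y : X) := by
      rw [isWeakAssPoint_iff_of_isAffineOpen hV F y, hyp]
      exact hp
    have hyU : (y : X) ∈ U := hU _ hw
    have hgerm : F.presheaf.germ V y y.2 (F.presheaf.map (homOfLE (le_top : V ≤ ⊤)).op s) = 0 := by
      rw [TopCat.Presheaf.germ_res_apply,
        ← TopCat.Presheaf.germ_res_apply F.presheaf (homOfLE (le_top : U ≤ ⊤)) (y : X) hyU s, hs,
        map_zero]
    let _ := stalkModuleSections F y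
    have hloc := isLocalizedModule_germₗ hV F y
    have h0 : germₗ F y (F.presheaf.map (homOfLE (le_top : V ≤ ⊤)).op s) = 0 := hgerm
    obtain ⟨t, ht⟩ := (IsLocalizedModule.eq_zero_iff (hV.primeIdealOf y).asIdeal.primeCompl
      (germₗ F y)).mp h0
    have htp : (t : Γ(X, V)) ∈ p := hle (mem_annEl.mpr ht)
    exact t.2 (hyp ▸ htp)
  rw [← TopCat.Presheaf.germ_res_apply F.presheaf (homOfLE (le_top : V ≤ ⊤)) x hxV s, hm, map_zero]

end Groth.Agent.Lib.Helper45
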