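import Mathlib

/-!
# Coprimary quotients of finite modules over Noetherian rings

Shared library of helper45 (namespace `Groth.Agent.Lib.Helper45.CoprimaryQuot`).
From Mathlib's Lasker–Noether theory: for an associated prime `p` of a Noetherian module `P` there
is a submodule `K` with `Ass (P ⧸ K) = {p}` and `p ∉ Ass K`.
-/

set_option autoImplicit false
set_option linter.style.haveILetI false
universe u v

namespace Groth.Agent.Lib.Helper45.CoprimaryQuot

open Submodule

variable {R : Type u} [CommRing R] {P : Type v} [AddCommGroup P] [Module R P]

theorem colon_bot_mk_eq (K : Submodule R P) (x : P) :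
    (⊥ : Submodule R (P ⧸ K)).colon {Submodule.Quotient.mk x} = K.colon {x} := by
  ext r
  rw [Submodule.mem_colon_singleton, Submodule.mem_colon_singleton, Submodule.mem_bot,
    ← Submodule.Quotient.mk_smul, Submodule.Quotient.mk_eq_zero]

/-- The associated primes of the quotient `P ⧸ K` are the associated primes of the submodule `K`. -/
theorem associatedPrimes_quotient_eq (K : Submodule R P) :
    associatedPrimes R (P ⧸ K) = K.associatedPrimes := by
  ext I
  constructor
  · rintro ⟨hI, y, hy⟩
    obtain ⟨x, rfl⟩ := Submodule.Quotient.mk_surjective K y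
    exact ⟨hI, x, by rw [hy, colon_bot_mk_eq]⟩
  · rintro ⟨hI, x, hx⟩
    exact ⟨hI, Submodule.Quotient.mk x, by rw [hx, colon_bot_mk_eq]⟩

/-- A primary submodule has exactly one associated prime. -/
theorem associatedPrimes_of_isPrimary {K : Submodule R P} (hK : K.IsPrimary) :
    K.associatedPrimes = {(K.colon Set.univ).radical} := by
  classical
  have hdec : K.IsMinimalPrimaryDecomposition {K} :=
    { inf_eq := by simp
      primary := by
        intro J hJ
        rw [Finset.mem_singleton] at hJ
        exact hJ ▸ hK
      distinct := by
        rw [Finset.coe_singleton]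
        exact Set.pairwise_singleton _ _
      minimal := by
        intro J hJ
        rw [Finset.mem_singleton] at hJ
        subst hJ
        rw [Finset.erase_singleton, Finset.inf_empty, top_le_iff]
        exact hK.ne_top }
  rw [← hdec.image_radical_eq_associated_primes]
  simp

/-- **Coprimary quotients.** -/
theorem exists_coprimary_quotient [IsNoetherianRing R] [Module.Finite R P] (p : Ideal R)
    (hp : p ∈ associatedPrimes R P) :
    ∃ K : Submodule R P, associatedPrimes R (P ⧸ K) = {p} ∧
      p ∉ associatedPrimes R K := by
  classical
  obtain ⟨t, ht⟩ := (Submodule.isLasker R P).exists_isMinimalPrimaryDecomposition ⊥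
  have himg := ht.image_radical_eq_associated_primes
  have hp' : p ∈ (⊥ : Submodule R P).associatedPrimes := hp
  rw [← himg] at hp'
  obtain ⟨K, hKt, hKp⟩ := hp'
  replace hKp : (K.colon Set.univ).radical = p := hKp
  have hKt' : K ∈ t := hKt
  refine ⟨K, ?_, ?_⟩
  · rw [associatedPrimes_quotient_eq, associatedPrimes_of_isPrimary (ht.primary hKt'), hKp]
  · -- the other components
    set t' := t.erase K with ht'
    set N' := t'.inf id with hN'
    have hins : insert K t' = t := Finset.insert_erase hKt'
    have hKN : K ⊓ N' = ⊥ := by
      rw [← ht.inf_eq, ← hins, Finset.inf_insert, id]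
    have hdec' : N'.IsMinimalPrimaryDecomposition t' :=
      { inf_eq := rfl
        primary := fun J hJ => ht.primary (Finset.mem_of_mem_erase hJ)
        distinct := ht.distinct.mono (by
          intro J hJ
          exact Finset.mem_of_mem_erase hJ)
        minimal := by
          intro J hJ hle
          have hJt : J ∈ t := Finset.mem_of_mem_erase hJ
          have hJK : J ≠ K := Finset.ne_of_mem_erase hJ
          apply ht.minimal hJt
          have he : t.erase J = insert K (t'.erase J) := by
            ext L
            simp only [Finset.mem_erase, Finset.mem_insert, ht']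
            constructor
            · rintro ⟨h1, h2⟩
              by_cases hLK : L = K
              · exact Or.inl hLK
              · exact Or.inr ⟨h1, hLK, h2⟩
            · rintro (rfl | ⟨h1, h2, h3⟩)
              · exact ⟨fun h => hJK h.symm, hKt'⟩
              · exact ⟨h1, h3⟩
          rw [he, Finset.inf_insert]
          exact inf_le_right.trans hle }
    have himg' := hdec'.image_radical_eq_associated_primes
    -- `K` embeds in `P ⧸ N'`
    let g : K →ₗ[R] P ⧸ N' := N'.mkQ.comp K.subtype
    have hg : Function.Injective g := by
      rw [← LinearMap.ker_eq_bot, LinearMap.ker_eq_bot']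
      intro k hk
      have h1 : (k : P) ∈ N' := by
        have : N'.mkQ (k : P) = 0 := hk
        rwa [Submodule.mkQ_apply, Submodule.Quotient.mk_eq_zero] at this
      have h2 : (k : P) ∈ K ⊓ N' := ⟨k.2, h1⟩
      rw [hKN, Submodule.mem_bot] at h2
      exact Subtype.ext h2
    intro hpK
    have h3 : p ∈ associatedPrimes R (P ⧸ N') := associatedPrimes.subset_of_injective hg hpK
    rw [associatedPrimes_quotient_eq, ← himg'] at h3
    obtain ⟨J, hJ, hJp⟩ := h3
    have hJ' : J ∈ t' := hJ
    have hJt : J ∈ t := Finset.mem_of_mem_erase hJ'
    have hJK : J ≠ K := Finset.ne_of_mem_erase hJ'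
    exact hJK (IsMinimalPrimaryDecomposition.injOn ⊥ t ht hJt hKt' (hJp.trans hKp.symm))

end Groth.Agent.Lib.Helper45.CoprimaryQuot
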