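import Groth.Agent.Lib.Helper45.WeakAss
import Mathlib.RingTheory.Ideal.AssociatedPrime.Finiteness
import Mathlib.RingTheory.Ideal.MinimalPrime.Colon

/-!
# Weakly associated primes over a Noetherian ring

Shared library of helper45.  Everything lives in `Groth.Agent.Lib.Helper45`.
-/

set_option autoImplicit false

universe u v

namespace Groth.Agent.Lib.Helper45

variable {R : Type u} [CommRing R] {M : Type v} [AddCommGroup M] [Module R M]

theorem colon_bot_singleton_eq_annEl (m : M) :
    Submodule.colon (⊥ : Submodule R M) {m} = annEl R m := by
  ext r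
  rw [Submodule.mem_colon_singleton, Submodule.mem_bot, mem_annEl]

/-- Over a Noetherian ring weakly associated primes are associated primes. -/
theorem weakAss_subset_associatedPrimes [IsNoetherianRing R] :
    FlatCA.weakAss R M ⊆ associatedPrimes R M := by
  rintro p ⟨m, hm⟩
  replace hm : p ∈ (annEl R m).minimalPrimes := hm
  rw [← colon_bot_singleton_eq_annEl] at hm
  obtain ⟨y, hy⟩ := Submodule.exists_eq_colon_of_mem_minimalPrimes hm
  exact (isAssociatedPrime_iff).mpr ⟨hm.1.1, y, hy⟩

theorem weakAss_finite [IsNoetherianRing R] [Module.Finite R M] :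
    (FlatCA.weakAss R M).Finite :=
  (associatedPrimes.finite R M).subset weakAss_subset_associatedPrimes

end Groth.Agent.Lib.Helper45
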