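import Groth.Prelude.Def_FlatCA
import Mathlib.RingTheory.Ideal.MinimalPrime.Localization
import Mathlib.RingTheory.Ideal.Maps

/-!
# Weakly associated primes (`FlatCA.weakAss`): basic API

Shared library of helper45.  Everything lives in `Groth.Agent.Lib.Helper45`.
-/

set_option autoImplicit false

universe u v

namespace Groth.Agent.Lib.Helper45

open Submodule

section Basic

variable {R : Type u} [CommRing R] {M : Type v} [AddCommGroup M] [Module R M]

/-- The annihilator of an element. -/
abbrev annEl (R : Type u) [CommRing R] {M : Type v} [AddCommGroup M] [Module R M] (m : M) : Ideal R :=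
  (Submodule.span R {m}).annihilator

theorem mem_annEl {m : M} {r : R} : r ∈ annEl R m ↔ r • m = 0 :=
  Submodule.mem_annihilator_span_singleton m r

theorem annEl_eq_top_iff {m : M} : annEl R m = ⊤ ↔ m = 0 := by
  rw [Ideal.eq_top_iff_one, mem_annEl, one_smul]

theorem mem_weakAss_iff {p : Ideal R} :
    p ∈ FlatCA.weakAss R M ↔ ∃ m : M, p ∈ (annEl R m).minimalPrimes := Iff.rfl

theorem isPrime_of_mem_weakAss {p : Ideal R} (hp : p ∈ FlatCA.weakAss R M) : p.IsPrime := by
  obtain ⟨m, hm⟩ := hp
  exact hm.1.1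

/-- If `p` is minimal over `I` and `I ≤ J ≤ p` then `p` is minimal over `J`. -/
theorem mem_minimalPrimes_of_le_of_le {I J p : Ideal R} (hp : p ∈ I.minimalPrimes) (hIJ : I ≤ J)
    (hJp : J ≤ p) : p ∈ J.minimalPrimes :=
  ⟨⟨hp.1.1, hJp⟩, fun _ hq hqp => hp.2 ⟨hq.1, hIJ.trans hq.2⟩ hqp⟩

/-- If `p` is minimal over `ann m` and `r ∉ p` then `p` is minimal over `ann (r • m)`. -/
theorem mem_minimalPrimes_annEl_smul {p : Ideal R} {m : M} (hp : p ∈ (annEl R m).minimalPrimes)
    {r : R} (hr : r ∉ p) : p ∈ (annEl R (r • m)).minimalPrimes := by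
  have : p.IsPrime := hp.1.1
  refine mem_minimalPrimes_of_le_of_le hp ?_ ?_
  · intro s hs
    rw [mem_annEl] at hs ⊢
    rw [smul_comm, hs, smul_zero]
  · intro s hs
    rw [mem_annEl, smul_smul] at hs
    have : s * r ∈ p := hp.1.2 (mem_annEl.mpr hs)
    exact (Ideal.IsPrime.mem_or_mem ‹_› this).resolve_right hr

/-- Weakly associated primes of a submodule (or of the source of an injective map) are weakly
associated to the ambient module. -/
theorem weakAss_subset_of_injective {M' : Type*} [AddCommGroup M'] [Module R M'] (f : M' →ₗ[R] M)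
    (hf : Function.Injective f) : FlatCA.weakAss R M' ⊆ FlatCA.weakAss R M := by
  rintro p ⟨m, hm⟩
  refine ⟨f m, ?_⟩
  have : annEl R (f m) = annEl R m := by
    ext r
    rw [mem_annEl, mem_annEl, ← map_smul, map_eq_zero_iff f hf]
  show p ∈ (annEl R (f m)).minimalPrimes
  rw [this]
  exact hm

/-- Weakly associated primes in a short exact sequence. -/
theorem weakAss_subset_union_of_exact {M' M'' : Type*} [AddCommGroup M'] [Module R M']
    [AddCommGroup M''] [Module R M''] (f : M' →ₗ[R] M) (g : M →ₗ[R] M'')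
    (hf : Function.Injective f) (hfg : Function.Exact f g) :
    FlatCA.weakAss R M ⊆ FlatCA.weakAss R M' ∪ FlatCA.weakAss R M'' := by
  rintro p ⟨m, hm⟩
  have hpP : p.IsPrime := hm.1.1
  by_cases h : annEl R (g m) ≤ p
  · right
    refine ⟨g m, mem_minimalPrimes_of_le_of_le hm ?_ h⟩
    intro r hr
    rw [mem_annEl] at hr ⊢
    rw [← map_smul, hr, map_zero]
  · left
    obtain ⟨r, hr, hrp⟩ := SetLike.not_le_iff_exists.mp h
    rw [mem_annEl, ← map_smul] at hr
    obtain ⟨m', hm'⟩ := (hfg (r • m)).mp hr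
    refine ⟨m', ?_⟩
    have h1 := mem_minimalPrimes_annEl_smul hm hrp
    refine mem_minimalPrimes_of_le_of_le h1 ?_ ?_
    · intro s hs
      rw [mem_annEl] at hs ⊢
      apply hf
      rw [map_smul, hm', hs, map_zero]
    · intro s hs
      rw [mem_annEl] at hs
      refine h1.1.2 ?_
      rw [mem_annEl, ← hm', ← map_smul, hs, map_zero]

/-- A nonzero element has a weakly associated prime containing its annihilator. -/
theorem exists_mem_weakAss_of_ne_zero {m : M} (hm : m ≠ 0) :
    ∃ p ∈ FlatCA.weakAss R M, annEl R m ≤ p := by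
  have : annEl R m ≠ ⊤ := fun h => hm (annEl_eq_top_iff.mp h)
  obtain ⟨⟨p, hp⟩⟩ := Ideal.nonempty_minimalPrimes this
  exact ⟨p, ⟨m, hp⟩, hp.1.2⟩

theorem weakAss_eq_empty_iff : FlatCA.weakAss R M = ∅ ↔ Subsingleton M := by
  constructor
  · intro h
    refine ⟨fun a b => ?_⟩
    by_contra hab
    obtain ⟨p, hp, -⟩ := exists_mem_weakAss_of_ne_zero (R := R) (sub_ne_zero.mpr hab)
    rw [h] at hp
    exact hp
  · intro h
    ext p
    simp only [Set.mem_empty_iff_false, iff_false]
    rintro ⟨m, hm⟩
    have : annEl R m = ⊤ := annEl_eq_top_iff.mpr (Subsingleton.elim _ _)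
    have hm' : p ∈ (annEl R m).minimalPrimes := hm
    rw [this, Ideal.minimalPrimes_top] at hm'
    exact hm'

/-- The union of the weakly associated primes is the set of zero divisors on the module. -/
theorem biUnion_weakAss :
    ⋃ q ∈ FlatCA.weakAss R M, (q : Set R) = {f : R | ¬ IsSMulRegular M f} := by
  ext f
  simp only [Set.mem_iUnion, SetLike.mem_coe, exists_prop, Set.mem_ofPred_eq]
  constructor
  · rintro ⟨q, ⟨m, hm⟩, hfq⟩ hreg
    obtain ⟨y, hy, hfy⟩ := Ideal.exists_mul_mem_of_mem_minimalPrimes hm hfq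
    rw [mem_annEl] at hy hfy
    rw [mul_smul] at hfy
    exact hy (hreg (by simpa using hfy))
  · intro hreg
    rw [IsSMulRegular, Function.Injective] at hreg
    push Not at hreg
    obtain ⟨a, b, hab, hne⟩ := hreg
    have hm : a - b ≠ 0 := sub_ne_zero.mpr hne
    obtain ⟨p, hp, hle⟩ := exists_mem_weakAss_of_ne_zero (R := R) hm
    refine ⟨p, hp, hle ?_⟩
    rw [mem_annEl, smul_sub, sub_eq_zero]
    exact hab

/-- An element which vanishes in the localization at every weakly associated prime is zero. -/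
theorem eq_zero_of_forall_weakAss (x : M)
    (hx : ∀ (p : Ideal R) [p.IsPrime], p ∈ FlatCA.weakAss R M →
      LocalizedModule.mkLinearMap p.primeCompl M x = 0) : x = 0 := by
  by_contra hne
  obtain ⟨p, hp, hle⟩ := exists_mem_weakAss_of_ne_zero (R := R) hne
  have : p.IsPrime := isPrime_of_mem_weakAss hp
  have h0 := hx p hp
  rw [LocalizedModule.mkLinearMap_apply, ← LocalizedModule.zero_mk 1, LocalizedModule.mk_eq] at h0
  obtain ⟨s, hs⟩ := h0
  simp only [one_smul, smul_zero] at hs
  exact s.2 (hle (mem_annEl.mpr hs))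

end Basic

end Groth.Agent.Lib.Helper45
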