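import Groth.Agent.Lib.Helper45.QCohCompact
import Groth.Agent.Lib.Helper45.LocalizingOn
import Groth.Agent.Lib.Helper45.AffinePoints

/-!
# Weakly associated points of a pushforward along a quasi-compact morphism come from upstairs

Shared library of helper45.  Everything lives in `Groth.Agent.Lib.Helper45`.
(Strengthening of the argument of `Groth.Agent.S1580`.)
-/

set_option autoImplicit false
universe u
open CategoryTheory CategoryTheory.Limits AlgebraicGeometry

namespace Groth.Agent.Lib.Helper45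

attribute [local instance] stalkModuleSections

/-- If `p` is a prime minimal over a finite intersection of ideals, it is minimal over one of
them. -/
theorem exists_mem_minimalPrimes_of_finset_inf' {R : Type*} [CommRing R] {ι : Type*}
    (s : Finset ι) (I : ι → Ideal R) {p : Ideal R} (hp : p ∈ (s.inf I).minimalPrimes) :
    ∃ i ∈ s, p ∈ (I i).minimalPrimes := by
  have hP : p.IsPrime := hp.1.1
  obtain ⟨i, hi, hle⟩ := (Ideal.IsPrime.inf_le' hP).mp hp.1.2
  exact ⟨i, hi, mem_minimalPrimes_of_le_of_le hp (Finset.inf_le hi) hle⟩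

/-- Key step: on an affine open `V` of the base, a prime of `Γ(S, V)` minimal over the annihilator
of a section of `f_* F` over `V` is the prime of a point in the image of `f`
(`f` quasi-compact). -/
theorem exists_isWeakAssPoint_of_mem_minimalPrimes {X S : Scheme.{u}} (f : X ⟶ S) [QuasiCompact f]
    (F : X.Modules) [F.IsQuasicoherent] {V : S.Opens} (hV : IsAffineOpen V) (s : V)
    (σ : Γ((Scheme.Modules.pushforward f).obj F, V))
    (hmin : (hV.primeIdealOf s).asIdeal ∈ (annEl Γ(S, V) σ).minimalPrimes) :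
    ∃ x : X, f x = s ∧ Curv2.IsWeakAssPoint F x := by
  classical
  have hW : IsCompact ((f ⁻¹ᵁ V : X.Opens) : Set X) :=
    QuasiCompact.isCompact_preimage (f := f) _ V.2 hV.isCompact
  let ι := {U : X.affineOpens // (U : X.Opens) ≤ f ⁻¹ᵁ V}
  obtain ⟨t, ht⟩ := hW.elim_finite_subcover
    (fun U : ι => ((U.1 : X.Opens) : Set X)) (fun U => (U.1 : X.Opens).2)
    (by
      intro x hx
      obtain ⟨_, ⟨U, hU : IsAffineOpen U, rfl⟩, hxU, hUW⟩ :=
        X.isBasis_affineOpens.exists_subset_of_mem_open hx (f ⁻¹ᵁ V).2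
      exact Set.mem_iUnion.mpr ⟨⟨⟨U, hU⟩, hUW⟩, hxU⟩)
  let σ' : Γ(F, f ⁻¹ᵁ V) := σ
  let J : ι → Ideal Γ(S, V) := fun U =>
    (annEl Γ(X, (U.1 : X.Opens)) (F.presheaf.map (homOfLE U.2).op σ')).comap
      (f.appLE V U.1 U.2).hom
  have hsmul : ∀ a : Γ(S, V), a • σ = ((f.app V a) • σ' : Γ(F, f ⁻¹ᵁ V)) := fun a => rfl
  have hann : annEl Γ(S, V) σ = t.inf J := by
    ext a
    rw [Submodule.mem_finsetInf]
    constructor
    · intro ha U _
      rw [mem_annEl, hsmul] at ha
      show (f.appLE V U.1 U.2).hom a ∈ annEl _ _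
      rw [mem_annEl]
      have h1 : F.presheaf.map (homOfLE U.2).op ((f.app V a) • σ') = 0 := by
        rw [ha]; exact map_zero _
      rw [Scheme.Modules.map_smul] at h1
      rw [Scheme.Hom.appLE]
      exact h1
    · intro ha
      rw [mem_annEl, hsmul]
      apply section_ext_germ
      intro x hx
      obtain ⟨U, hUt, hxU⟩ := Set.mem_iUnion₂.mp (ht hx)
      have h1 : (f.appLE V U.1 U.2).hom a ∈ annEl _ (F.presheaf.map (homOfLE U.2).op σ') :=
        ha U hUt
      rw [mem_annEl, Scheme.Hom.appLE] at h1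
      have h2 : X.presheaf.map (homOfLE U.2).op (f.app V a) •
          F.presheaf.map (homOfLE U.2).op σ' = 0 := h1
      have h3 : F.presheaf.map (homOfLE U.2).op ((f.app V a) • σ') = 0 := by
        rw [Scheme.Modules.map_smul]; exact h2
      rw [← TopCat.Presheaf.germ_res_apply F.presheaf (homOfLE U.2) x hxU, h3]
      rw [map_zero]
      exact (map_zero _).symm
  rw [hann] at hmin
  obtain ⟨U, _, hU⟩ := exists_mem_minimalPrimes_of_finset_inf' t J hmin
  obtain ⟨q, hq, hqp⟩ := Ideal.exists_minimalPrimes_comap_eq (f.appLE V U.1 U.2).hom _ hU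
  have hqP : q.IsPrime := hq.1.1
  have hUaff : IsAffineOpen (U.1 : X.Opens) := U.1.2
  obtain ⟨x, hx⟩ := exists_primeIdealOf_eq hUaff ⟨q, hqP⟩
  have hxq : (hUaff.primeIdealOf x).asIdeal = q := congrArg PrimeSpectrum.asIdeal hx
  have h1 := IsAffineOpen.comap_primeIdealOf_appLE (f := f) V hV U.1 hUaff U.2 x.2
  have hfx : f (x : X) ∈ V := U.2 x.2
  have h2 : (hV.primeIdealOf ⟨f (x : X), hfx⟩).asIdeal = (hV.primeIdealOf s).asIdeal := by
    rw [← hqp, ← hxq, ← h1]
    rfl
  have h3 := primeIdealOf_injective hV (PrimeSpectrum.ext h2)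
  refine ⟨x, congrArg Subtype.val h3, ?_⟩
  rw [isWeakAssPoint_iff_of_isAffineOpen hUaff F x, hxq]
  exact ⟨_, hq⟩

/-- Let `f : X ⟶ S` be quasi-compact and `F` quasi-coherent on `X`.  Every weakly associated point
of `f_* F` is the image of a weakly associated point of `F`. -/
theorem exists_isWeakAssPoint_map_eq {X S : Scheme.{u}} (f : X ⟶ S) [QuasiCompact f]
    (F : X.Modules) [F.IsQuasicoherent] (s : S)
    (hw : Curv2.IsWeakAssPoint ((Scheme.Modules.pushforward f).obj F) s) :
    ∃ x : X, f x = s ∧ Curv2.IsWeakAssPoint F x := by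
  rw [isWeakAssPoint_iff_exists_radical_annEl] at hw
  obtain ⟨c, hc⟩ := hw
  obtain ⟨V', hsV', σ', hσ'⟩ :=
    TopCat.Presheaf.exists_germ_eq ((Scheme.Modules.pushforward f).obj F).presheaf c
  obtain ⟨_, ⟨V, hV : IsAffineOpen V, rfl⟩, hsV, hVV'⟩ :=
    S.isBasis_affineOpens.exists_subset_of_mem_open hsV' V'.2
  have hVV : V ≤ V' := hVV'
  obtain ⟨y, rfl⟩ : ∃ y : V, (y : S) = s := ⟨⟨s, hsV⟩, rfl⟩
  let σ : Γ(((Scheme.Modules.pushforward f).obj F), V) := ((Scheme.Modules.pushforward f).obj F).presheaf.map (homOfLE hVV).op σ'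
  have hσ : ((Scheme.Modules.pushforward f).obj F).presheaf.germ V y hsV σ = c :=
    (TopCat.Presheaf.germ_res_apply ((Scheme.Modules.pushforward f).obj F).presheaf (homOfLE hVV) y hsV σ').trans hσ'
  have hc' : (annEl (S.presheaf.stalk (y : S)) (germₗ ((Scheme.Modules.pushforward f).obj F) y σ)).radical =
      IsLocalRing.maximalIdeal (S.presheaf.stalk (y : S)) := by
    rw [germₗ_apply, hσ]; exact hc
  have hloc := hV.isLocalization_stalk y
  -- elements of the kernel of the germ map are killed by functions not vanishing at `s`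
  have hker : ∀ n : Γ(((Scheme.Modules.pushforward f).obj F), V), germₗ ((Scheme.Modules.pushforward f).obj F) y n = 0 →
      ∃ b : (hV.primeIdealOf y).asIdeal.primeCompl, b • n = 0 := by
    intro n hn
    rw [germₗ_apply] at hn
    have h0 : ((Scheme.Modules.pushforward f).obj F).presheaf.germ V y hsV n = ((Scheme.Modules.pushforward f).obj F).presheaf.germ V y hsV 0 := by
      rw [hn]; exact (map_zero _).symm
    obtain ⟨W, hsW, i₁, i₂, hW⟩ := TopCat.Presheaf.germ_eq ((Scheme.Modules.pushforward f).obj F).presheaf (y : S) hsV hsV n 0 h0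
    obtain ⟨b, hbW, hsb⟩ := hV.exists_basicOpen_le ⟨(y : S), hsW⟩ hsV
    have hb : b ∉ (hV.primeIdealOf y).asIdeal :=
      (mem_basicOpen_iff_not_mem_primeIdealOf hV y b).mp hsb
    have hres : ((Scheme.Modules.pushforward f).obj F).presheaf.map (homOfLE (S.basicOpen_le b)).op n = 0 := by
      have h2 := congrArg (((Scheme.Modules.pushforward f).obj F).presheaf.map (homOfLE hbW).op) hW
      rw [← ConcreteCategory.comp_apply, ← ConcreteCategory.comp_apply, ← Functor.map_comp,
        ← Functor.map_comp] at h2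
      exact h2.trans (map_zero _)
    -- translate to `X`
    have hpre : f ⁻¹ᵁ S.basicOpen b = X.basicOpen (f.app V b) := Scheme.preimage_basicOpen f b
    have hle1 : f ⁻¹ᵁ S.basicOpen b ≤ f ⁻¹ᵁ V := fun _ hx => S.basicOpen_le b hx
    have hle2 : X.basicOpen (f.app V b) ≤ f ⁻¹ᵁ S.basicOpen b := hpre.ge
    let n' : Γ(F, f ⁻¹ᵁ V) := n
    have hres1 : F.presheaf.map (homOfLE hle1).op n' = 0 := hres
    have hres' : F.presheaf.map (homOfLE (X.basicOpen_le (f.app V b))).op n' = 0 := by
      have h3 := congrArg (F.presheaf.map (homOfLE hle2).op) hres1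
      rw [← ConcreteCategory.comp_apply, ← Functor.map_comp] at h3
      exact h3.trans (map_zero _)
    have hW : IsCompact ((f ⁻¹ᵁ V : X.Opens) : Set X) :=
      QuasiCompact.isCompact_preimage (f := f) _ V.2 hV.isCompact
    obtain ⟨k, hk⟩ := exists_pow_smul_eq_zero_of_isCompact F (f ⁻¹ᵁ V) hW (f.app V b) n' hres'
    refine ⟨⟨b ^ k, Submonoid.pow_mem _ hb k⟩, ?_⟩
    change b ^ k • n = 0
    have hsm : b ^ k • n = ((f.app V (b ^ k)) • n' : Γ(F, f ⁻¹ᵁ V)) := rfl
    rw [hsm, map_pow]
    exact hk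
  have hmin := mem_minimalPrimes_annEl_of_radical_eq (hV.primeIdealOf y).asIdeal
    (S.presheaf.stalk (y : S)) (germₗ ((Scheme.Modules.pushforward f).obj F) y) hker σ hc'
  exact exists_isWeakAssPoint_of_mem_minimalPrimes f F hV y σ hmin

end Groth.Agent.Lib.Helper45
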