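import Mathlib
import Groth.Agent.Lib.Helper45.CoprimaryQuot
import Groth.Agent.Lib.Helper45.WeakAssNoeth
import Groth.Agent.Lib.Helper45.AssPoint
import Groth.Agent.Lib.Helper45.ModulesExact
import Groth.Agent.Lib.Helper80.SubQCoh
import Groth.Agent.Lib.Helper49.QcqsModules
import Groth.Agent.Lib.Helper49.FiniteTypeAffine
import Groth.Agent.S1578
import Groth.Agent.S2508
import Groth.Agent.S2542
import Groth.Agent.Lib.Helper49.AffineHom

/-!
# Coprimary quotients of coherent modules on locally Noetherian schemes

Shared library of helper45 (namespace `Groth.Agent.Lib.Helper45.CoprimarySheaf`).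
-/

set_option autoImplicit false
set_option linter.style.haveILetI false
universe u
open CategoryTheory CategoryTheory.Limits AlgebraicGeometry TopologicalSpace

namespace Groth.Agent.Lib.Helper45.CoprimarySheaf

open Groth.Agent.Lib.Helper45 Groth.Agent.Lib.Helper49

section Alg

variable {R : Type*} [CommRing R] {M : Type*} [AddCommGroup M] [Module R M]

theorem associatedPrimes_subset_weakAss : associatedPrimes R M ⊆ FlatCA.weakAss R M := by
  rintro p ⟨hp, m, hm⟩
  refine ⟨m, ?_⟩
  change p ∈ (annEl R m).minimalPrimes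
  rw [← colon_bot_singleton_eq_annEl, ← Ideal.radical_minimalPrimes, ← hm,
    Ideal.minimalPrimes_eq_subsingleton_self]
  rfl

theorem weakAss_eq_associatedPrimes [IsNoetherianRing R] :
    FlatCA.weakAss R M = associatedPrimes R M :=
  Set.Subset.antisymm weakAss_subset_associatedPrimes associatedPrimes_subset_weakAss

end Alg

variable {X : Scheme.{u}}

/-- On a locally Noetherian scheme, the associated points of a quasi-coherent module in an affine
open are the associated primes of the module of sections. -/
theorem isAssPoint_iff_of_isAffineOpen [IsLocallyNoetherian X] {U : X.Opens} (hU : IsAffineOpen U)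
    (F : X.Modules) [F.IsQuasicoherent] (x : U) :
    Curv2.IsAssPoint F (x : X) ↔
      (hU.primeIdealOf x).asIdeal ∈ associatedPrimes Γ(X, U) Γ(F, U) := by
  haveI : IsNoetherianRing Γ(X, U) := IsLocallyNoetherian.component_noetherian ⟨U, hU⟩
  rw [isAssPoint_iff_isWeakAssPoint, isWeakAssPoint_iff_of_isAffineOpen hU F x,
    weakAss_eq_associatedPrimes]

section SpecLevel

variable {R : CommRingCat.{u}} (N : (Spec R).Modules)

/-- Global sections. -/
noncomputable def secMod : ModuleCat R := (moduleSpecΓFunctor (R := R)).obj N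

variable (K : Submodule R (secMod N))

/-- The quotient module. -/
noncomputable def quotMod : ModuleCat R := ModuleCat.of R (secMod N ⧸ K)

/-- The quotient map. -/
noncomputable def quotMap : secMod N ⟶ quotMod N K :=
  ModuleCat.ofHom (X := secMod N) (Y := secMod N ⧸ K) K.mkQ

theorem quotMap_apply (z : secMod N) : (quotMap N K).hom z = K.mkQ z := rfl

theorem isIso_counit [N.IsQuasicoherent] :
    IsIso ((tilde.adjunction (R := R)).counit.app N) :=
  inferInstanceAs (IsIso N.fromTildeΓ)

variable [N.IsQuasicoherent]

/-- The morphism `N ⟶ (Γ(N) ⧸ K)^~`. -/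
noncomputable def psi : N ⟶ (tilde.functor R).obj (quotMod N K) :=
  haveI := isIso_counit N
  inv ((tilde.adjunction (R := R)).counit.app N) ≫ (tilde.functor R).map (quotMap N K)

theorem map_psi : moduleSpecΓFunctor.map (psi N K) =
    quotMap N K ≫ (tilde.adjunction (R := R)).unit.app (quotMod N K) := by
  haveI := isIso_counit N
  have h1 := (tilde.adjunction (R := R)).right_triangle_components N
  have h2 : moduleSpecΓFunctor.map (inv ((tilde.adjunction (R := R)).counit.app N)) =
      (tilde.adjunction (R := R)).unit.app (secMod N) := by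
    rw [Functor.map_inv]
    exact IsIso.inv_eq_of_inv_hom_id h1
  rw [psi, Functor.map_comp, h2]
  exact ((tilde.adjunction (R := R)).unit.naturality (quotMap N K)).symm

theorem map_psi_apply_eq_zero_iff (z : secMod N) :
    (moduleSpecΓFunctor.map (psi N K)).hom z = 0 ↔ z ∈ K := by
  rw [map_psi]
  have hinj : Function.Injective
      ((tilde.adjunction (R := R)).unit.app (quotMod N K)).hom :=
    ((ConcreteCategory.isIso_iff_bijective _).mp inferInstance).1
  change ((tilde.adjunction (R := R)).unit.app (quotMod N K)).hom ((quotMap N K).hom z) = 0 ↔ _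
  rw [← map_zero ((tilde.adjunction (R := R)).unit.app (quotMod N K)).hom, hinj.eq_iff,
    quotMap_apply]
  exact Submodule.Quotient.mk_eq_zero K

theorem psi_app_top (z : secMod N) :
    (moduleSpecΓFunctor.map (psi N K)).hom z = (psi N K).app ⊤ z := rfl

end SpecLevel

section SpecAss

variable {R : CommRingCat.{u}} (N : (Spec R).Modules) (K : Submodule R (secMod N))

theorem asIdeal_eq_of_isAssPoint_tilde_quotMod [IsNoetherianRing R] (p : Ideal R)
    (hK : associatedPrimes R (secMod N ⧸ K) = {p}) (z : Spec R)
    (hz : Curv2.IsAssPoint ((tilde.functor R).obj (quotMod N K)) z) : z.asIdeal = p := by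
  have h1 := (Groth.Agent.S1578.result R (quotMod N K) z).2
    ((isNoetherianRing_iff_ideal_fg R).mp inferInstance _) hz
  have h2 : z.asIdeal ∈ associatedPrimes R (secMod N ⧸ K) := h1
  rw [hK] at h2
  exact h2

end SpecAss

section XLevel

variable (M : X.Modules) [M.IsQuasicoherent] {U : X.Opens} (hU : IsAffineOpen U)
  (K : Submodule Γ(X, U) (secMod (M.restrict hU.fromSpec)))

/-- The target of the quotient map. -/
noncomputable def target : X.Modules :=
  (Scheme.Modules.pushforward hU.fromSpec).obj
    ((tilde.functor Γ(X, U)).obj (quotMod (M.restrict hU.fromSpec) K))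

/-- The morphism `M ⟶ f_* ((Γ(M,U)/K)^~)`. -/
noncomputable def phi : M ⟶ target M hU K :=
  haveI : (M.restrict hU.fromSpec).IsQuasicoherent :=
    Scheme.Modules.isQuasicoherent_restrictFunctor _ _
  (Scheme.Modules.restrictAdjunction hU.fromSpec).homEquiv M _ (psi (M.restrict hU.fromSpec) K)

theorem phi_app (W : X.Opens) (z : Γ(M, W)) :
    haveI : (M.restrict hU.fromSpec).IsQuasicoherent :=
      Scheme.Modules.isQuasicoherent_restrictFunctor _ _
    (phi M hU K).app W z = (psi (M.restrict hU.fromSpec) K).app (hU.fromSpec ⁻¹ᵁ W)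
      (M.presheaf.map (homOfLE (hU.fromSpec.image_preimage_le W)).op z) := by
  haveI : (M.restrict hU.fromSpec).IsQuasicoherent :=
    Scheme.Modules.isQuasicoherent_restrictFunctor _ _
  rw [phi, Adjunction.homEquiv_unit]
  rfl

theorem symm_mem_of_phi_app_eq_zero (z : Γ(M, U)) (hz : (phi M hU K).app U z = 0) :
    ((sectionsFromSpecTopEquiv hU M).symm z : secMod (M.restrict hU.fromSpec)) ∈ K := by
  haveI : (M.restrict hU.fromSpec).IsQuasicoherent :=
    Scheme.Modules.isQuasicoherent_restrictFunctor _ _
  rw [phi_app] at hz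
  have hV : hU.fromSpec ⁻¹ᵁ U = ⊤ := hU.fromSpec_preimage_self
  let i : (⊤ : (Spec Γ(X, U)).Opens) ⟶ hU.fromSpec ⁻¹ᵁ U := eqToHom hV.symm
  have h1 := app_map (psi (M.restrict hU.fromSpec) K) i
    (M.presheaf.map (homOfLE (hU.fromSpec.image_preimage_le U)).op z)
  rw [hz] at h1
  replace h1 := h1.trans (map_zero _)
  have h2 : (M.restrict hU.fromSpec).presheaf.map i.op
      (M.presheaf.map (homOfLE (hU.fromSpec.image_preimage_le U)).op z) =
      (sectionsFromSpecTopEquiv hU M).symm z := by
    change M.presheaf.map _ (M.presheaf.map _ z) = M.presheaf.map _ z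
    rw [← ConcreteCategory.comp_apply, ← Functor.map_comp]
    rfl
  rw [h2] at h1
  exact (map_psi_apply_eq_zero_iff (M.restrict hU.fromSpec) K _).mp h1

end XLevel
section Main

variable [IsLocallyNoetherian X]

omit [IsLocallyNoetherian X] in
theorem shortExact_kernel {M G : X.Modules} (q : M ⟶ G) [Epi q] :
    (ShortComplex.mk (kernel.ι q) q (kernel.condition q)).ShortExact :=
  { exact := ShortComplex.exact_kernel q
    mono_f := inferInstanceAs (Mono (kernel.ι q))
    epi_g := inferInstanceAs (Epi q) }

omit [IsLocallyNoetherian X] in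
theorem shortExact_cokernel {G A : X.Modules} (ι : G ⟶ A) [Mono ι] :
    (ShortComplex.mk ι (cokernel.π ι) (cokernel.condition ι)).ShortExact :=
  { exact := ShortComplex.exact_cokernel ι
    mono_f := inferInstanceAs (Mono ι)
    epi_g := inferInstanceAs (Epi (cokernel.π ι)) }

/-- **Coprimary quotients of coherent modules.** For an associated point `x` of a coherent module
`M` on a locally Noetherian scheme there is a coherent quotient `q : M ⟶ G` whose only associated
point is `x` and such that `x` is not associated to the kernel of `q`. -/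
theorem exists_coprimary_quotient_sheaf (M : X.Modules) (hM : Coh.IsCoh M) (x : X)
    (hx : Curv2.IsAssPoint M x) :
    ∃ (G : X.Modules) (q : M ⟶ G), Epi q ∧ Coh.IsCoh G ∧ AssSch.Ass G = {x} ∧
      ¬ Curv2.IsAssPoint (kernel q) x := by
  haveI hMq : M.IsQuasicoherent := hM.1
  obtain ⟨_, ⟨U, hU : IsAffineOpen U, rfl⟩, hxU, -⟩ :=
    X.isBasis_affineOpens.exists_subset_of_mem_open (Set.mem_univ x) isOpen_univ
  haveI : IsNoetherianRing Γ(X, U) := IsLocallyNoetherian.component_noetherian ⟨U, hU⟩
  haveI hNq : (M.restrict hU.fromSpec).IsQuasicoherent :=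
    Scheme.Modules.isQuasicoherent_restrictFunctor _ _
  let e : secMod (M.restrict hU.fromSpec) ≃ₗ[Γ(X, U)] Γ(M, U) := sectionsFromSpecTopEquiv hU M
  haveI : Module.Finite Γ(X, U) Γ(M, U) := finite_sections_of_isCoh hU M hM
  haveI : Module.Finite Γ(X, U) (secMod (M.restrict hU.fromSpec)) := Module.Finite.equiv e.symm
  set y : Spec Γ(X, U) := hU.primeIdealOf ⟨x, hxU⟩ with hy
  have hfy : hU.fromSpec y = x := hU.fromSpec_primeIdealOf ⟨x, hxU⟩
  have hp : y.asIdeal ∈ associatedPrimes Γ(X, U) (secMod (M.restrict hU.fromSpec)) := by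
    rw [LinearEquiv.AssociatedPrimes.eq e]
    exact (isAssPoint_iff_of_isAffineOpen hU M ⟨x, hxU⟩).mp hx
  obtain ⟨K, hK1, hK2⟩ := CoprimaryQuot.exists_coprimary_quotient y.asIdeal hp
  -- the quotient
  set φ := phi M hU K with hφ
  have hAq : (target M hU K).IsQuasicoherent := by
    unfold target
    haveI : ((tilde.functor Γ(X, U)).obj (quotMod (M.restrict hU.fromSpec) K)).IsQuasicoherent :=
      inferInstanceAs (tilde (quotMod (M.restrict hU.fromSpec) K)).IsQuasicoherent
    exact isQuasicoherent_pushforward _ hU.fromSpec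
  have hGq : (Limits.image φ).IsQuasicoherent :=
    Groth.Agent.Lib.Helper80.SubQCoh.isQuasicoherent_of_epi_mono (factorThruImage φ) (image.ι φ)
      hMq hAq
  have hKq : (kernel (factorThruImage φ)).IsQuasicoherent := isQuasicoherent_kernel _ hMq hGq
  -- `x` is not associated to the kernel
  have hP5 : ¬ Curv2.IsAssPoint (kernel (factorThruImage φ)) x := by
    intro hA
    have h1 := (isAssPoint_iff_of_isAffineOpen hU (kernel (factorThruImage φ)) ⟨x, hxU⟩).mp hA
    let κ : Γ(kernel (factorThruImage φ), U) →ₗ[Γ(X, U)] Γ(M, U) :=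
      appₗ (kernel.ι (factorThruImage φ)) U
    have hκ : Function.Injective κ := app_injective_of_mono (kernel.ι (factorThruImage φ)) U
    have hc : kernel.ι (factorThruImage φ) ≫ φ = 0 := by
      have h0 : kernel.ι (factorThruImage φ) ≫ (factorThruImage φ ≫ image.ι φ) = 0 := by
        rw [← Category.assoc, kernel.condition, zero_comp]
      rwa [image.fac] at h0
    have hmem : ∀ k : Γ(kernel (factorThruImage φ), U), e.symm (κ k) ∈ K := by
      intro k
      apply symm_mem_of_phi_app_eq_zero M hU K (κ k)
      have h2 := congrArg (fun g => g.app U k) hc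
      exact h2
    let θ : Γ(kernel (factorThruImage φ), U) →ₗ[Γ(X, U)] K :=
      LinearMap.codRestrict K (e.symm.toLinearMap ∘ₗ κ) hmem
    have hθ : Function.Injective θ := by
      intro a b hab
      have h3 : e.symm (κ a) = e.symm (κ b) := congrArg Subtype.val hab
      exact hκ (e.symm.injective h3)
    exact hK2 (associatedPrimes.subset_of_injective hθ h1)
  refine ⟨Limits.image φ, factorThruImage φ, inferInstance, ?_, ?_, hP5⟩
  · exact ⟨hGq, isFiniteType_of_epi (factorThruImage φ) hM.2⟩
  · have hBq : ((tilde.functor Γ(X, U)).obj (quotMod (M.restrict hU.fromSpec) K)).IsQuasicoherent :=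
      inferInstanceAs (tilde (quotMod (M.restrict hU.fromSpec) K)).IsQuasicoherent
    apply Set.Subset.antisymm
    · intro z hz
      have h1 : z ∈ AssSch.Ass (target M hU K) :=
        (Groth.Agent.S2542.result _ (shortExact_cokernel (image.ι φ)) hGq hAq
          (isQuasicoherent_cokernel _ hGq hAq)).1 hz
      have h2 := Groth.Agent.S2508.result hU.fromSpec
        ((tilde.functor Γ(X, U)).obj (quotMod (M.restrict hU.fromSpec) K)) hBq h1
      obtain ⟨z', hz', rfl⟩ := h2
      have h3 := asIdeal_eq_of_isAssPoint_tilde_quotMod _ K y.asIdeal hK1 z' hz'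
      have h4 : z' = y := PrimeSpectrum.ext h3
      rw [h4]
      exact hfy
    · intro z hz
      rw [Set.mem_singleton_iff] at hz
      subst hz
      have h4 := (Groth.Agent.S2542.result _ (shortExact_kernel (factorThruImage φ)) hKq hMq
        hGq).2 hx
      rcases h4 with h | h
      · exact absurd h hP5
      · exact h

end Main

end Groth.Agent.Lib.Helper45.CoprimarySheaf
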