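import Mathlib
import Groth.Agent.Lib.Helper45.CoprimarySheaf

/-!
# Primary decomposition of coherent modules on locally Noetherian schemes

Shared library of helper45 (namespace `Groth.Agent.Lib.Helper45.PrimaryDecomp`).
-/

set_option autoImplicit false
set_option linter.style.haveILetI false
universe u
open CategoryTheory CategoryTheory.Limits AlgebraicGeometry TopologicalSpace

namespace Groth.Agent.Lib.Helper45.PrimaryDecomp

open Groth.Agent.Lib.Helper45 Groth.Agent.Lib.Helper49 Groth.Agent.Lib.Helper45.CoprimarySheaf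

variable {X : Scheme.{u}} [IsLocallyNoetherian X]

/-- A morphism into a quasi-coherent module `M` which is killed by quotients `q x : M ⟶ G x`
(`x` running over the associated points of `M`) such that `x` is not associated to the kernel of
`q x`, vanishes on sections over affine opens. -/
theorem app_eq_zero_of_comp_eq_zero (M : X.Modules) [M.IsQuasicoherent]
    (G : AssSch.Ass M → X.Modules) (q : ∀ x, M ⟶ G x) (hq : ∀ x, Epi (q x))
    (hGq : ∀ x, (G x).IsQuasicoherent)
    (hker : ∀ x : AssSch.Ass M, ¬ Curv2.IsAssPoint (kernel (q x)) x.1)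
    {T : X.Modules} (c : T ⟶ M) (hc : ∀ x, c ≫ q x = 0) {W : X.Opens} (hW : IsAffineOpen W)
    (t : Γ(T, W)) : c.app W t = 0 := by
  by_contra hne
  haveI : IsNoetherianRing Γ(X, W) := IsLocallyNoetherian.component_noetherian ⟨W, hW⟩
  -- the image of `c` on sections over `W`
  set I : Submodule Γ(X, W) Γ(M, W) := LinearMap.range (appₗ c W) with hI
  haveI : Nontrivial I :=
    ⟨⟨⟨c.app W t, ⟨t, rfl⟩⟩, 0, fun h => hne (congrArg Subtype.val h)⟩⟩
  obtain ⟨p, hp⟩ := associatedPrimes.nonempty Γ(X, W) I
  obtain ⟨hpP, ⟨z, ⟨t', ht'⟩⟩, hpz⟩ := hp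
  -- the point of `p`
  obtain ⟨w, hw⟩ := exists_primeIdealOf_eq hW ⟨p, hpP⟩
  have hwp : (hW.primeIdealOf w).asIdeal = p := congrArg PrimeSpectrum.asIdeal hw
  have hpM : p ∈ associatedPrimes Γ(X, W) Γ(M, W) :=
    associatedPrimes.subset_of_injective (f := I.subtype) I.injective_subtype ⟨hpP, _, hpz⟩
  have hwM : Curv2.IsAssPoint M (w : X) := by
    rw [isAssPoint_iff_of_isAffineOpen hW M w, hwp]
    exact hpM
  set xw : AssSch.Ass M := ⟨(w : X), hwM⟩ with hxw
  haveI := hq xw
  haveI := hGq xw
  haveI : (kernel (q xw)).IsQuasicoherent := isQuasicoherent_kernel _ inferInstance inferInstance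
  -- `z` comes from the kernel
  have hz0 : (q xw).app W z = 0 := by
    have h1 := congrArg (fun g => g.app W t') (hc xw)
    have h2 : (q xw).app W (c.app W t') = 0 := h1
    rw [← h2]
    exact congrArg _ ht'.symm
  obtain ⟨k, hk⟩ := (app_exact_of_shortExact _ (shortExact_kernel (q xw)) W z).mp hz0
  have hkinj : Function.Injective ((kernel.ι (q xw)).app W) :=
    app_injective_of_mono (kernel.ι (q xw)) W
  apply hker xw
  change Curv2.IsAssPoint (kernel (q xw)) (w : X)
  rw [isAssPoint_iff_of_isAffineOpen hW (kernel (q xw)) w, hwp]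
  refine ⟨hpP, k, ?_⟩
  rw [hpz]
  congr 1
  ext r
  rw [Submodule.mem_colon_singleton, Submodule.mem_colon_singleton, Submodule.mem_bot,
    Submodule.mem_bot]
  constructor
  · intro h
    apply hkinj
    rw [map_zero]
    have h3 : (kernel.ι (q xw)).app W (r • k) = r • (kernel.ι (q xw)).app W k :=
      Scheme.Modules.Hom.app_smul _ r k
    rw [h3, hk]
    exact congrArg Subtype.val h
  · intro h
    apply Subtype.ext
    change r • z = 0
    have h3 : (kernel.ι (q xw)).app W (r • k) = r • (kernel.ι (q xw)).app W k :=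
      Scheme.Modules.Hom.app_smul _ r k
    rw [← hk, ← h3, h, map_zero]

end Groth.Agent.Lib.Helper45.PrimaryDecomp
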