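import Mathlib
import Groth.Agent.Lib.Helper45.PrimaryDecomp

/-!
# Uniqueness of primary decomposition without embedded points

Shared library of helper45 (namespace `Groth.Agent.Lib.Helper45.PrimaryUnique`).
-/

set_option autoImplicit false
set_option linter.style.haveILetI false
universe u
open CategoryTheory CategoryTheory.Limits AlgebraicGeometry TopologicalSpace

namespace Groth.Agent.Lib.Helper45.PrimaryUnique

open Groth.Agent.Lib.Helper45 Groth.Agent.Lib.Helper49 Groth.Agent.Lib.Helper45.CoprimarySheaf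

variable {X : Scheme.{u}}

/-- Sections of a product of modules are determined by their projections. -/
theorem pi_section_ext {ι : Type u} (G : ι → X.Modules) (U : X.Opens) (s t : Γ(∏ᶜ G, U))
    (h : ∀ i, (Pi.π G i).app U s = (Pi.π G i).app U t) : s = t := by
  let E : X.Modules ⥤ Ab := Scheme.Modules.toPresheaf X ⋙ (evaluation _ _).obj (Opposite.op U)
  haveI : PreservesLimitsOfSize.{u, u} ((evaluation (Opens X)ᵒᵖ Ab.{u}).obj (Opposite.op U)) :=
    inferInstance
  haveI : PreservesLimitsOfSize.{u, u} (Scheme.Modules.toPresheaf X) := inferInstance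
  haveI : PreservesLimitsOfSize.{u, u} E := comp_preservesLimits _ _
  have hlim := isLimitOfPreserves E (limit.isLimit (Discrete.functor G))
  refine Concrete.isLimit_ext _ hlim s t (fun j => ?_)
  exact h j.as

/-- If a family of morphisms `q i : M ⟶ G i` is jointly monomorphic, it is jointly injective on
sections. -/
theorem section_eq_zero_of_jointly_mono (M : X.Modules) {ι : Type u} (G : ι → X.Modules)
    (q : ∀ i, M ⟶ G i)
    (hm : ∀ (T : X.Modules) (a b : T ⟶ M), (∀ i, a ≫ q i = b ≫ q i) → a = b) (U : X.Opens)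
    (t : Γ(M, U)) (ht : ∀ i, (q i).app U t = 0) : t = 0 := by
  haveI : Mono (Pi.lift q) := ⟨fun a b hab => hm _ a b (fun i => by
    have := congrArg (· ≫ Pi.π G i) hab
    simpa using this)⟩
  apply app_injective_of_mono (Pi.lift q) U
  rw [map_zero]
  refine pi_section_ext G U _ _ (fun i => ?_)
  rw [map_zero]
  have h1 : (Pi.lift q ≫ Pi.π G i).app U t = (q i).app U t := by
    rw [Pi.lift_π]
  rw [← ht i, ← h1]
  rfl

variable [IsLocallyNoetherian X]

omit [IsLocallyNoetherian X] in
/-- A morphism which vanishes on sections over affine opens is zero. -/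
theorem hom_eq_zero_of_app_affine {K G : X.Modules} (c : K ⟶ G)
    (h : ∀ (W : X.Opens), IsAffineOpen W → ∀ k : Γ(K, W), c.app W k = 0) : c = 0 := by
  refine Scheme.Modules.hom_ext c 0 (fun V => ?_)
  ext e
  change c.app V e = 0
  refine section_ext_germ G V _ _ fun y hy => ?_
  obtain ⟨W, hW, hyW, hWV⟩ :=
    (X.isBasis_affineOpens).exists_subset_of_mem_open hy V.2
  obtain ⟨W, rfl⟩ : ∃ W' : X.Opens, (W' : Set X) = W := by
    obtain ⟨W', hW', rfl⟩ := hW
    exact ⟨W', rfl⟩
  have hWaff : IsAffineOpen W := by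
    obtain ⟨W', hW', hWW'⟩ := hW
    have : W' = W := TopologicalSpace.Opens.ext hWW'
    exact this ▸ hW'
  have hle : W ≤ V := hWV
  rw [map_zero, ← TopCat.Presheaf.germ_res_apply G.presheaf (homOfLE hle) y hyW,
    ← app_map c (homOfLE hle) e, h W hWaff, map_zero]

/-- Associated points of a submodule are associated points of the module. -/
theorem isAssPoint_of_mono {K M : X.Modules} [K.IsQuasicoherent] [M.IsQuasicoherent] (i : K ⟶ M)
    [Mono i] {z : X} (hz : Curv2.IsAssPoint K z) : Curv2.IsAssPoint M z := by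
  obtain ⟨W, hW, hzW, -⟩ :=
    (X.isBasis_affineOpens).exists_subset_of_mem_open (Set.mem_univ z) isOpen_univ
  obtain ⟨W, rfl⟩ : ∃ W' : X.Opens, (W' : Set X) = W := by
    obtain ⟨W', hW', rfl⟩ := hW
    exact ⟨W', rfl⟩
  have hWaff : IsAffineOpen W := by
    obtain ⟨W', hW', hWW'⟩ := hW
    have : W' = W := TopologicalSpace.Opens.ext hWW'
    exact this ▸ hW'
  have h1 := (isAssPoint_iff_of_isAffineOpen hWaff K ⟨z, hzW⟩).mp hz
  exact (isAssPoint_iff_of_isAffineOpen hWaff M ⟨z, hzW⟩).mpr
    (associatedPrimes.subset_of_injective (f := appₗ i W) (app_injective_of_mono i W) h1)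

/-- A morphism `K ⟶ G` where `G` has at most the associated point `x` and no associated point of
`K` specializes to `x` vanishes. -/
theorem hom_eq_zero_of_ass {K G : X.Modules} [K.IsQuasicoherent] [G.IsQuasicoherent] (x : X)
    (hG : AssSch.Ass G ⊆ {x}) (hK : ∀ z, Curv2.IsAssPoint K z → ¬ z ⤳ x) (c : K ⟶ G) : c = 0 := by
  refine hom_eq_zero_of_app_affine c fun W hW k => ?_
  by_contra hne
  haveI : IsNoetherianRing Γ(X, W) := IsLocallyNoetherian.component_noetherian ⟨W, hW⟩
  obtain ⟨P, hP, hleP⟩ :=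
    exists_le_isAssociatedPrime_of_isNoetherianRing Γ(X, W) (c.app W k) hne
  haveI := hP.isPrime
  obtain ⟨w, hw⟩ := exists_primeIdealOf_eq hW ⟨P, hP.isPrime⟩
  have hwp : (hW.primeIdealOf w).asIdeal = P := congrArg PrimeSpectrum.asIdeal hw
  have hwG : Curv2.IsAssPoint G (w : X) := by
    rw [isAssPoint_iff_of_isAffineOpen hW G w, hwp]
    exact hP
  have hwx : (w : X) = x := hG hwG
  have hcol : (⊥ : Submodule Γ(X, W) Γ(K, W)).colon {k} ≤ P := by
    refine le_trans (fun r hr => ?_) hleP
    rw [Submodule.mem_colon_singleton, Submodule.mem_bot] at hr ⊢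
    have h3 : c.app W (r • k) = r • c.app W k := Scheme.Modules.Hom.app_smul _ r k
    rw [← h3, hr, map_zero]
  obtain ⟨p', hp'min, hp'P⟩ := Ideal.exists_minimalPrimes_le hcol
  obtain ⟨k', hk'⟩ := Submodule.exists_eq_colon_of_mem_minimalPrimes hp'min
  have hp'ass : IsAssociatedPrime p' Γ(K, W) := isAssociatedPrime_iff.mpr ⟨hp'min.1.1, k', hk'⟩
  obtain ⟨z, hz⟩ := exists_primeIdealOf_eq hW ⟨p', hp'min.1.1⟩
  have hzp : (hW.primeIdealOf z).asIdeal = p' := congrArg PrimeSpectrum.asIdeal hz
  have hzK : Curv2.IsAssPoint K (z : X) := by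
    rw [isAssPoint_iff_of_isAffineOpen hW K z, hzp]
    exact hp'ass
  apply hK z hzK
  rw [← hwx, ← primeIdealOf_le_iff hW, hzp, hwp]
  exact hp'P

/-- In a jointly monomorphic family of quasi-coherent quotients `q y : M ⟶ G y`, `y` running over
the associated points of `M`, with `Ass (G y) ⊆ {y}`, if no other associated point of `M` is a
specialization of `x`, then `x` is not an associated point of the kernel of `q x`. -/
theorem not_isAssPoint_kernel (M : X.Modules) [M.IsQuasicoherent]
    (G : AssSch.Ass M → X.Modules) (q : ∀ y, M ⟶ G y) (hGq : ∀ y, (G y).IsQuasicoherent)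
    (hA : ∀ y, AssSch.Ass (G y) ⊆ {y.1})
    (hm : ∀ (T : X.Modules) (a b : T ⟶ M), (∀ y, a ≫ q y = b ≫ q y) → a = b)
    (x : AssSch.Ass M) (hx : ∀ y : AssSch.Ass M, x.1 ⤳ y.1 → y = x) :
    ¬ Curv2.IsAssPoint (kernel (q x)) x.1 := by
  intro hass
  haveI := hGq x
  haveI : (kernel (q x)).IsQuasicoherent := isQuasicoherent_kernel _ inferInstance inferInstance
  obtain ⟨W, hW, hxW, -⟩ :=
    (X.isBasis_affineOpens).exists_subset_of_mem_open (Set.mem_univ x.1) isOpen_univ
  obtain ⟨W, rfl⟩ : ∃ W' : X.Opens, (W' : Set X) = W := by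
    obtain ⟨W', hW', rfl⟩ := hW
    exact ⟨W', rfl⟩
  have hWaff : IsAffineOpen W := by
    obtain ⟨W', hW', hWW'⟩ := hW
    have : W' = W := TopologicalSpace.Opens.ext hWW'
    exact this ▸ hW'
  haveI : IsNoetherianRing Γ(X, W) := IsLocallyNoetherian.component_noetherian ⟨W, hWaff⟩
  have h1 := (isAssPoint_iff_of_isAffineOpen hWaff (kernel (q x)) ⟨x.1, hxW⟩).mp hass
  obtain ⟨hprime, k, hk⟩ := isAssociatedPrime_iff.mp h1
  -- the section `k` of the kernel is killed by every `q y`
  have hkey : ∀ y, (q y).app W ((kernel.ι (q x)).app W k) = 0 := by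
    intro y
    by_cases hyx : y = x
    · subst hyx
      have := congrArg (fun g => g.app W k) (kernel.condition (q y))
      exact this
    · by_contra hne
      haveI := hGq y
      obtain ⟨P, hP, hleP⟩ := exists_le_isAssociatedPrime_of_isNoetherianRing Γ(X, W)
        ((q y).app W ((kernel.ι (q x)).app W k)) hne
      obtain ⟨w, hw⟩ := exists_primeIdealOf_eq hWaff ⟨P, hP.isPrime⟩
      have hwp : (hWaff.primeIdealOf w).asIdeal = P := congrArg PrimeSpectrum.asIdeal hw
      have hwG : Curv2.IsAssPoint (G y) (w : X) := by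
        rw [isAssPoint_iff_of_isAffineOpen hWaff (G y) w, hwp]
        exact hP
      have hwy : (w : X) = y.1 := hA y hwG
      apply hyx
      apply hx y
      rw [← hwy]
      change ((⟨x.1, hxW⟩ : W) : X) ⤳ (w : X)
      rw [← primeIdealOf_le_iff hWaff, hwp, hk]
      refine le_trans (fun r hr => ?_) hleP
      rw [Submodule.mem_colon_singleton, Submodule.mem_bot] at hr ⊢
      have h3 : (kernel.ι (q x)).app W (r • k) = r • (kernel.ι (q x)).app W k :=
        Scheme.Modules.Hom.app_smul _ r k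
      have h4 : (q y).app W (r • (kernel.ι (q x)).app W k) =
          r • (q y).app W ((kernel.ι (q x)).app W k) := Scheme.Modules.Hom.app_smul _ r _
      rw [← h4, ← h3, hr, map_zero, map_zero]
  have h0 : (kernel.ι (q x)).app W k = 0 :=
    section_eq_zero_of_jointly_mono M G q hm W _ hkey
  have hk0 : k = 0 := by
    apply app_injective_of_mono (kernel.ι (q x)) W
    rw [h0, map_zero]
  apply hprime.ne_top
  rw [hk, hk0]
  ext r
  simp

/-- Uniqueness of the primary components at non-embedded points: the quotients `q x` and `q' x`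
have the same kernel. -/
theorem kernel_comp_eq_zero (M : X.Modules) [M.IsQuasicoherent] (hne : AssSch.NoEmbedded M)
    (G G' : AssSch.Ass M → X.Modules) (q : ∀ y, M ⟶ G y) (q' : ∀ y, M ⟶ G' y)
    (hGq : ∀ y, (G y).IsQuasicoherent) (hGq' : ∀ y, (G' y).IsQuasicoherent)
    (hA : ∀ y, AssSch.Ass (G y) ⊆ {y.1}) (hA' : ∀ y, AssSch.Ass (G' y) ⊆ {y.1})
    (hm : ∀ (T : X.Modules) (a b : T ⟶ M), (∀ y, a ≫ q y = b ≫ q y) → a = b)
    (x : AssSch.Ass M) : kernel.ι (q x) ≫ q' x = 0 := by
  haveI := hGq x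
  haveI := hGq' x
  haveI : (kernel (q x)).IsQuasicoherent := isQuasicoherent_kernel _ inferInstance inferInstance
  have hnot : ¬ Curv2.IsAssPoint (kernel (q x)) x.1 :=
    not_isAssPoint_kernel M G q hGq hA hm x (fun y hxy => Subtype.ext (hne y.1 y.2 x.1 x.2 hxy))
  refine hom_eq_zero_of_ass x.1 (hA' x) (fun z hz hzx => ?_) _
  have hzM : Curv2.IsAssPoint M z := isAssPoint_of_mono (kernel.ι (q x)) hz
  have : x.1 = z := hne x.1 x.2 z hzM hzx
  exact hnot (this ▸ hz)

omit [IsLocallyNoetherian X] in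
/-- Two epimorphisms with the same kernel have isomorphic targets. -/
theorem exists_iso_of_kernel_comp_eq_zero {M G G' : X.Modules} (q : M ⟶ G) (q' : M ⟶ G') [Epi q]
    [Epi q'] (h12 : kernel.ι q ≫ q' = 0) (h21 : kernel.ι q' ≫ q = 0) :
    ∃ e : G ≅ G', q ≫ e.hom = q' := by
  let ψ : G ⟶ G' := Abelian.epiDesc q q' h12
  let ψ' : G' ⟶ G := Abelian.epiDesc q' q h21
  have h1 : q ≫ ψ = q' := Abelian.comp_epiDesc q q' h12
  have h2 : q' ≫ ψ' = q := Abelian.comp_epiDesc q' q h21
  refine ⟨⟨ψ, ψ', ?_, ?_⟩, h1⟩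
  · rw [← cancel_epi q, ← Category.assoc, h1, h2, Category.comp_id]
  · rw [← cancel_epi q', ← Category.assoc, h2, h1, Category.comp_id]

end Groth.Agent.Lib.Helper45.PrimaryUnique
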