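import Mathlib
import Groth.Agent.Lib.Helper45.PrimaryUnique
import Groth.Agent.S1704
import Groth.Agent.S1576

/-!
# Filtrations with coprimary quotients

Shared library of helper45 (namespace `Groth.Agent.Lib.Helper45.CoprimaryFiltration`).
-/

set_option autoImplicit false
set_option linter.style.haveILetI false
universe u
open CategoryTheory CategoryTheory.Limits AlgebraicGeometry TopologicalSpace

namespace Groth.Agent.Lib.Helper45.CoprimaryFiltration

open Groth.Agent.Lib.Helper45 Groth.Agent.Lib.Helper49 Groth.Agent.Lib.Helper45.CoprimarySheaf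
  Groth.Agent.Lib.Helper45.PrimaryUnique

section Abelian

variable {C : Type*} [Category C] [Abelian C]

/-- The intersection of a subobject `S` with a kernel is the kernel of the restriction to `S`. -/
theorem inf_kernelSubobject_eq_mk {M G : C} (S : Subobject M) (q : M ⟶ G) :
    S ⊓ kernelSubobject q = Subobject.mk (kernel.ι (S.arrow ≫ q) ≫ S.arrow) := by
  apply le_antisymm
  · have hz : Subobject.ofLE (S ⊓ kernelSubobject q) S inf_le_left ≫ S.arrow ≫ q = 0 := by
      rw [← Category.assoc, Subobject.ofLE_arrow,
        ← Subobject.ofLE_arrow (inf_le_right : S ⊓ kernelSubobject q ≤ kernelSubobject q),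
        Category.assoc, kernelSubobject_arrow_comp, comp_zero]
    refine Subobject.le_mk_of_comm (kernel.lift _ (Subobject.ofLE _ _ inf_le_left) hz) ?_
    rw [← Category.assoc, kernel.lift_ι, Subobject.ofLE_arrow]
  · apply le_inf
    · exact Subobject.mk_le_of_comm (kernel.ι _) rfl
    · apply le_kernelSubobject
      rw [← Subobject.underlyingIso_hom_comp_eq_mk, Category.assoc, Category.assoc,
        kernel.condition, comp_zero]

/-- The quotient `S / (S ⊓ ker q)` embeds into the target of `q`. -/
theorem exists_mono_cokernel_ofLE {M G : C} (S T : Subobject M) (q : M ⟶ G)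
    (hT : T = S ⊓ kernelSubobject q) (h : T ≤ S) :
    ∃ d : cokernel (Subobject.ofLE T S h) ⟶ G, Mono d := by
  subst hT
  set g := S.arrow ≫ q with hg
  have heq := inf_kernelSubobject_eq_mk S q
  let e : ((S ⊓ kernelSubobject q : Subobject M) : C) ≅ kernel g :=
    Subobject.isoOfEqMk _ _ heq
  have he : e.hom ≫ kernel.ι g = Subobject.ofLE _ S h := by
    rw [← cancel_mono S.arrow, Category.assoc, Subobject.ofLE_arrow]
    exact Subobject.ofLEMk_comp heq.le
  have hz : Subobject.ofLE _ S h ≫ g = 0 := by
    rw [← he, Category.assoc, kernel.condition, comp_zero]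
  let S₁ : ShortComplex C := ShortComplex.mk (kernel.ι g) g (kernel.condition g)
  let S₂ : ShortComplex C := ShortComplex.mk (Subobject.ofLE _ S h) g hz
  have hS₁ : S₁.Exact := ShortComplex.kernelSequence_exact g
  have hiso : S₂ ≅ S₁ := ShortComplex.isoMk e (Iso.refl _) (Iso.refl _)
    (by simpa [S₁, S₂] using he) (by simp [S₁, S₂])
  have hS₂ : S₂.Exact := ShortComplex.exact_of_iso hiso.symm hS₁
  exact ⟨cokernel.desc S₂.f S₂.g S₂.zero, hS₂.mono_cokernelDesc⟩

end Abelian

section Scheme

variable {X : Scheme.{u}}

/-- Finite intersections of kernels of morphisms between quasi-coherent modules are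
quasi-coherent. -/
theorem isQuasicoherent_finset_inf_kernelSubobject (M : X.Modules) [M.IsQuasicoherent]
    {ι : Type*} (G : ι → X.Modules) (q : ∀ i, M ⟶ G i) (hG : ∀ i, (G i).IsQuasicoherent)
    (s : Finset ι) :
    ((s.inf fun i => kernelSubobject (q i) : Subobject M) : X.Modules).IsQuasicoherent := by
  classical
  induction s using Finset.induction_on with
  | empty =>
    rw [Finset.inf_empty]
    exact isQuasicoherent_of_iso (asIso (⊤ : Subobject M).arrow).symm inferInstance
  | insert b s hb ih =>
    rw [Finset.inf_insert, inf_comm, inf_kernelSubobject_eq_mk]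
    refine isQuasicoherent_of_iso (Subobject.underlyingIso _).symm ?_
    exact isQuasicoherent_kernel _ ih (hG b)

/-- A jointly monomorphic finite family of coprimary quotients gives a filtration with coprimary
quotients. -/
theorem exists_filtration [IsNoetherian X] (M : X.Modules) (hM : Coh.IsCoh M)
    (G : AssSch.Ass M → X.Modules) (q : ∀ x, M ⟶ G x) (hG : ∀ x, Coh.IsCoh (G x))
    (hA : ∀ x, AssSch.Ass (G x) = {x.1})
    (hm : ∀ (T : X.Modules) (a b : T ⟶ M), (∀ x, a ≫ q x = b ≫ q x) → a = b) :
    ∃ (n : ℕ) (F : Fin (n + 1) → Subobject M) (hF : Antitone F),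
      F 0 = ⊤ ∧ F (Fin.last n) = ⊥ ∧ (∀ j, Coh.IsCoh ((F j : Subobject M) : X.Modules)) ∧
        ∀ i : Fin n,
          IsZero (cokernel (Subobject.ofLE (F i.succ) (F i.castSucc)
              (hF (Fin.castSucc_lt_succ (i := i)).le))) ∨
            ∃ x ∈ AssSch.Ass M,
              AssSch.Ass (cokernel (Subobject.ofLE (F i.succ) (F i.castSucc)
                (hF (Fin.castSucc_lt_succ (i := i)).le))) = {x} := by
  classical
  haveI : M.IsQuasicoherent := hM.1
  have hfin : (AssSch.Ass M).Finite := by
    refine (Groth.Agent.S1576.result X M hM ⊤ isCompact_univ).subset ?_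
    intro x hx
    exact ⟨trivial, hx⟩
  haveI : Finite (AssSch.Ass M) := hfin.to_subtype
  obtain ⟨n, ⟨e⟩⟩ := Finite.exists_equiv_fin (AssSch.Ass M)
  set Kx : Fin n → Subobject M := fun i => kernelSubobject (q (e.symm i)) with hKx
  set F : Fin (n + 1) → Subobject M := fun j =>
    (Finset.univ.filter (fun i : Fin n => i.castSucc < j)).inf Kx with hFdef
  have hF : Antitone F := by
    intro j j' hjj'
    refine Finset.inf_mono ?_
    intro i hi
    rw [Finset.mem_filter] at hi ⊢
    exact ⟨hi.1, lt_of_lt_of_le hi.2 hjj'⟩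
  have hqc : ∀ j, ((F j : Subobject M) : X.Modules).IsQuasicoherent := fun j =>
    isQuasicoherent_finset_inf_kernelSubobject M (fun i : Fin n => G (e.symm i))
      (fun i => q (e.symm i)) (fun i => (hG _).1) _
  have hsucc : ∀ i : Fin n, F i.succ = F i.castSucc ⊓ kernelSubobject (q (e.symm i)) := by
    intro i
    have hset : Finset.univ.filter (fun k : Fin n => k.castSucc < i.succ) =
        insert i (Finset.univ.filter (fun k : Fin n => k.castSucc < i.castSucc)) := by
      ext k
      simp only [Finset.mem_filter, Finset.mem_univ, true_and, Finset.mem_insert,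
        Fin.castSucc_lt_succ_iff, Fin.castSucc_lt_castSucc_iff]
      exact le_iff_eq_or_lt
    change (Finset.univ.filter (fun k : Fin n => k.castSucc < i.succ)).inf Kx = _
    rw [hset, Finset.inf_insert, inf_comm]
  refine ⟨n, F, hF, ?_, ?_, ?_, ?_⟩
  · change (Finset.univ.filter (fun i : Fin n => i.castSucc < 0)).inf Kx = ⊤
    have : Finset.univ.filter (fun i : Fin n => i.castSucc < 0) = ∅ := by
      ext k
      simp
    rw [this, Finset.inf_empty]
  · have hall : ∀ y, (F (Fin.last n)).arrow ≫ q y = 0 := by
      intro y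
      have hle : F (Fin.last n) ≤ Kx (e y) := by
        refine Finset.inf_le ?_
        rw [Finset.mem_filter]
        exact ⟨Finset.mem_univ _, Fin.castSucc_lt_last _⟩
      have h1 : ∀ (y' : AssSch.Ass M) (hy' : y' = y),
          (kernelSubobject (q y')).arrow ≫ q y = 0 := by
        intro y' hy'
        subst hy'
        exact kernelSubobject_arrow_comp (q y')
      replace h1 : (Kx (e y)).arrow ≫ q y = 0 := h1 _ (e.symm_apply_apply y)
      rw [← Subobject.ofLE_arrow hle, Category.assoc, h1, comp_zero]
    have h0 : (F (Fin.last n)).arrow = 0 :=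
      hm _ _ _ (fun y => by rw [hall y, zero_comp])
    rw [← Subobject.mk_arrow (F (Fin.last n))]
    exact Subobject.mk_eq_bot_iff_zero.mpr h0
  · intro j
    haveI := hqc j
    exact ⟨hqc j, isFiniteType_of_mono (F j).arrow hM.2⟩
  · intro i
    set Q := cokernel (Subobject.ofLE (F i.succ) (F i.castSucc)
      (hF (Fin.castSucc_lt_succ (i := i)).le)) with hQ
    obtain ⟨d, hd⟩ : ∃ d : Q ⟶ G (e.symm i), Mono d :=
      exists_mono_cokernel_ofLE (F i.castSucc) (F i.succ) (q (e.symm i))
        (hsucc i) (hF (Fin.castSucc_lt_succ (i := i)).le)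
    haveI : Q.IsQuasicoherent := isQuasicoherent_cokernel _ (hqc _) (hqc _)
    haveI : (G (e.symm i)).IsQuasicoherent := (hG _).1
    by_cases hz : IsZero Q
    · exact Or.inl hz
    · right
      refine ⟨(e.symm i).1, (e.symm i).2, ?_⟩
      have hsub : AssSch.Ass Q ⊆ {(e.symm i).1} := by
        intro z hz
        rw [← hA (e.symm i)]
        haveI : Mono d := hd
        exact isAssPoint_of_mono d hz
      rw [Groth.Agent.S1704.result X Q inferInstance] at hz
      obtain ⟨z, hz⟩ := not_forall.mp hz
      replace hz : Curv2.IsAssPoint Q z := not_not.mp hz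
      apply Set.Subset.antisymm hsub
      intro w hw
      rw [Set.mem_singleton_iff] at hw
      have hz' : z = (e.symm i).1 := hsub hz
      rw [hw, ← hz']
      exact hz

end Scheme

end Groth.Agent.Lib.Helper45.CoprimaryFiltration
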