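import Groth.Agent.Lib.Helper29.Depth
import Groth.Agent.Lib.Helper45.WeakAssIsLoc
import Mathlib.RingTheory.Ideal.AssociatedPrime.Localization
import Mathlib.RingTheory.KrullDimension.Module
import Mathlib.RingTheory.Support

/-!
# Depth zero / support dimension of a localization at a prime, in terms of the original module

Shared library of helper45.  Everything lives in `Groth.Agent.Lib.Helper45`.
-/

set_option autoImplicit false

universe u v

namespace Groth.Agent.Lib.Helper45

open Submodule

section Supp

variable {A : Type u} [CommRing A] (S : Submonoid A) (B : Type u) [CommRing B] [Algebra A B]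
  [IsLocalization S B] {M : Type v} {N : Type v} [AddCommGroup M] [Module A M] [AddCommGroup N]
  [Module A N] [Module B N] [IsScalarTower A B N] (f : M →ₗ[A] N) [IsLocalizedModule S f]

include S f in
/-- A prime of the localized ring is in the support of the localized module iff its contraction
is in the support of the original module. -/
theorem mem_support_iff_comap_mem_support (q : PrimeSpectrum B) :
    q ∈ Module.support B N ↔ PrimeSpectrum.comap (algebraMap A B) q ∈ Module.support A M := by
  rw [Module.mem_support_iff_exists_annihilator, Module.mem_support_iff_exists_annihilator]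
  constructor
  · rintro ⟨n, hn⟩
    obtain ⟨m, hm⟩ := exists_annEl_eq_map S B f n
    refine ⟨m, ?_⟩
    have h1 : (annEl A m).map (algebraMap A B) ≤ q.asIdeal := hm ▸ hn
    exact Ideal.map_le_iff_le_comap.mp h1
  · rintro ⟨m, hm⟩
    refine ⟨f m, ?_⟩
    have h1 : annEl B (f m) = (annEl A m).map (algebraMap A B) :=
      annEl_of_isLocalizedModule S B f m
    show annEl B (f m) ≤ q.asIdeal
    rw [h1]
    exact Ideal.map_le_iff_le_comap.mpr hm

end Supp

section AtPrime

variable {A : Type u} [CommRing A] (p : Ideal A) [p.IsPrime] (B : Type u) [CommRing B]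
  [Algebra A B] [IsLocalization.AtPrime B p] [IsLocalRing B] {M : Type v} {N : Type v}
  [AddCommGroup M] [Module A M] [AddCommGroup N] [Module A N] [Module B N] [IsScalarTower A B N]
  (f : M →ₗ[A] N) [IsLocalizedModule p.primeCompl f]

include f in
theorem maximalIdeal_mem_associatedPrimes_iff [IsNoetherianRing A] :
    IsLocalRing.maximalIdeal B ∈ associatedPrimes B N ↔ p ∈ associatedPrimes A M := by
  have h := Module.associatedPrimes.preimage_comap_associatedPrimes_eq_associatedPrimes_of_isLocalizedModule
    p.primeCompl B f
  have hc : (IsLocalRing.maximalIdeal B).comap (algebraMap A B) = p :=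
    IsLocalization.AtPrime.under_maximalIdeal B p
  rw [← h, Set.mem_preimage, hc]

include f in
theorem one_le_supportDim_iff :
    1 ≤ Module.supportDim B N ↔
      ∃ q : PrimeSpectrum A, q ∈ Module.support A M ∧ q.asIdeal < p := by
  have hmax : IsLocalRing.maximalIdeal B = p.map (algebraMap A B) :=
    (IsLocalization.AtPrime.map_eq_maximalIdeal p B).symm
  have hcomap : (IsLocalRing.maximalIdeal B).comap (algebraMap A B) = p :=
    IsLocalization.AtPrime.under_maximalIdeal B p
  unfold Module.supportDim
  rw [Order.one_le_krullDim_iff]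
  constructor
  · rintro ⟨⟨x, hx⟩, ⟨y, hy⟩, hxy⟩
    have hxy' : x.asIdeal < y.asIdeal := hxy
    refine ⟨PrimeSpectrum.comap (algebraMap A B) x,
      (mem_support_iff_comap_mem_support p.primeCompl B f x).mp hx, ?_⟩
    have hle : x.asIdeal.comap (algebraMap A B) ≤ p := by
      rw [← hcomap]
      exact Ideal.comap_mono (IsLocalRing.le_maximalIdeal x.isPrime.ne_top)
    refine lt_of_le_of_ne hle ?_
    intro heq
    have h1 : x.asIdeal = IsLocalRing.maximalIdeal B := by
      rw [hmax, ← heq]
      exact (IsLocalization.map_under p.primeCompl B x.asIdeal).symm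
    have h2 : y.asIdeal ≤ IsLocalRing.maximalIdeal B :=
      IsLocalRing.le_maximalIdeal y.isPrime.ne_top
    exact absurd (h1 ▸ hxy') (not_lt_of_ge h2)
  · rintro ⟨q, hq, hqp⟩
    have hdisj : Disjoint (p.primeCompl : Set A) (q.asIdeal : Set A) := by
      rw [Set.disjoint_left]
      intro a ha haq
      exact ha (hqp.le haq)
    have hprime : (q.asIdeal.map (algebraMap A B)).IsPrime :=
      IsLocalization.isPrime_of_isPrime_disjoint p.primeCompl B q.asIdeal q.isPrime hdisj
    have hcm : (q.asIdeal.map (algebraMap A B)).comap (algebraMap A B) = q.asIdeal :=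
      IsLocalization.under_map_of_isPrime_disjoint p.primeCompl B q.isPrime hdisj
    have hq' : (⟨q.asIdeal.map (algebraMap A B), hprime⟩ : PrimeSpectrum B) ∈
        Module.support B N := by
      rw [mem_support_iff_comap_mem_support p.primeCompl B f]
      have : PrimeSpectrum.comap (algebraMap A B) ⟨q.asIdeal.map (algebraMap A B), hprime⟩ = q :=
        PrimeSpectrum.ext hcm
      rw [this]
      exact hq
    have hm' : (⟨IsLocalRing.maximalIdeal B, inferInstance⟩ : PrimeSpectrum B) ∈
        Module.support B N := by
      rw [mem_support_iff_comap_mem_support p.primeCompl B f]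
      have : PrimeSpectrum.comap (algebraMap A B) ⟨IsLocalRing.maximalIdeal B, inferInstance⟩ =
          ⟨p, inferInstance⟩ := PrimeSpectrum.ext hcomap
      rw [this]
      exact Module.mem_support_mono (show q ≤ ⟨p, inferInstance⟩ from hqp.le) hq
    refine ⟨⟨_, hq'⟩, ⟨_, hm'⟩, ?_⟩
    show q.asIdeal.map (algebraMap A B) < IsLocalRing.maximalIdeal B
    refine lt_of_le_of_ne (IsLocalRing.le_maximalIdeal hprime.ne_top) ?_
    intro heq
    have : q.asIdeal = p := by rw [← hcm, heq, hcomap]
    exact hqp.ne this

theorem withBot_enat_le_zero_or_one_le (d : WithBot ℕ∞) : d ≤ 0 ∨ 1 ≤ d := by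
  induction d with
  | bot => exact Or.inl bot_le
  | coe n =>
    rcases eq_or_ne n 0 with h | h
    · left; rw [h]; rfl
    · right
      have : (1 : ℕ∞) ≤ n := Order.one_le_iff_ne_zero.mpr h
      exact_mod_cast this

include f in
/-- Serre's condition `(S_1)` at the localization `N = M_p` over `B = A_p`, in terms of `M`. -/
theorem s1_cond_iff [IsNoetherianRing A] [Module.Finite A M] :
    min (1 : WithBot ℕ∞) (Module.supportDim B N) ≤ ((LocCoh.depth B N : ℕ∞) : WithBot ℕ∞) ↔
      ¬ (p ∈ associatedPrimes A M ∧
        ∃ q : PrimeSpectrum A, q ∈ Module.support A M ∧ q.asIdeal < p) := by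
  have hBN : IsNoetherianRing B := IsLocalization.isNoetherianRing p.primeCompl B inferInstance
  have hfin : Module.Finite B N := Module.Finite.of_isLocalizedModule p.primeCompl f
  rw [← maximalIdeal_mem_associatedPrimes_iff p B f, ← one_le_supportDim_iff p B f,
    ← Groth.Agent.Lib.Helper29.depth_eq_zero_iff B N]
  by_cases hd : LocCoh.depth B N = 0
  · rw [hd]
    simp only [true_and]
    constructor
    · intro h h1
      have h2 : min (1 : WithBot ℕ∞) (Module.supportDim B N) = 1 := min_eq_left h1
      rw [h2] at h
      exact absurd h (by simp)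
    · intro h
      rcases withBot_enat_le_zero_or_one_le (Module.supportDim B N) with h0 | h1
      · exact (min_le_right _ _).trans (by simpa using h0)
      · exact absurd h1 h
  · simp only [hd, false_and, not_false_eq_true, iff_true]
    have h1 : (1 : ℕ∞) ≤ LocCoh.depth B N := Order.one_le_iff_ne_zero.mpr hd
    refine (min_le_left _ _).trans ?_
    exact_mod_cast h1

end AtPrime

end Groth.Agent.Lib.Helper45
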