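import Mathlib
import Groth.Agent.Lib.Helper45.CoprimaryFiltration
import Groth.Agent.Lib.Helper16.LFRes.Sections
import Groth.Agent.Lib.Helper1.SupportClosed
import Groth.Agent.Lib.Helper49.QcqsModules
import Groth.Agent.Lib.Helper49.FiniteTypeLocal
import Groth.Agent.S4636
import Groth.Agent.S2506

/-!
# The largest coherent subsheaf with nowhere dense support

Shared library of helper45 (namespace `Groth.Agent.Lib.Helper45.NowhereDense`).
-/

set_option autoImplicit false
set_option linter.style.haveILetI false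
universe u
open CategoryTheory CategoryTheory.Limits AlgebraicGeometry TopologicalSpace

namespace Groth.Agent.Lib.Helper45.NowhereDense

open Groth.Agent.Lib.Helper45 Groth.Agent.Lib.Helper49 Groth.Agent.Lib.Helper45.CoprimarySheaf
  Groth.Agent.Lib.Helper45.PrimaryUnique

variable {X : Scheme.{u}} [IsLocallyNoetherian X]

/-- The embedded associated points of a module. -/
def embeddedPts (F : X.Modules) : Set X :=
  {x | Curv2.IsAssPoint F x ∧ ∃ y, Curv2.IsAssPoint F y ∧ y ⤳ x ∧ y ≠ x}

/-- A point in the closure of a set of associated points of a coherent module is a specialization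
of one of them (local finiteness of the associated points). -/
theorem exists_specializes_of_mem_closure (F : X.Modules) (hF : Coh.IsCoh F) (S : Set X)
    (hS : ∀ y ∈ S, Curv2.IsAssPoint F y) {x : X} (hx : x ∈ closure S) : ∃ y ∈ S, y ⤳ x := by
  obtain ⟨_, ⟨W, hW : IsAffineOpen W, rfl⟩, hxW, -⟩ :=
    X.isBasis_affineOpens.exists_subset_of_mem_open (Set.mem_univ x) isOpen_univ
  have hfin : ((W : Set X) ∩ S).Finite :=
    (Groth.Agent.S1576.result X F hF W hW.isCompact).subset (fun y hy => ⟨hy.1, hS y hy.2⟩)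
  have h1 : x ∈ closure ((W : Set X) ∩ S) := W.2.inter_closure ⟨hxW, hx⟩
  rw [← Set.biUnion_of_singleton ((W : Set X) ∩ S), hfin.closure_biUnion] at h1
  obtain ⟨y, hy, hxy⟩ := Set.mem_iUnion₂.mp h1
  exact ⟨y, hy.2, specializes_iff_mem_closure.mpr hxy⟩

/-- Every point of the support of a coherent module is a specialization of a minimal associated
point. -/
theorem exists_minimal_ass_specializes (F : X.Modules) (hF : Coh.IsCoh F) {z : X}
    (hz : z ∈ CohB1.support F) :
    ∃ x, Curv2.IsAssPoint F x ∧ (∀ y, Curv2.IsAssPoint F y → y ⤳ x → y = x) ∧ x ⤳ z := by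
  haveI : F.IsQuasicoherent := hF.1
  obtain ⟨_, ⟨V, hV : IsAffineOpen V, rfl⟩, hzV, -⟩ :=
    X.isBasis_affineOpens.exists_subset_of_mem_open (Set.mem_univ z) isOpen_univ
  have : IsNoetherianRing Γ(X, V) := IsLocallyNoetherian.component_noetherian ⟨V, hV⟩
  have : Module.Finite Γ(X, V) Γ(F, V) := finite_sections_of_isCoh hV F hF
  have hsupp := Groth.Agent.S4636.primeIdealOf_mem_support F hV ⟨z, hzV⟩
    (not_subsingleton_iff_nontrivial.mp hz)
  have hann : Module.annihilator Γ(X, V) Γ(F, V) ≤ (hV.primeIdealOf ⟨z, hzV⟩).asIdeal :=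
    Module.annihilator_le_of_mem_support hsupp
  obtain ⟨q0, hq0, hq0q⟩ := Ideal.exists_minimalPrimes_le hann
  have hq0ass : q0 ∈ associatedPrimes Γ(X, V) Γ(F, V) :=
    Module.associatedPrimes.minimalPrimes_annihilator_subset_associatedPrimes _ _ hq0
  have hq0P : q0.IsPrime := hq0.1.1
  obtain ⟨x, hx⟩ := exists_primeIdealOf_eq hV ⟨q0, hq0P⟩
  have hxq : (hV.primeIdealOf x).asIdeal = q0 := congrArg PrimeSpectrum.asIdeal hx
  have hxass : Curv2.IsAssPoint F (x : X) := by
    rw [isAssPoint_iff_of_isAffineOpen hV F x, hxq]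
    exact hq0ass
  refine ⟨x, hxass, ?_, ?_⟩
  · intro y hy hyx
    have hyV : y ∈ V := hyx.mem_open V.2 x.2
    have hy' := (isAssPoint_iff_of_isAffineOpen hV F ⟨y, hyV⟩).mp hy
    have hle : (hV.primeIdealOf ⟨y, hyV⟩).asIdeal ≤ q0 := by
      rw [← hxq, primeIdealOf_le_iff hV x ⟨y, hyV⟩]
      exact hyx
    have hge : q0 ≤ (hV.primeIdealOf ⟨y, hyV⟩).asIdeal :=
      hq0.2 ⟨hy'.isPrime, by
        have := IsAssociatedPrime.annihilator_le hy'
        rwa [Submodule.annihilator_top] at this⟩ hle
    have heq : hV.primeIdealOf ⟨y, hyV⟩ = hV.primeIdealOf x :=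
      PrimeSpectrum.ext ((le_antisymm hle hge).trans hxq.symm)
    exact congrArg Subtype.val (primeIdealOf_injective hV heq)
  · change (x : X) ⤳ ((⟨z, hzV⟩ : V) : X)
    rw [← primeIdealOf_le_iff hV ⟨z, hzV⟩ x, hxq]
    exact hq0q

/-- A minimal associated point is not in the closure of the embedded points. -/
theorem not_mem_closure_embeddedPts (F : X.Modules) (hF : Coh.IsCoh F) {x : X}
    (hmin : ∀ y, Curv2.IsAssPoint F y → y ⤳ x → y = x) : x ∉ closure (embeddedPts F) := by
  intro hx
  obtain ⟨y, hy, hyx⟩ := exists_specializes_of_mem_closure F hF (embeddedPts F)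
    (fun y hy => hy.1) hx
  have hyx' : y = x := hmin y hy.1 hyx
  subst hyx'
  obtain ⟨-, y', hy', hy'y, hne⟩ := hy
  exact hne (hmin y' hy' hy'y)

omit [IsLocallyNoetherian X] in
/-- An associated point outside the embedded points is minimal. -/
theorem minimal_of_not_mem_embeddedPts (F : X.Modules) {x : X} (hx : Curv2.IsAssPoint F x)
    (hxE : x ∉ embeddedPts F) : ∀ y, Curv2.IsAssPoint F y → y ⤳ x → y = x := by
  intro y hy hyx
  by_contra hne
  exact hxE ⟨hx, y, hy, hyx, hne⟩

section Sub

omit [IsLocallyNoetherian X] in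
/-- Sections of a kernel are the sections killed by the morphism. -/
theorem app_exact_kernel {F G : X.Modules} (η : F ⟶ G) (V : X.Opens) :
    Function.Exact ((kernel.ι η).app V) (η.app V) := by
  have hS : (ShortComplex.mk (kernel.ι η) η (kernel.condition η)).Exact :=
    ShortComplex.exact_kernel η
  have h := hS.map_of_mono_of_preservesKernel (sectionsFunctor X V)
    (inferInstanceAs (Mono (kernel.ι η))) inferInstance
  exact (ShortComplex.ab_exact_iff_function_exact _).mp h

omit [IsLocallyNoetherian X] in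
theorem map_eq_zero_iff_of_eq (F : X.Modules) {V W₁ W₂ : X.Opens} (h₁ : W₁ ≤ V) (h₂ : W₂ ≤ V)
    (e : W₁ = W₂) (m : Γ(F, V)) :
    F.presheaf.map (homOfLE h₁).op m = 0 ↔ F.presheaf.map (homOfLE h₂).op m = 0 := by
  subst e
  rfl

omit [IsLocallyNoetherian X] in
theorem map_eq_zero_of_le (F : X.Modules) {V W₁ W₂ : X.Opens} (h₁ : W₁ ≤ W₂) (h₂ : W₂ ≤ V)
    (m : Γ(F, V)) (h : F.presheaf.map (homOfLE h₂).op m = 0) :
    F.presheaf.map (homOfLE (h₁.trans h₂)).op m = 0 := by
  have h2 := congrArg (F.presheaf.map (homOfLE h₁).op) h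
  rw [map_zero, map_map] at h2
  exact h2

variable (U : X.Opens) {K F : X.Modules} (i : K ⟶ F)

/-- `i : K ⟶ F` identifies `K` with the sections of `F` vanishing on `U`. -/
def IsSupportedOff : Prop :=
  ∀ (V : X.Opens) (m : Γ(F, V)), (∃ k : Γ(K, V), i.app V k = m) ↔
    F.presheaf.map (homOfLE (inf_le_left : V ⊓ U ≤ V)).op m = 0

omit [IsLocallyNoetherian X] in
/-- The kernel of `F ⟶ j_* j^* F` consists of the sections vanishing on `U`. -/
theorem isSupportedOff_kernel_unit (F : X.Modules) :
    IsSupportedOff U (kernel.ι ((Scheme.Modules.restrictAdjunction U.ι).unit.app F)) := by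
  intro V m
  set η := (Scheme.Modules.restrictAdjunction U.ι).unit.app F with hη
  have h1 : (∃ k, (kernel.ι η).app V k = m) ↔ η.app V m = 0 :=
    (((app_exact_kernel η V) m).trans Set.mem_range).symm
  rw [h1]
  have h2 : η.app V m = F.presheaf.map (homOfLE (U.ι.image_preimage_le V)).op m := rfl
  rw [h2]
  refine map_eq_zero_iff_of_eq F _ _ ?_ m
  rw [Scheme.Hom.image_preimage_eq_opensRange_inf, Scheme.Opens.opensRange_ι, inf_comm]

variable {U i}

omit [IsLocallyNoetherian X] in
theorem IsSupportedOff.subsingleton_sections (h : IsSupportedOff U i) [Mono i] {V : X.Opens}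
    (hV : V ≤ U) : Subsingleton Γ(K, V) := by
  have key : ∀ k : Γ(K, V), k = 0 := by
    intro k
    apply app_injective_of_mono i V
    rw [map_zero]
    have h1 := (h V (i.app V k)).mp ⟨k, rfl⟩
    have hle : V ≤ V ⊓ U := le_inf le_rfl hV
    have h2 := map_eq_zero_of_le F hle inf_le_left _ h1
    have h3 : F.presheaf.map (homOfLE (hle.trans inf_le_left)).op = 𝟙 _ :=
      F.presheaf.map_id _
    rw [h3] at h2
    exact h2
  exact ⟨fun a b => by rw [key a, key b]⟩

omit [IsLocallyNoetherian X] in
theorem IsSupportedOff.subsingleton_stalk (h : IsSupportedOff U i) [Mono i] {x : X}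
    (hx : x ∈ U) : Subsingleton (K.presheaf.stalk x) := by
  have key : ∀ g : K.presheaf.stalk x, g = 0 := by
    intro g
    obtain ⟨V, hxV, s, rfl⟩ := TopCat.Presheaf.exists_germ_eq K.presheaf g
    have hxVU : x ∈ V ⊓ U := ⟨hxV, hx⟩
    rw [← TopCat.Presheaf.germ_res_apply K.presheaf (homOfLE (inf_le_left : V ⊓ U ≤ V)) x hxVU s]
    haveI := h.subsingleton_sections (inf_le_right : V ⊓ U ≤ U)
    rw [Subsingleton.elim (K.presheaf.map (homOfLE (inf_le_left : V ⊓ U ≤ V)).op s) 0, map_zero]
  exact ⟨fun a b => by rw [key a, key b]⟩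

omit [IsLocallyNoetherian X] in
theorem IsSupportedOff.support_subset (h : IsSupportedOff U i) [Mono i] :
    CohB1.support K ⊆ (U : Set X)ᶜ := by
  intro x hx hxU
  exact hx (h.subsingleton_stalk hxU)

omit [IsLocallyNoetherian X] in
theorem IsSupportedOff.cokernel_π_app_injective (h : IsSupportedOff U i) [Mono i] {V : X.Opens}
    (hV : V ≤ U) : Function.Injective ((cokernel.π i).app V) := by
  rw [injective_iff_map_eq_zero]
  intro m hm
  obtain ⟨k, hk⟩ := (app_exact_of_shortExact _ (shortExact_cokernel i) V m).mp hm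
  haveI := h.subsingleton_sections hV
  have hk' : i.app V k = m := hk
  rw [← hk', Subsingleton.elim k 0, map_zero]

omit [IsLocallyNoetherian X] in
theorem cokernel_π_app_surjective [Mono i] [K.IsQuasicoherent] {V : X.Opens}
    (hV : IsAffineOpen V) : Function.Surjective ((cokernel.π i).app V) :=
  Groth.Agent.Lib.Helper16.LFRes.app_surjective_of_shortExact _ (shortExact_cokernel i)
    (inferInstanceAs K.IsQuasicoherent) hV

theorem IsSupportedOff.ass_cokernel_subset (h : IsSupportedOff U i) [Mono i] [K.IsQuasicoherent]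
    [F.IsQuasicoherent] : AssSch.Ass (cokernel i) ⊆ (U : Set X) := by
  haveI : (cokernel i).IsQuasicoherent := isQuasicoherent_cokernel _ inferInstance inferInstance
  rw [Groth.Agent.S2506.result (cokernel i) inferInstance U]
  intro V hV s hs
  obtain ⟨m, rfl⟩ := cokernel_π_app_surjective (i := i) hV s
  have hs' : (cokernel i).presheaf.map (homOfLE (inf_le_left : V ⊓ U ≤ V)).op
      ((cokernel.π i).app V m) = 0 := hs
  rw [← app_map] at hs'
  have h0 := h.cokernel_π_app_injective (inf_le_right : V ⊓ U ≤ U) (hs'.trans (map_zero _).symm)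
  obtain ⟨k, hk⟩ := (h V m).mpr h0
  rw [← hk]
  exact congrArg (fun g => g.app V k) (cokernel.condition i)

theorem IsSupportedOff.isAssPoint_cokernel_iff (h : IsSupportedOff U i) [Mono i]
    [K.IsQuasicoherent] [F.IsQuasicoherent] {x : X} (hx : x ∈ U) :
    Curv2.IsAssPoint (cokernel i) x ↔ Curv2.IsAssPoint F x := by
  haveI : (cokernel i).IsQuasicoherent := isQuasicoherent_cokernel _ inferInstance inferInstance
  obtain ⟨_, ⟨V, hV : IsAffineOpen V, rfl⟩, hxV, hVU⟩ :=
    X.isBasis_affineOpens.exists_subset_of_mem_open hx U.2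
  rw [isAssPoint_iff_of_isAffineOpen hV _ ⟨x, hxV⟩, isAssPoint_iff_of_isAffineOpen hV F ⟨x, hxV⟩]
  have hbij : Function.Bijective (appₗ (cokernel.π i) V) :=
    ⟨h.cokernel_π_app_injective hVU, cokernel_π_app_surjective (i := i) hV⟩
  rw [LinearEquiv.AssociatedPrimes.eq (LinearEquiv.ofBijective _ hbij)]

omit [IsLocallyNoetherian X] in
theorem IsSupportedOff.mem_support_cokernel_iff (h : IsSupportedOff U i) [Mono i] {x : X}
    (hx : x ∈ U) : x ∈ CohB1.support (cokernel i) ↔ x ∈ CohB1.support F := by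
  constructor
  · intro hQ hF
    apply hQ
    have hsurj := stalkMap_surjective_of_epi (cokernel.π i) x
    exact ⟨fun a b => by
      obtain ⟨a', rfl⟩ := hsurj a
      obtain ⟨b', rfl⟩ := hsurj b
      rw [Subsingleton.elim a' b']⟩
  · intro hF hQ
    apply hF
    have key : ∀ g : F.presheaf.stalk x, g = 0 := by
      intro g
      obtain ⟨V, hxV, m, rfl⟩ := TopCat.Presheaf.exists_germ_eq F.presheaf g
      obtain ⟨W, hxW, hWV, hW0⟩ :=
        Groth.Agent.Lib.Helper1.exists_restrict_eq_zero_of_subsingleton_stalk (cokernel i) x hQ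
          hxV ((cokernel.π i).app V m)
      have hle : W ⊓ U ≤ V := inf_le_left.trans hWV
      have h1 : (cokernel.π i).app (W ⊓ U) (F.presheaf.map (homOfLE hle).op m) = 0 := by
        rw [app_map]
        exact map_eq_zero_of_le (cokernel i) inf_le_left hWV _ hW0
      have h2 := h.cokernel_π_app_injective (inf_le_right : W ⊓ U ≤ U)
        (h1.trans (map_zero _).symm)
      rw [← TopCat.Presheaf.germ_res_apply F.presheaf (homOfLE hle) x ⟨hxW, hx⟩ m, h2, map_zero]
    exact ⟨fun a b => by rw [key a, key b]⟩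

end Sub

omit [IsLocallyNoetherian X] in
/-- The support of a quotient is contained in the support. -/
theorem support_subset_of_epi {F Q : X.Modules} (π : F ⟶ Q) [Epi π] :
    CohB1.support Q ⊆ CohB1.support F := by
  intro x hQ hF
  apply hQ
  have hsurj := stalkMap_surjective_of_epi π x
  exact ⟨fun a b => by
    obtain ⟨a', rfl⟩ := hsurj a
    obtain ⟨b', rfl⟩ := hsurj b
    rw [Subsingleton.elim a' b']⟩

omit [IsLocallyNoetherian X] in
theorem mem_support_of_isAssPoint (F : X.Modules) {x : X} (hx : Curv2.IsAssPoint F x) :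
    x ∈ CohB1.support F :=
  not_subsingleton_iff_nontrivial.mpr (Groth.Agent.S4636.nontrivial_stalk_of_isAssPoint F x hx)

/-- A minimal associated point `x₀` of a coherent module `F` has an open neighbourhood whose
intersection with the support of `F` is contained in the closure of `x₀`. -/
theorem exists_open_inter_support_subset (F : X.Modules) (hF : Coh.IsCoh F) {x₀ : X}
    (_hx₀ : Curv2.IsAssPoint F x₀) (hmin : ∀ y, Curv2.IsAssPoint F y → y ⤳ x₀ → y = x₀) :
    ∃ V : X.Opens, x₀ ∈ V ∧ ∀ z ∈ (V : Set X) ∩ CohB1.support F, x₀ ⤳ z := by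
  set S : Set X := {y | Curv2.IsAssPoint F y ∧ y ≠ x₀} with hS
  refine ⟨⟨(closure S)ᶜ, isClosed_closure.isOpen_compl⟩, ?_, ?_⟩
  · intro hx
    obtain ⟨y, hy, hyx⟩ := exists_specializes_of_mem_closure F hF S (fun y hy => hy.1) hx
    exact hy.2 (hmin y hy.1 hyx)
  · rintro z ⟨hzV, hzF⟩
    obtain ⟨y, hyass, -, hyz⟩ := exists_minimal_ass_specializes F hF hzF
    by_cases hyx : y = x₀
    · exact hyx ▸ hyz
    · exfalso
      apply hzV
      have h1 : z ∈ closure ({y} : Set X) := specializes_iff_mem_closure.mp hyz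
      exact closure_mono (Set.singleton_subset_iff.mpr (show y ∈ S from ⟨hyass, hyx⟩)) h1

/-- **The largest coherent subsheaf with nowhere dense support.** -/
theorem exists_max_nowhereDense (F : X.Modules) (hF : Coh.IsCoh F) :
    ∃ K : Subobject F, Coh.IsCoh (K : X.Modules) ∧
      (∀ U : X.Opens, (U : Set ↥X) ∩ CohB1.support F ⊆ CohB1.support (K : X.Modules) →
        (U : Set ↥X) ∩ CohB1.support F = ∅) ∧
      (∀ K' : Subobject F, Coh.IsCoh (K' : X.Modules) →
        (∀ U : X.Opens, (U : Set ↥X) ∩ CohB1.support F ⊆ CohB1.support (K' : X.Modules) →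
          (U : Set ↥X) ∩ CohB1.support F = ∅) →
        K' ≤ K) ∧
      CohB1.support (cokernel K.arrow) = CohB1.support F ∧
      (∀ x : ↥X, Curv2.IsAssPoint (cokernel K.arrow) x →
        ∀ y : ↥X, Curv2.IsAssPoint (cokernel K.arrow) y → y ⤳ x → y = x) ∧
      ∃ U : X.Opens, Dense (U : Set ↥X) ∧
        CohB1.support F ⊆ closure ((U : Set ↥X) ∩ CohB1.support F) ∧
        IsIso ((Scheme.Modules.restrictFunctor U.ι).map (cokernel.π K.arrow)) := by
  haveI : F.IsQuasicoherent := hF.1
  let U : X.Opens := ⟨(closure (embeddedPts F))ᶜ, isClosed_closure.isOpen_compl⟩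
  set η : F ⟶ (Scheme.Modules.pushforward U.ι).obj ((Scheme.Modules.restrictFunctor U.ι).obj F) :=
    (Scheme.Modules.restrictAdjunction U.ι).unit.app F with hη
  haveI : ((Scheme.Modules.restrictFunctor U.ι).obj F).IsQuasicoherent :=
    Scheme.Modules.isQuasicoherent_restrictFunctor _ _
  have hpush : ((Scheme.Modules.pushforward U.ι).obj
      ((Scheme.Modules.restrictFunctor U.ι).obj F)).IsQuasicoherent :=
    isQuasicoherent_pushforward _ U.ι
  have hker : (kernel η).IsQuasicoherent := isQuasicoherent_kernel η inferInstance hpush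
  let K : Subobject F := kernelSubobject η
  let hKiso : (K : X.Modules) ≅ kernel η := kernelSubobjectIso η
  haveI hKq : (K : X.Modules).IsQuasicoherent := isQuasicoherent_of_iso hKiso.symm hker
  have hoff : IsSupportedOff U K.arrow := by
    intro V m
    refine Iff.trans ?_ (isSupportedOff_kernel_unit U F V m)
    constructor
    · rintro ⟨k, rfl⟩
      exact ⟨hKiso.hom.app V k, congrArg (fun g => g.app V k) (kernelSubobject_arrow η)⟩
    · rintro ⟨k, rfl⟩
      exact ⟨hKiso.inv.app V k, congrArg (fun g => g.app V k) (kernelSubobject_arrow' η)⟩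
  -- facts about `U`
  have hUmin : ∀ x, Curv2.IsAssPoint F x → (∀ y, Curv2.IsAssPoint F y → y ⤳ x → y = x) →
      x ∈ U := fun x _ hmin => not_mem_closure_embeddedPts F hF hmin
  have hUass : ∀ x ∈ U, Curv2.IsAssPoint F x → ∀ y, Curv2.IsAssPoint F y → y ⤳ x → y = x :=
    fun x hxU hx => minimal_of_not_mem_embeddedPts F hx (fun hxE => hxU (subset_closure hxE))
  have hclF : IsClosed (CohB1.support F) :=
    Groth.Agent.Lib.Helper1.isClosed_support_of_isFiniteType F hF.2
  have hgen : ∀ z ∈ CohB1.support F, ∃ x, x ∈ U ∧ x ∈ CohB1.support F ∧ x ⤳ z := by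
    intro z hz
    obtain ⟨x, hxass, hxmin, hxz⟩ := exists_minimal_ass_specializes F hF hz
    exact ⟨x, hUmin x hxass hxmin, mem_support_of_isAssPoint F hxass, hxz⟩
  set π := cokernel.π K.arrow with hπ
  haveI hπepi : Epi π := inferInstanceAs (Epi (cokernel.π K.arrow))
  haveI hQq : (cokernel K.arrow).IsQuasicoherent :=
    isQuasicoherent_cokernel _ inferInstance inferInstance
  have hQft : SheafOfModules.IsFiniteType (R := X.ringCatSheaf) (cokernel K.arrow) :=
    @isFiniteType_of_epi X F (cokernel K.arrow) π hπepi hF.2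
  refine ⟨K, ⟨hKq, isFiniteType_of_mono K.arrow hF.2⟩, ?_, ?_, ?_, ?_, U, ?_, ?_, ?_⟩
  · -- the support of `K` is nowhere dense in the support of `F`
    intro U' hU'
    by_contra hne
    obtain ⟨z, hzU', hzF⟩ := Set.nonempty_iff_ne_empty.mpr hne
    obtain ⟨x, hxU, hxF, hxz⟩ := hgen z hzF
    have hxU' : x ∈ U' := hxz.mem_open U'.2 hzU'
    exact hoff.support_subset (hU' ⟨hxU', hxF⟩) hxU
  · -- maximality
    intro K' hK' hnd
    haveI : (K' : X.Modules).IsQuasicoherent := hK'.1
    have hclK' : IsClosed (CohB1.support (K' : X.Modules)) :=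
      Groth.Agent.Lib.Helper1.isClosed_support_of_isFiniteType _ hK'.2
    have hstalk : ∀ x ∈ U, Subsingleton ((K' : X.Modules).presheaf.stalk x) := by
      intro x hxU
      by_contra hx
      obtain ⟨x₀, hx₀ass, -, hx₀x⟩ := exists_minimal_ass_specializes (K' : X.Modules) hK' hx
      have hx₀U : x₀ ∈ U := hx₀x.mem_open U.2 hxU
      have hx₀F : Curv2.IsAssPoint F x₀ := isAssPoint_of_mono K'.arrow hx₀ass
      obtain ⟨V, hx₀V, hV⟩ := exists_open_inter_support_subset F hF hx₀F (hUass x₀ hx₀U hx₀F)
      have h1 : (V : Set X) ∩ CohB1.support F ⊆ CohB1.support (K' : X.Modules) := by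
        intro z hz
        exact (hV z hz).mem_closed hclK' (mem_support_of_isAssPoint _ hx₀ass)
      have h2 := hnd V h1
      have h3 : x₀ ∈ (V : Set X) ∩ CohB1.support F := ⟨hx₀V, mem_support_of_isAssPoint F hx₀F⟩
      rw [h2] at h3
      exact h3
    apply le_kernelSubobject
    refine Scheme.Modules.hom_ext _ 0 (fun V => ?_)
    ext t
    change η.app V (K'.arrow.app V t) = 0
    have h2 : η.app V (K'.arrow.app V t) =
        F.presheaf.map (homOfLE (U.ι.image_preimage_le V)).op (K'.arrow.app V t) := rfl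
    rw [h2, ← app_map]
    have h3 : (K' : X.Modules).presheaf.map (homOfLE (U.ι.image_preimage_le V)).op t = 0 := by
      refine section_ext_germ _ _ _ _ fun y hy => ?_
      have hyU : y ∈ U := by
        obtain ⟨u, -, rfl⟩ := hy
        exact u.2
      haveI := hstalk y hyU
      exact Subsingleton.elim _ _
    rw [h3, map_zero]
    rfl
  · -- supports
    apply Set.Subset.antisymm (support_subset_of_epi π)
    intro z hz
    obtain ⟨x, hxU, hxF, hxz⟩ := hgen z hz
    have hclQ : IsClosed (CohB1.support (cokernel K.arrow)) :=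
      Groth.Agent.Lib.Helper1.isClosed_support_of_isFiniteType _ hQft
    exact hxz.mem_closed hclQ ((hoff.mem_support_cokernel_iff hxU).mpr hxF)
  · -- no embedded points
    intro x hx y hy hyx
    have hxU : x ∈ U := hoff.ass_cokernel_subset hx
    have hyU : y ∈ U := hoff.ass_cokernel_subset hy
    exact hUass x hxU ((hoff.isAssPoint_cokernel_iff hxU).mp hx) y
      ((hoff.isAssPoint_cokernel_iff hyU).mp hy) hyx
  · -- density of `U`
    rw [dense_iff_inter_open]
    intro V hV hVne
    by_cases hVF : (V ∩ CohB1.support F).Nonempty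
    · obtain ⟨z, hzV, hzF⟩ := hVF
      obtain ⟨x, hxU, -, hxz⟩ := hgen z hzF
      exact ⟨x, hxz.mem_open hV hzV, hxU⟩
    · obtain ⟨v, hv⟩ := hVne
      refine ⟨v, hv, fun hvE => hVF ⟨v, hv, ?_⟩⟩
      have hEF : closure (embeddedPts F) ⊆ CohB1.support F :=
        closure_minimal (fun x hx => mem_support_of_isAssPoint F hx.1) hclF
      exact hEF hvE
  · intro z hz
    obtain ⟨x, hxU, hxF, hxz⟩ := hgen z hz
    have h1 : z ∈ closure ({x} : Set X) := specializes_iff_mem_closure.mp hxz
    exact closure_mono (Set.singleton_subset_iff.mpr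
      (show x ∈ (U : Set X) ∩ CohB1.support F from ⟨hxU, hxF⟩)) h1
  · -- the quotient map is an isomorphism over `U`
    haveI : Epi ((Scheme.Modules.restrictFunctor U.ι).map π) :=
      (Scheme.Modules.restrictFunctor U.ι).map_epi π
    haveI : Mono ((Scheme.Modules.restrictFunctor U.ι).map π) := by
      refine mono_of_app_injective _ fun W => ?_
      have hle : U.ι ''ᵁ W ≤ U := by
        rintro _ ⟨u, -, rfl⟩
        exact u.2
      exact hoff.cokernel_π_app_injective hle
    exact isIso_of_mono_of_epi _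

end Groth.Agent.Lib.Helper45.NowhereDense
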