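import Mathlib

/-!
# Direct summands of finite free sheaves of modules on a site with a terminal object (helper45)

For a sheaf of rings `R` on a small site `(C, J)` with a terminal object `T` and `A = R(T)`:
evaluation at `T` is fully faithful on direct summands of finite free `R`-modules, takes values in
finite projective `A`-modules, and every finite projective `A`-module arises.
-/

set_option autoImplicit false
set_option linter.style.haveILetI false
universe u

open CategoryTheory CategoryTheory.Limits Opposite

namespace Groth.Agent.Lib.Helper45.SummandFree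

variable {C : Type u} [SmallCategory C] {J : GrothendieckTopology C} {R : Sheaf J RingCat.{u}}
  [HasSheafify J AddCommGrpCat.{u}] [J.WEqualsLocallyBijective AddCommGrpCat.{u}]
variable {T : C} (hT : IsTerminal T)

/-- Sections of a sheaf of modules are its values at the terminal object. -/
noncomputable def sectionsEquiv (M : SheafOfModules.{u} R) : M.sections ≃ M.val.obj (op T) where
  toFun s := s.val (op T)
  invFun m := PresheafOfModules.sectionsMk (fun X => M.val.map (hT.from X.unop).op m) (by
    intro X Y f
    have h : (hT.from X.unop).op ≫ f = (hT.from Y.unop).op :=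
      Quiver.Hom.unop_inj (hT.hom_ext _ _)
    rw [← PresheafOfModules.map_comp_apply, h])
  left_inv s := by
    ext X
    exact PresheafOfModules.sections_property s (hT.from X.unop).op
  right_inv m := by
    change M.val.map (hT.from T).op m = m
    rw [hT.hom_ext (hT.from T) (𝟙 T), op_id, PresheafOfModules.map_id]
    rfl

/-- evaluation at `T` of morphisms, as an additive map into linear maps -/
noncomputable def appT (M N : SheafOfModules.{u} R) (T : C) :
    (M ⟶ N) →+ (M.val.obj (op T) →ₗ[R.obj.obj (op T)] N.val.obj (op T)) where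
  toFun φ := (φ.val.app (op T)).hom
  map_zero' := rfl
  map_add' _ _ := rfl

@[simp] theorem appT_apply {M N : SheafOfModules.{u} R} (φ : M ⟶ N) (m : M.val.obj (op T)) :
    appT M N T φ m = φ.val.app (op T) m := rfl

theorem appT_comp {M N P : SheafOfModules.{u} R} (φ : M ⟶ N) (ψ : N ⟶ P) :
    appT M P T (φ ≫ ψ) = (appT N P T ψ).comp (appT M N T φ) := rfl

theorem appT_id (M : SheafOfModules.{u} R) : appT M M T (𝟙 M) = LinearMap.id := rfl

variable (R) in
/-- the free module of rank `n` -/
noncomputable abbrev F (n : ℕ) : SheafOfModules.{u} R := SheafOfModules.free (ULift.{u} (Fin n))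

variable (R T) in
/-- the `i`-th basis element of `R^n(T)` -/
noncomputable def e (n : ℕ) (i : Fin n) : (F R n).val.obj (op T) :=
  (SheafOfModules.ιFree (R := R) (ULift.up i : ULift.{u} (Fin n))).val.app (op T)
    (1 : R.obj.obj (op T))

/-- morphisms out of `R^n` are `n`-tuples of elements of `M(T)` -/
noncomputable def homFreeEquiv (n : ℕ) (M : SheafOfModules.{u} R) :
    (F R n ⟶ M) ≃ (Fin n → M.val.obj (op T)) :=
  (M.freeHomEquiv).trans (Equiv.ulift.arrowCongr (sectionsEquiv hT M))

theorem homFreeEquiv_apply (n : ℕ) (M : SheafOfModules.{u} R) (φ : F R n ⟶ M) (i : Fin n) :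
    homFreeEquiv hT n M φ i = φ.val.app (op T) (e R T n i) := rfl

open Classical in
variable (R) in
/-- the `i`-th projection `R^n → R` -/
noncomputable def π (n : ℕ) (i : Fin n) : F R n ⟶ SheafOfModules.unit R :=
  Cofan.IsColimit.desc (SheafOfModules.isColimitFreeCofan (R := R) (ULift.{u} (Fin n)))
    (fun j : ULift.{u} (Fin n) => if j = ULift.up i then 𝟙 _ else 0)

open Classical in
theorem ι_π (n : ℕ) (i j : Fin n) :
    SheafOfModules.ιFree (R := R) (ULift.up j : ULift.{u} (Fin n)) ≫ π R n i =
      if j = i then 𝟙 _ else 0 := by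
  have hfac := Cofan.IsColimit.fac (SheafOfModules.isColimitFreeCofan (R := R) (ULift.{u} (Fin n)))
    (fun j : ULift.{u} (Fin n) => if j = ULift.up i then 𝟙 (SheafOfModules.unit R) else 0)
    (ULift.up j)
  refine (show _ = _ from hfac).trans ?_
  by_cases h : j = i
  · subst h
    simp
  · rw [if_neg h, if_neg]
    intro h'
    exact h (ULift.up_injective h')

theorem sum_π_ι (n : ℕ) :
    ∑ i : Fin n, π R n i ≫ SheafOfModules.ιFree (R := R) (ULift.up i : ULift.{u} (Fin n)) =
      𝟙 (F R n) := by
  apply Cofan.IsColimit.hom_ext (SheafOfModules.isColimitFreeCofan (R := R) (ULift.{u} (Fin n)))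
  rintro ⟨j⟩
  change SheafOfModules.ιFree (R := R) (ULift.up j : ULift.{u} (Fin n)) ≫ _ =
    SheafOfModules.ιFree (R := R) (ULift.up j : ULift.{u} (Fin n)) ≫ _
  refine (Preadditive.comp_sum Finset.univ
    (SheafOfModules.ιFree (R := R) (ULift.up j : ULift.{u} (Fin n)))
    (fun i : Fin n => π R n i ≫
      SheafOfModules.ιFree (R := R) (ULift.up i : ULift.{u} (Fin n)))).trans ?_
  have : ∀ i : Fin n, SheafOfModules.ιFree (R := R) (ULift.up j : ULift.{u} (Fin n)) ≫
      π R n i ≫ SheafOfModules.ιFree (R := R) (ULift.up i : ULift.{u} (Fin n)) =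
      if j = i then SheafOfModules.ιFree (R := R) (ULift.up i : ULift.{u} (Fin n)) else 0 := by
    intro i
    rw [← Category.assoc, ι_π]
    by_cases hji : j = i
    · rw [if_pos hji, if_pos hji, Category.id_comp]
    · rw [if_neg hji, if_neg hji, zero_comp]
  simp only [this]
  rw [Finset.sum_ite_eq Finset.univ j, if_pos (Finset.mem_univ j)]
  exact (Category.comp_id _).symm

/-- `R^n(T) ≃ R(T)^n` -/
noncomputable def evalEquiv (n : ℕ) :
    (F R n).val.obj (op T) ≃ₗ[R.obj.obj (op T)] (Fin n → R.obj.obj (op T)) where
  toFun s i := appT (F R n) (SheafOfModules.unit R) T (π R n i) s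
  invFun a := ∑ i, appT (SheafOfModules.unit R) (F R n) T
    (SheafOfModules.ιFree (ULift.up i : ULift.{u} (Fin n))) (a i)
  map_add' s t := funext fun i => map_add (appT (F R n) (SheafOfModules.unit R) T (π R n i)) s t
  map_smul' r s := funext fun i => map_smul (appT (F R n) (SheafOfModules.unit R) T (π R n i)) r s
  left_inv s := by
    have h := congrArg (fun g => appT (F R n) (F R n) T g s) (sum_π_ι (R := R) n)
    simp only [map_sum, LinearMap.sum_apply, appT_comp, LinearMap.comp_apply, appT_id,
      LinearMap.id_apply] at h
    exact h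
  right_inv a := by
    funext i
    change appT (F R n) (SheafOfModules.unit R) T (π R n i) (∑ j, appT (SheafOfModules.unit R) (F R n) T
      (SheafOfModules.ιFree (ULift.up j : ULift.{u} (Fin n))) (a j)) = a i
    rw [map_sum]
    have : ∀ j : Fin n, appT (F R n) (SheafOfModules.unit R) T (π R n i)
        (appT (SheafOfModules.unit R) (F R n) T
          (SheafOfModules.ιFree (ULift.up j : ULift.{u} (Fin n))) (a j)) =
        if j = i then a j else 0 := by
      intro j
      rw [← LinearMap.comp_apply, ← appT_comp, ι_π]
      by_cases hji : j = i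
      · rw [if_pos hji, if_pos hji, appT_id]
        rfl
      · rw [if_neg hji, if_neg hji, map_zero]
        rfl
    simp only [this]
    exact (Finset.sum_ite_eq' Finset.univ i a).trans (if_pos (Finset.mem_univ i))

theorem evalEquiv_symm_single (n : ℕ) (i : Fin n) :
    (evalEquiv (R := R) (T := T) n).symm (Pi.single i 1) = e R T n i := by
  change ∑ j, appT (SheafOfModules.unit R) (F R n) T
    (SheafOfModules.ιFree (ULift.up j : ULift.{u} (Fin n)))
      ((Pi.single i (1 : R.obj.obj (op T)) : Fin n → R.obj.obj (op T)) j) = _
  rw [Finset.sum_eq_single i]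
  · rw [Pi.single_eq_same]
    rfl
  · intro j _ hj
    rw [Pi.single_eq_of_ne hj]
    exact map_zero _
  · intro h
    exact absurd (Finset.mem_univ i) h

/-- the basis `e_i` of `R^n(T)` -/
noncomputable def basisT (n : ℕ) : Module.Basis (Fin n) (R.obj.obj (op T)) ((F R n).val.obj (op T)) :=
  (Pi.basisFun (R.obj.obj (op T)) (Fin n)).map (evalEquiv (R := R) (T := T) n).symm

theorem basisT_apply (n : ℕ) (i : Fin n) : basisT (R := R) (T := T) n i = e R T n i := by
  unfold basisT
  rw [Module.Basis.map_apply, Pi.basisFun_apply]
  exact evalEquiv_symm_single n i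

include hT in
/-- **B1**: evaluation at `T` is bijective on morphisms out of a finite free module. -/
theorem appT_bijective_of_free (n : ℕ) (M : SheafOfModules.{u} R) :
    Function.Bijective (appT (F R n) M T) := by
  let restr : ((F R n).val.obj (op T) →ₗ[R.obj.obj (op T)] M.val.obj (op T)) →
      (Fin n → M.val.obj (op T)) := fun g i => g (e R T n i)
  have hrestr : Function.Bijective restr := by
    constructor
    · intro g g' h
      apply (basisT (R := R) (T := T) n).ext
      intro i
      rw [basisT_apply]
      exact congrFun h i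
    · intro m
      refine ⟨(basisT (R := R) (T := T) n).constr ℕ m, ?_⟩
      funext i
      change (basisT (R := R) (T := T) n).constr ℕ m (e R T n i) = m i
      rw [← basisT_apply, Module.Basis.constr_basis]
  have hcomp : restr ∘ (appT (F R n) M T) = homFreeEquiv hT n M := rfl
  have hb : Function.Bijective (restr ∘ (appT (F R n) M T)) := by
    rw [hcomp]
    exact (homFreeEquiv hT n M).bijective
  exact (Function.Bijective.of_comp_iff' hrestr _).mp hb

include hT in
/-- **B2**: evaluation at `T` is bijective on morphisms out of a direct summand of a finite free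
module. -/
theorem appT_bijective_of_summand {n : ℕ} {E : SheafOfModules.{u} R} (i : E ⟶ F R n)
    (p : F R n ⟶ E) (h : i ≫ p = 𝟙 E) (M : SheafOfModules.{u} R) :
    Function.Bijective (appT E M T) := by
  constructor
  · intro φ ψ hφψ
    have h1 : appT (F R n) M T (p ≫ φ) = appT (F R n) M T (p ≫ ψ) := by
      rw [appT_comp, appT_comp, hφψ]
    have h2 := (appT_bijective_of_free hT n M).1 h1
    calc φ = (i ≫ p) ≫ φ := by rw [h, Category.id_comp]
      _ = i ≫ (p ≫ ψ) := by rw [Category.assoc, h2]
      _ = ψ := by rw [← Category.assoc, h, Category.id_comp]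
  · intro g
    obtain ⟨ψ, hψ⟩ := (appT_bijective_of_free hT n M).2 (g.comp (appT (F R n) E T p))
    refine ⟨i ≫ ψ, ?_⟩
    rw [appT_comp, hψ, LinearMap.comp_assoc, ← appT_comp, h, appT_id, LinearMap.comp_id]

/-- **C**: the value at `T` of a direct summand of a finite free module is finite projective. -/
theorem finite_projective_of_summand {n : ℕ} {E : SheafOfModules.{u} R} (i : E ⟶ F R n)
    (p : F R n ⟶ E) (h : i ≫ p = 𝟙 E) :
    Module.Finite (R.obj.obj (op T)) (E.val.obj (op T)) ∧
      Module.Projective (R.obj.obj (op T)) (E.val.obj (op T)) := by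
  have hid : (appT (F R n) E T p).comp (appT E (F R n) T i) = LinearMap.id := by
    rw [← appT_comp, h, appT_id]
  have hsurj : Function.Surjective ((appT (F R n) E T p).comp
      (evalEquiv (R := R) (T := T) n).symm.toLinearMap) := by
    intro x
    refine ⟨evalEquiv (R := R) (T := T) n (appT E (F R n) T i x), ?_⟩
    rw [LinearMap.comp_apply, LinearEquiv.coe_coe, LinearEquiv.symm_apply_apply]
    exact LinearMap.congr_fun hid x
  refine ⟨Module.Finite.of_surjective _ hsurj, ?_⟩
  refine Module.Projective.of_split
    ((evalEquiv (R := R) (T := T) n).toLinearMap.comp (appT E (F R n) T i))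
    ((appT (F R n) E T p).comp (evalEquiv (R := R) (T := T) n).symm.toLinearMap) ?_
  ext x
  simp only [LinearMap.comp_apply, LinearEquiv.coe_coe, LinearEquiv.symm_apply_apply,
    LinearMap.id_apply]
  exact LinearMap.congr_fun hid x

include hT in
/-- **D**: every finite projective `R(T)`-module is the value at `T` of a direct summand of a
finite free module. -/
theorem exists_summand_of_finite_projective (P : Type u) [AddCommGroup P]
    [Module (R.obj.obj (op T)) P] [Module.Finite (R.obj.obj (op T)) P]
    [Module.Projective (R.obj.obj (op T)) P] :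
    ∃ (n : ℕ) (E : SheafOfModules.{u} R) (i : E ⟶ F R n) (p : F R n ⟶ E), i ≫ p = 𝟙 E ∧
      Nonempty (E.val.obj (op T) ≃ₗ[R.obj.obj (op T)] P) := by
  obtain ⟨n, f, hf⟩ := Module.Finite.exists_fin' (R.obj.obj (op T)) P
  obtain ⟨s, hs⟩ := Module.projective_lifting_property f LinearMap.id hf
  let β := evalEquiv (R := R) (T := T) n
  let e' : (F R n).val.obj (op T) →ₗ[R.obj.obj (op T)] (F R n).val.obj (op T) :=
    β.symm.toLinearMap.comp (s.comp (f.comp β.toLinearMap))
  obtain ⟨ε, hε⟩ := (appT_bijective_of_free hT n (F R n)).2 e'
  have hfs : ∀ y, f (s y) = y := fun y => LinearMap.congr_fun hs y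
  have he'2 : e'.comp e' = e' := by
    ext x
    simp only [e', LinearMap.comp_apply, LinearEquiv.coe_coe, LinearEquiv.apply_symm_apply, hfs]
  have hεε : ε ≫ ε = ε := by
    apply (appT_bijective_of_free hT n (F R n)).1
    rw [appT_comp, hε, he'2]
  obtain ⟨E, i, p, hip, hpi⟩ := IsIdempotentComplete.idempotents_split (F R n) ε hεε
  refine ⟨n, E, i, p, hip, ⟨?_⟩⟩
  have h1 : (appT (F R n) E T p).comp (appT E (F R n) T i) = LinearMap.id := by
    rw [← appT_comp, hip, appT_id]
  have h2 : (appT E (F R n) T i).comp (appT (F R n) E T p) = e' := by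
    rw [← appT_comp, hpi, hε]
  exact
    { toFun := fun x => f (β (appT E (F R n) T i x))
      invFun := fun y => appT (F R n) E T p (β.symm (s y))
      map_add' := fun x y => by rw [map_add, map_add, map_add]
      map_smul' := fun r x => by rw [map_smul, map_smul, map_smul]; rfl
      left_inv := fun x => by
        change appT (F R n) E T p (β.symm (s (f (β (appT E (F R n) T i x))))) = x
        have h3 : β.symm (s (f (β (appT E (F R n) T i x)))) = e' (appT E (F R n) T i x) := rfl
        rw [h3, ← h2, LinearMap.comp_apply]
        have h4 := LinearMap.congr_fun h1 x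
        rw [LinearMap.comp_apply, LinearMap.id_apply] at h4
        rw [h4, h4]
      right_inv := fun y => by
        change f (β (appT E (F R n) T i (appT (F R n) E T p (β.symm (s y))))) = y
        have h3 := LinearMap.congr_fun h2 (β.symm (s y))
        rw [LinearMap.comp_apply] at h3
        rw [h3]
        simp only [e', LinearMap.comp_apply, LinearEquiv.coe_coe, LinearEquiv.apply_symm_apply,
          hfs] }

end Groth.Agent.Lib.Helper45.SummandFree
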