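import Mathlib
import Groth.Prelude.Def_RefHull
import Groth.Agent.Lib.Helper45.RefHullBasic

/-!
# Stalks of the sheaf Hom `RefHull.homSh F G`

Shared library of helper45 (namespace `Groth.Agent.Lib.Helper45.RefHullHom`).

* `exists_germ_eq_fin`, `exists_map_eq_zero_fin`: finitely many germs / vanishing germs on a common
  neighbourhood.
* `evalStalk_injective_of_isFT`: `𝓗om(F, G)_x → Hom(F_x, G_x)` is injective for `F` of finite type.
-/

set_option autoImplicit false
universe u
open CategoryTheory CategoryTheory.Limits AlgebraicGeometry TopologicalSpace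

namespace Groth.Agent.Lib.Helper45.RefHullHom

open Groth.Agent.Lib.Helper45.RefHullBasic

variable {X : Scheme.{u}}

/-- Finitely many elements of a stalk of a module are germs of sections over a common
neighbourhood contained in a given one. -/
theorem exists_germ_eq_fin (G : X.Modules) {ι : Type*} [Finite ι] (x : X) (V₀ : X.Opens)
    (hx : x ∈ V₀) (ν : ι → G.presheaf.stalk x) :
    ∃ (W : X.Opens) (hxW : x ∈ W) (_ : W ⟶ V₀) (s : ι → Γ(G, W)),
      ∀ i, G.presheaf.germ W x hxW (s i) = ν i := by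
  choose W₁ hW₁ s₁ hs₁ using fun i => TopCat.Presheaf.exists_germ_eq G.presheaf (ν i)
  let W : X.Opens := V₀ ⊓ ⨅ i, W₁ i
  have hxW' : x ∈ ⨅ i, W₁ i := by
    have : x ∈ ((⨅ i, W₁ i : X.Opens) : Set X) := by
      rw [Opens.coe_iInf]
      exact Set.mem_iInter.mpr fun i => hW₁ i
    exact this
  have hxW : x ∈ W := ⟨hx, hxW'⟩
  have hle : ∀ i, W ≤ W₁ i := fun i => inf_le_right.trans (iInf_le _ i)
  refine ⟨W, hxW, homOfLE inf_le_left, fun i => G.presheaf.map (homOfLE (hle i)).op (s₁ i),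
    fun i => ?_⟩
  rw [TopCat.Presheaf.germ_res_apply]
  exact hs₁ i

/-- Finitely many elements of a stalk of the structure sheaf are germs of sections over a common
neighbourhood contained in a given one. -/
theorem exists_germ_eq_fin' {ι : Type*} [Finite ι] (x : X) (V₀ : X.Opens)
    (hx : x ∈ V₀) (ν : ι → X.presheaf.stalk x) :
    ∃ (W : X.Opens) (hxW : x ∈ W) (_ : W ⟶ V₀) (s : ι → Γ(X, W)),
      ∀ i, X.presheaf.germ W x hxW (s i) = ν i := by
  choose W₁ hW₁ s₁ hs₁ using fun i => TopCat.Presheaf.exists_germ_eq X.presheaf (ν i)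
  let W : X.Opens := V₀ ⊓ ⨅ i, W₁ i
  have hxW' : x ∈ ⨅ i, W₁ i := by
    have : x ∈ ((⨅ i, W₁ i : X.Opens) : Set X) := by
      rw [Opens.coe_iInf]
      exact Set.mem_iInter.mpr fun i => hW₁ i
    exact this
  have hxW : x ∈ W := ⟨hx, hxW'⟩
  have hle : ∀ i, W ≤ W₁ i := fun i => inf_le_right.trans (iInf_le _ i)
  refine ⟨W, hxW, homOfLE inf_le_left, fun i => X.presheaf.map (homOfLE (hle i)).op (s₁ i),
    fun i => ?_⟩
  rw [TopCat.Presheaf.germ_res_apply]
  exact hs₁ i

/-- Finitely many sections with vanishing germs at `x` vanish on a common neighbourhood. -/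
theorem exists_map_eq_zero_fin (G : X.Modules) {ι : Type*} [Finite ι] (x : X)
    (V : ι → X.Opens) (hx : ∀ i, x ∈ V i) (s : ∀ i, Γ(G, V i))
    (hs : ∀ i, G.presheaf.germ (V i) x (hx i) (s i) = 0) :
    ∃ (W : X.Opens) (_ : x ∈ W) (j : ∀ i, W ⟶ V i), ∀ i, G.presheaf.map (j i).op (s i) = 0 := by
  have h1 : ∀ i, ∃ (W : X.Opens) (_ : x ∈ W) (j : W ⟶ V i), G.presheaf.map j.op (s i) = 0 := by
    intro i
    obtain ⟨W, hxW, iU, iV, e⟩ := TopCat.Presheaf.germ_eq G.presheaf x (hx i) (hx i) (s i) 0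
      (by rw [hs i, map_zero])
    rw [map_zero] at e
    exact ⟨W, hxW, iU, e⟩
  choose W₁ hW₁ j₁ hj₁ using h1
  let W : X.Opens := ⨅ i, W₁ i
  have hxW : x ∈ W := by
    have : x ∈ ((⨅ i, W₁ i : X.Opens) : Set X) := by
      rw [Opens.coe_iInf]
      exact Set.mem_iInter.mpr fun i => hW₁ i
    exact this
  refine ⟨W, hxW, fun i => homOfLE (iInf_le _ i) ≫ j₁ i, fun i => ?_⟩
  rw [op_comp, G.presheaf.map_comp, ConcreteCategory.comp_apply, hj₁ i, map_zero]

/-- The canonical map `𝓗om(F, G)_x → Hom(F_x, G_x)` is injective when `F` is of finite type. -/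
theorem evalStalk_injective_of_isFT (F G : X.Modules) (hF : CohB1.IsFT F) (x : X) :
    Function.Injective (RefHull.evalStalk F G x) := by
  rw [injective_iff_map_eq_zero]
  intro θ hθ
  obtain ⟨U, hxU, g, rfl⟩ := TopCat.Presheaf.exists_germ_eq (RefHull.homSh F G).presheaf θ
  rw [RefHull.evalStalk_germ] at hθ
  obtain ⟨V, hxV, n, t, ht⟩ := exists_local_generators F hF x
  let V' : X.Opens := U ⊓ V
  have hxV' : x ∈ V' := ⟨hxU, hxV⟩
  let t' : Fin n → Γ(F, V') := fun i => F.presheaf.map (homOfLE inf_le_right).op (t i)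
  choose W hxW j nn hnn using fun i =>
    RefHull.isLocSect_of_mem g V' (homOfLE inf_le_left) (t' i) ⟨x, hxV'⟩
  have h0 : ∀ i, G.presheaf.germ (W i) x (hxW i) (nn i) = 0 := by
    intro i
    rw [← hnn i ⟨x, hxW i⟩]
    have : g.1 ⟨x, hxU⟩ = 0 := hθ
    change g.1 ⟨x, hxU⟩ _ = 0
    rw [this]
    rfl
  obtain ⟨W₀, hxW₀, j₀, hj₀⟩ := exists_map_eq_zero_fin G x W hxW nn h0
  let W₁ : X.Opens := W₀ ⊓ V'
  have hxW₁ : x ∈ W₁ := ⟨hxW₀, hxV'⟩
  have hW₁U : W₁ ≤ U := inf_le_right.trans inf_le_left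
  have hW₁V : W₁ ≤ V := inf_le_right.trans inf_le_right
  have hres : (RefHull.homSh F G).presheaf.map (homOfLE hW₁U).op g = 0 := by
    refine Subtype.ext (funext fun y => ?_)
    change g.1 ⟨y.1, hW₁U y.2⟩ = 0
    refine LinearMap.ext_on_range (ht y.1 (hW₁V y.2)) fun i => ?_
    have hyW₀ : y.1 ∈ W₀ := y.2.1
    have hyV' : y.1 ∈ V' := y.2.2
    have e1 : F.presheaf.germ V y.1 (hW₁V y.2) (t i) = F.presheaf.germ V' y.1 hyV' (t' i) :=
      (TopCat.Presheaf.germ_res_apply F.presheaf (homOfLE inf_le_right) y.1 hyV' (t i)).symm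
    have e2 := hnn i ⟨y.1, (j₀ i).le hyW₀⟩
    have e3 : G.presheaf.germ (W i) y.1 ((j₀ i).le hyW₀) (nn i) =
        G.presheaf.germ W₀ y.1 hyW₀ (G.presheaf.map (j₀ i).op (nn i)) :=
      (TopCat.Presheaf.germ_res_apply G.presheaf (j₀ i) y.1 hyW₀ (nn i)).symm
    rw [e1]
    refine e2.trans ?_
    rw [e3, hj₀ i, map_zero]
    rfl
  rw [← TopCat.Presheaf.germ_res_apply (RefHull.homSh F G).presheaf (homOfLE hW₁U) x hxW₁ g,
    hres, map_zero]

/-- A linear map out of a module given by generators and relations. -/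
theorem exists_linearMap_of_relations {R M N : Type*} [CommRing R] [AddCommGroup M] [Module R M]
    [AddCommGroup N] [Module R N] {n m : ℕ} (v : Fin n → M) (w : Fin n → N)
    (ρ : Fin m → Fin n → R) (hv : Submodule.span R (Set.range v) = ⊤)
    (hker : ∀ c : Fin n → R, ∑ i, c i • v i = 0 → c ∈ Submodule.span R (Set.range ρ))
    (hw : ∀ j, ∑ i, ρ j i • w i = 0) :
    ∃ g : M →ₗ[R] N, ∀ i, g (v i) = w i := by
  let p : (Fin n → R) →ₗ[R] M := Fintype.linearCombination R v
  let q : (Fin n → R) →ₗ[R] N := Fintype.linearCombination R w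
  have hp : Function.Surjective p := by
    rw [← LinearMap.range_eq_top, Fintype.range_linearCombination, hv]
  have hle : LinearMap.ker p ≤ LinearMap.ker q := by
    intro c hc
    have hc' : ∑ i, c i • v i = 0 := by
      have := LinearMap.mem_ker.mp hc
      rwa [Fintype.linearCombination_apply] at this
    have h1 := hker c hc'
    have h2 : Submodule.span R (Set.range ρ) ≤ LinearMap.ker q := by
      rw [Submodule.span_le]
      rintro _ ⟨j, rfl⟩
      change q (ρ j) = 0
      rw [Fintype.linearCombination_apply]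
      exact hw j
    exact h2 h1
  refine ⟨(LinearMap.ker p).liftQ q hle ∘ₗ (p.quotKerEquivOfSurjective hp).symm.toLinearMap,
    fun i => ?_⟩
  have h3 : v i = p (Pi.single i 1) := by
    rw [Fintype.linearCombination_apply_single, one_smul]
  have h4 : (p.quotKerEquivOfSurjective hp).symm (p (Pi.single i 1)) =
      Submodule.Quotient.mk (Pi.single i 1) := by
    rw [LinearEquiv.symm_apply_eq]
    rfl
  rw [h3, LinearMap.comp_apply, LinearEquiv.coe_coe, h4, Submodule.liftQ_apply,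
    Fintype.linearCombination_apply_single, one_smul]

theorem germ_sum_smul (P : X.Modules) {n : ℕ} {W : X.Opens} (a : Fin n → Γ(X, W))
    (s : Fin n → Γ(P, W)) (y : X) (hy : y ∈ W) :
    P.presheaf.germ W y hy (∑ i, a i • s i) =
      ∑ i, X.presheaf.germ W y hy (a i) • P.presheaf.germ W y hy (s i) := by
  rw [map_sum]
  exact Finset.sum_congr rfl fun i _ => Mero.germ_smul P W y hy (a i) (s i)

/-- Locally every section of `F` is a combination of sections whose germs span the stalks. -/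
theorem exists_local_combination_of_span (F : X.Modules) {n : ℕ} {V : X.Opens} (t : Fin n → Γ(F, V))
    {V' : X.Opens} (i : V' ⟶ V) (mm : Γ(F, V')) (z : X) (hz : z ∈ V')
    (hspan : Submodule.span (X.presheaf.stalk z)
      (Set.range fun k => F.presheaf.germ V z (i.le hz) (t k)) = ⊤) :
    ∃ (W' : X.Opens) (_ : z ∈ W') (j : W' ⟶ V') (a : Fin n → Γ(X, W')),
      F.presheaf.map j.op mm = ∑ k, a k • F.presheaf.map (j ≫ i).op (t k) := by
  have hmem : F.presheaf.germ V' z hz mm ∈ Submodule.span (X.presheaf.stalk z)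
      (Set.range fun k => F.presheaf.germ V z (i.le hz) (t k)) := by
    rw [hspan]
    trivial
  obtain ⟨c, hc⟩ := (Submodule.mem_span_range_iff_exists_fun _).mp hmem
  obtain ⟨W₁, hzW₁, j₁, a₁, ha₁⟩ := exists_germ_eq_fin' z V' hz c
  let s : Γ(F, W₁) := ∑ k, a₁ k • F.presheaf.map (j₁ ≫ i).op (t k)
  have hs : F.presheaf.germ W₁ z hzW₁ s = F.presheaf.germ W₁ z hzW₁ (F.presheaf.map j₁.op mm) := by
    rw [germ_sum_smul, TopCat.Presheaf.germ_res_apply, ← hc]
    refine Finset.sum_congr rfl fun k _ => ?_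
    rw [ha₁ k, TopCat.Presheaf.germ_res_apply]
  obtain ⟨W', hzW', iU, iV, e⟩ := TopCat.Presheaf.germ_eq F.presheaf z hzW₁ hzW₁ _ _ hs
  refine ⟨W', hzW', iU ≫ j₁, fun k => X.presheaf.map iU.op (a₁ k), ?_⟩
  have e1 : F.presheaf.map (iU ≫ j₁).op mm = F.presheaf.map iV.op (F.presheaf.map j₁.op mm) := by
    rw [← ConcreteCategory.comp_apply, ← F.presheaf.map_comp]
    rfl
  rw [e1, ← e, map_sum]
  refine Finset.sum_congr rfl fun k _ => ?_
  rw [Scheme.Modules.map_smul]
  congr 1
  rw [← ConcreteCategory.comp_apply, ← F.presheaf.map_comp]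
  rfl

/-- The canonical map `𝓗om(F, G)_x → Hom(F_x, G_x)` is surjective when `F` is finitely
presented. -/
theorem evalStalk_surjective_of_isFP (F G : X.Modules) (hF : CohB1.IsFP F) (x : X) :
    Function.Surjective (RefHull.evalStalk F G x) := by
  intro lam
  obtain ⟨V, hxV, n, m, t, r, hrel, hspan, hker⟩ := exists_local_presentation F hF x
  obtain ⟨W₀, hxW₀, j₀, n₀, hn₀⟩ := exists_germ_eq_fin G x V hxV
    (fun i => lam (F.presheaf.germ V x hxV (t i)))
  let z : Fin m → Γ(G, W₀) := fun j => ∑ i, X.presheaf.map j₀.op (r j i) • n₀ i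
  have hz : ∀ j, G.presheaf.germ W₀ x hxW₀ (z j) = 0 := by
    intro j
    rw [germ_sum_smul]
    have h1 : ∀ i, X.presheaf.germ W₀ x hxW₀ (X.presheaf.map j₀.op (r j i)) •
        G.presheaf.germ W₀ x hxW₀ (n₀ i) =
        lam (X.presheaf.germ V x hxV (r j i) • F.presheaf.germ V x hxV (t i)) := by
      intro i
      rw [hn₀ i, TopCat.Presheaf.germ_res_apply, map_smul]
    rw [Finset.sum_congr rfl fun i _ => h1 i, ← map_sum, ← germ_sum_smul, hrel j, map_zero,
      map_zero]
  obtain ⟨W, hxW, jW, hjW⟩ := exists_map_eq_zero_fin G x (fun _ => W₀) (fun _ => hxW₀) z hz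
  let W₁ : X.Opens := W ⊓ W₀
  have hxW₁ : x ∈ W₁ := ⟨hxW, hxW₀⟩
  let j₁ : W₁ ⟶ W₀ := homOfLE inf_le_right
  have hW₁V : W₁ ≤ V := inf_le_right.trans j₀.le
  let nn : Fin n → Γ(G, W₁) := fun i => G.presheaf.map j₁.op (n₀ i)
  have hnn : ∀ j, ∑ i, X.presheaf.map (homOfLE hW₁V).op (r j i) • nn i = 0 := by
    intro j
    have h1 : ∑ i, X.presheaf.map (homOfLE hW₁V).op (r j i) • nn i =
        G.presheaf.map j₁.op (z j) := by
      rw [map_sum]
      refine Finset.sum_congr rfl fun i _ => ?_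
      rw [Scheme.Modules.map_smul]
      congr 1
      rw [← ConcreteCategory.comp_apply, ← X.presheaf.map_comp]
      rfl
    have h2 : G.presheaf.map j₁.op (z j) =
        G.presheaf.map (homOfLE (inf_le_left : W₁ ≤ W)).op (G.presheaf.map (jW j).op (z j)) := by
      rw [← ConcreteCategory.comp_apply, ← G.presheaf.map_comp]
      rfl
    rw [h1, h2, hjW j, map_zero]
  have key : ∀ y : W₁, ∃ g : RefHull.StalkHom F G y.1,
      ∀ i, g (F.presheaf.germ V y.1 (hW₁V y.2) (t i)) = G.presheaf.germ W₁ y.1 y.2 (nn i) := by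
    intro y
    refine exists_linearMap_of_relations _ _
      (fun j i => X.presheaf.germ V y.1 (hW₁V y.2) (r j i)) (hspan y.1 (hW₁V y.2))
      (hker y.1 (hW₁V y.2)) (fun j => ?_)
    have h1 := congrArg (G.presheaf.germ W₁ y.1 y.2) (hnn j)
    rw [germ_sum_smul, map_zero] at h1
    rw [← h1]
    refine Finset.sum_congr rfl fun i _ => ?_
    rw [TopCat.Presheaf.germ_res_apply X.presheaf (homOfLE hW₁V) y.1 y.2 (r j i)]
  choose g hg using key
  have hloc : RefHull.IsLocSect F G g := by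
    intro V' i mm z'
    have hV'V : V' ≤ V := i.le.trans hW₁V
    obtain ⟨W', hzW', j, a, ha⟩ := exists_local_combination_of_span F t (homOfLE hV'V) mm z'.1 z'.2
      (hspan z'.1 (hV'V z'.2))
    refine ⟨W', hzW', j, ∑ k, a k • G.presheaf.map (j ≫ i).op (nn k), fun y => ?_⟩
    have e1 : F.presheaf.germ V' y.1 (j.le y.2) mm =
        F.presheaf.germ W' y.1 y.2 (F.presheaf.map j.op mm) :=
      (TopCat.Presheaf.germ_res_apply F.presheaf j y.1 y.2 mm).symm
    rw [e1, ha, germ_sum_smul, germ_sum_smul, map_sum]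
    refine Finset.sum_congr rfl fun k _ => ?_
    rw [map_smul, TopCat.Presheaf.germ_res_apply, TopCat.Presheaf.germ_res_apply]
    congr 1
    exact hg ⟨y.1, i.le (j.le y.2)⟩ k
  refine ⟨(RefHull.homSh F G).presheaf.germ W₁ x hxW₁ ⟨g, hloc⟩, ?_⟩
  rw [RefHull.evalStalk_germ]
  refine LinearMap.ext_on_range (hspan x hxV) fun i => ?_
  change g ⟨x, hxW₁⟩ _ = _
  rw [hg ⟨x, hxW₁⟩ i, TopCat.Presheaf.germ_res_apply]
  exact hn₀ i

theorem evalStalk_bijective_of_isFP (F G : X.Modules) (hF : CohB1.IsFP F) (x : X) :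
    Function.Bijective (RefHull.evalStalk F G x) := by
  have hFT : CohB1.IsFT F := by
    have : SheafOfModules.IsFinitePresentation (R := X.ringCatSheaf) F := hF
    infer_instance
  exact ⟨evalStalk_injective_of_isFT F G hFT x, evalStalk_surjective_of_isFP F G hF x⟩

end Groth.Agent.Lib.Helper45.RefHullHom
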