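import Mathlib
import Groth.Prelude.Def_RefHull
import Groth.Agent.Lib.Helper45.RefHullHom
import Groth.Agent.Lib.Helper45.LocalizingOn
import Groth.Agent.Lib.Helper18.LSubExt
import Groth.Agent.Lib.Helper49.PushforwardFP

/-!
# The sheaf Hom `RefHull.homSh F G` of coherent modules is coherent

Shared library of helper45 (namespace `Groth.Agent.Lib.Helper45.RefHullCoh`).

* `IsLocalPres F V t r`: sections `t` of `F` over `V` and relations `r` presenting all the stalks of
  `F` at points of `V`; `exists_isLocalPres` for finitely presented `F`.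
* `exists_section_of_germs`: a family of germs which is locally the family of germs of a section is
  the family of germs of a section.
* `evalSec h m`: the value of a section `h` of `𝓗om(F, G)` at a section `m` of `F`.
* `exists_section_homSh`: sections of `𝓗om(F, G)` from images of the generators satisfying the
  relations; `homSh_ext_of_isLocalPres`.
* `isLocalizingOn_homSh`, `isQuasicoherent_homSh`, `isCoh_homSh`, `isFP_homSh`.
-/

set_option autoImplicit false
universe u
open CategoryTheory CategoryTheory.Limits AlgebraicGeometry TopologicalSpace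

namespace Groth.Agent.Lib.Helper45.RefHullCoh

open Groth.Agent.Lib.Helper45.RefHullBasic Groth.Agent.Lib.Helper45.RefHullHom

variable {X : Scheme.{u}}

/-- Sections `t` of `F` over `V` and relations `r` between them presenting the stalks of `F` at all
points of `V`. -/
structure IsLocalPres (F : X.Modules) (V : X.Opens) {n m : ℕ} (t : Fin n → Γ(F, V))
    (r : Fin m → Fin n → Γ(X, V)) : Prop where
  rel : ∀ j, ∑ i, r j i • t i = 0
  span : ∀ (y : X) (hy : y ∈ V), Submodule.span (X.presheaf.stalk y)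
    (Set.range fun i => F.presheaf.germ V y hy (t i)) = ⊤
  ker : ∀ (y : X) (hy : y ∈ V) (c : Fin n → X.presheaf.stalk y),
    ∑ i, c i • F.presheaf.germ V y hy (t i) = 0 →
    c ∈ Submodule.span (X.presheaf.stalk y)
      (Set.range fun j => fun i => X.presheaf.germ V y hy (r j i))

theorem exists_isLocalPres (F : X.Modules) (hF : CohB1.IsFP F) (x : X) :
    ∃ (V : X.Opens) (_ : x ∈ V) (n m : ℕ) (t : Fin n → Γ(F, V)) (r : Fin m → Fin n → Γ(X, V)),
      IsLocalPres F V t r := by
  obtain ⟨V, hxV, n, m, t, r, h1, h2, h3⟩ := exists_local_presentation F hF x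
  exact ⟨V, hxV, n, m, t, r, ⟨h1, h2, h3⟩⟩

/-- A family of germs which is locally the family of germs of a section is the family of germs of
a section. -/
theorem exists_section_of_germs (G : X.Modules) (W : X.Opens)
    (γ : ∀ y : W, G.presheaf.stalk y.1)
    (h : ∀ x : W, ∃ (W' : X.Opens) (_ : x.1 ∈ W') (j : W' ⟶ W) (n : Γ(G, W')),
      ∀ y : W', G.presheaf.germ W' y.1 y.2 n = γ ⟨y.1, j.le y.2⟩) :
    ∃ s : Γ(G, W), ∀ (y : X) (hy : y ∈ W), G.presheaf.germ W y hy s = γ ⟨y, hy⟩ := by
  choose W' hxW' j n hn using h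
  let 𝒢 : TopCat.Sheaf Ab X := ⟨G.presheaf, G.isSheaf⟩
  have hcompat : TopCat.Presheaf.IsCompatible 𝒢.1 W' n := by
    intro x x'
    refine section_ext_germ G (W' x ⊓ W' x') _ _ (fun y hy => ?_)
    have e1 := TopCat.Presheaf.germ_res_apply G.presheaf (Opens.infLELeft (W' x) (W' x')) y hy (n x)
    have e2 := TopCat.Presheaf.germ_res_apply G.presheaf (Opens.infLERight (W' x) (W' x')) y hy (n x')
    refine e1.trans (Eq.trans ?_ e2.symm)
    rw [hn x ⟨y, hy.1⟩, hn x' ⟨y, hy.2⟩]
  obtain ⟨s, hs, -⟩ := TopCat.Sheaf.existsUnique_gluing' 𝒢 W' W j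
    (fun y hy => Opens.mem_iSup.mpr ⟨⟨y, hy⟩, hxW' ⟨y, hy⟩⟩) n hcompat
  refine ⟨s, fun y hy => ?_⟩
  have e := TopCat.Presheaf.germ_res_apply G.presheaf (j ⟨y, hy⟩) y (hxW' ⟨y, hy⟩) s
  rw [← e]
  have hs' : G.presheaf.map (j ⟨y, hy⟩).op s = n ⟨y, hy⟩ := hs ⟨y, hy⟩
  rw [hs']
  exact hn ⟨y, hy⟩ ⟨y, hxW' ⟨y, hy⟩⟩

section Eval

variable {F G : X.Modules}

theorem exists_evalSec {W : X.Opens} (h : Γ(RefHull.homSh F G, W)) (m : Γ(F, W)) :
    ∃ s : Γ(G, W), ∀ (y : X) (hy : y ∈ W),
      G.presheaf.germ W y hy s = h.1 ⟨y, hy⟩ (F.presheaf.germ W y hy m) := by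
  refine exists_section_of_germs G W (fun y => h.1 y (F.presheaf.germ W y.1 y.2 m)) (fun x => ?_)
  obtain ⟨W', hxW', j, n, hn⟩ := RefHull.isLocSect_of_mem h W (𝟙 W) m x
  exact ⟨W', hxW', j, n, fun y => (hn y).symm⟩

/-- The value of a section of `𝓗om(F, G)` at a section of `F`. -/
noncomputable def evalSec {W : X.Opens} (h : Γ(RefHull.homSh F G, W)) (m : Γ(F, W)) : Γ(G, W) :=
  (exists_evalSec h m).choose

theorem germ_evalSec {W : X.Opens} (h : Γ(RefHull.homSh F G, W)) (m : Γ(F, W)) (y : X)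
    (hy : y ∈ W) :
    G.presheaf.germ W y hy (evalSec h m) = h.1 ⟨y, hy⟩ (F.presheaf.germ W y hy m) :=
  (exists_evalSec h m).choose_spec y hy

theorem evalSec_eq {W : X.Opens} (h : Γ(RefHull.homSh F G, W)) (m : Γ(F, W)) (s : Γ(G, W))
    (hs : ∀ (y : X) (hy : y ∈ W),
      G.presheaf.germ W y hy s = h.1 ⟨y, hy⟩ (F.presheaf.germ W y hy m)) : evalSec h m = s :=
  section_ext_germ G W _ _ fun y hy => (germ_evalSec h m y hy).trans (hs y hy).symm

theorem homSh_add_apply {W : X.Opens} (h h' : Γ(RefHull.homSh F G, W)) (y : W) :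
    (h + h').1 y = h.1 y + h'.1 y := rfl

theorem homSh_zero_apply {W : X.Opens} (y : W) :
    (0 : Γ(RefHull.homSh F G, W)).1 y = 0 := rfl

theorem homSh_smul_apply {W : X.Opens} (a : Γ(X, W)) (h : Γ(RefHull.homSh F G, W)) (y : W) :
    (a • h).1 y = X.presheaf.germ W y.1 y.2 a • h.1 y := rfl

theorem homSh_map_apply {W W' : X.Opens} (i : W' ⟶ W) (h : Γ(RefHull.homSh F G, W)) (y : W') :
    ((RefHull.homSh F G).presheaf.map i.op h).1 y = h.1 ⟨y.1, i.le y.2⟩ := rfl

theorem evalSec_add_left {W : X.Opens} (h h' : Γ(RefHull.homSh F G, W)) (m : Γ(F, W)) :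
    evalSec (h + h') m = evalSec h m + evalSec h' m :=
  evalSec_eq _ _ _ fun y hy => by
    rw [map_add, germ_evalSec, germ_evalSec, homSh_add_apply, LinearMap.add_apply]

theorem evalSec_smul_left {W : X.Opens} (a : Γ(X, W)) (h : Γ(RefHull.homSh F G, W))
    (m : Γ(F, W)) : evalSec (a • h) m = a • evalSec h m :=
  evalSec_eq _ _ _ fun y hy => by
    rw [Mero.germ_smul, germ_evalSec, homSh_smul_apply, LinearMap.smul_apply]

theorem evalSec_map {W W' : X.Opens} (i : W' ⟶ W) (h : Γ(RefHull.homSh F G, W)) (m : Γ(F, W)) :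
    evalSec ((RefHull.homSh F G).presheaf.map i.op h) (F.presheaf.map i.op m) =
      G.presheaf.map i.op (evalSec h m) :=
  evalSec_eq _ _ _ fun y hy => by
    rw [TopCat.Presheaf.germ_res_apply, TopCat.Presheaf.germ_res_apply, germ_evalSec,
      homSh_map_apply]

theorem evalSec_sum_smul {W : X.Opens} (h : Γ(RefHull.homSh F G, W)) {n : ℕ}
    (a : Fin n → Γ(X, W)) (s : Fin n → Γ(F, W)) :
    evalSec h (∑ i, a i • s i) = ∑ i, a i • evalSec h (s i) :=
  evalSec_eq _ _ _ fun y hy => by
    rw [germ_sum_smul, germ_sum_smul, map_sum]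
    exact Finset.sum_congr rfl fun i _ => by rw [map_smul, germ_evalSec]

theorem evalSec_zero_right {W : X.Opens} (h : Γ(RefHull.homSh F G, W)) :
    evalSec h (0 : Γ(F, W)) = 0 :=
  evalSec_eq _ _ _ fun y hy => by rw [map_zero, map_zero, map_zero]

end Eval

section Pres

variable {F G : X.Modules} {V : X.Opens} {n m : ℕ} {t : Fin n → Γ(F, V)}
  {r : Fin m → Fin n → Γ(X, V)}

/-- Sections of `𝓗om(F, G)` are determined by their values on the generators. -/
theorem homSh_ext_of_isLocalPres (hP : IsLocalPres F V t r) {W : X.Opens} (hWV : W ≤ V)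
    (h h' : Γ(RefHull.homSh F G, W))
    (e : ∀ (y : X) (hy : y ∈ W) (i : Fin n),
      h.1 ⟨y, hy⟩ (F.presheaf.germ V y (hWV hy) (t i)) =
        h'.1 ⟨y, hy⟩ (F.presheaf.germ V y (hWV hy) (t i))) : h = h' :=
  Subtype.ext (funext fun y =>
    LinearMap.ext_on_range (hP.span y.1 (hWV y.2)) fun i => e y.1 y.2 i)

/-- A section of `𝓗om(F, G)` from images of the generators satisfying the relations. -/
theorem exists_section_homSh (hP : IsLocalPres F V t r) {W : X.Opens} (hWV : W ≤ V)
    (nn : Fin n → Γ(G, W))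
    (hnn : ∀ j, ∑ i, X.presheaf.map (homOfLE hWV).op (r j i) • nn i = 0) :
    ∃ h : Γ(RefHull.homSh F G, W), ∀ (y : X) (hy : y ∈ W) (i : Fin n),
      h.1 ⟨y, hy⟩ (F.presheaf.germ V y (hWV hy) (t i)) = G.presheaf.germ W y hy (nn i) := by
  have key : ∀ y : W, ∃ g : RefHull.StalkHom F G y.1,
      ∀ i, g (F.presheaf.germ V y.1 (hWV y.2) (t i)) = G.presheaf.germ W y.1 y.2 (nn i) := by
    intro y
    refine exists_linearMap_of_relations _ _
      (fun j i => X.presheaf.germ V y.1 (hWV y.2) (r j i)) (hP.span y.1 (hWV y.2))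
      (hP.ker y.1 (hWV y.2)) (fun j => ?_)
    have h1 := congrArg (G.presheaf.germ W y.1 y.2) (hnn j)
    rw [germ_sum_smul, map_zero] at h1
    rw [← h1]
    refine Finset.sum_congr rfl fun i _ => ?_
    rw [TopCat.Presheaf.germ_res_apply X.presheaf (homOfLE hWV) y.1 y.2 (r j i)]
  choose g hg using key
  have hloc : RefHull.IsLocSect F G g := by
    intro V' i mm z'
    have hV'V : V' ≤ V := i.le.trans hWV
    obtain ⟨W', hzW', j, a, ha⟩ := exists_local_combination_of_span F t (homOfLE hV'V) mm z'.1 z'.2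
      (hP.span z'.1 (hV'V z'.2))
    refine ⟨W', hzW', j, ∑ k, a k • G.presheaf.map (j ≫ i).op (nn k), fun y => ?_⟩
    have e1 : F.presheaf.germ V' y.1 (j.le y.2) mm =
        F.presheaf.germ W' y.1 y.2 (F.presheaf.map j.op mm) :=
      (TopCat.Presheaf.germ_res_apply F.presheaf j y.1 y.2 mm).symm
    rw [e1, ha, germ_sum_smul, germ_sum_smul, map_sum]
    refine Finset.sum_congr rfl fun k _ => ?_
    rw [map_smul, TopCat.Presheaf.germ_res_apply, TopCat.Presheaf.germ_res_apply]
    congr 1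
    exact hg ⟨y.1, i.le (j.le y.2)⟩ k
  exact ⟨⟨g, hloc⟩, fun y hy i => hg ⟨y, hy⟩ i⟩

end Pres

section Localizing

variable {F G : X.Modules} {V : X.Opens} {n m : ℕ} {t : Fin n → Γ(F, V)}
  {r : Fin m → Fin n → Γ(X, V)}

theorem evalSec_zero_left {W : X.Opens} (mm : Γ(F, W)) :
    evalSec (0 : Γ(RefHull.homSh F G, W)) mm = 0 :=
  evalSec_eq _ _ _ fun y hy => by rw [map_zero, homSh_zero_apply, LinearMap.zero_apply]

theorem pow_sup_smul_eq_zero {A M : Type*} [CommRing A] [AddCommGroup M] [Module A M] {ι : Type*}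
    [Fintype ι] (f : A) (k : ι → ℕ) (z : ι → M) (hk : ∀ i, f ^ k i • z i = 0) (i : ι) :
    f ^ (Finset.univ.sup k) • z i = 0 := by
  have hle : k i ≤ Finset.univ.sup k := Finset.le_sup (Finset.mem_univ i)
  rw [← Nat.sub_add_cancel hle, pow_add, mul_smul, hk i, smul_zero]

theorem exists_pow_smul_eq_zero_homSh (hP : IsLocalPres F V t r) {T : X.Opens} (hTV : T ≤ V)
    (hG : IsLocalizingOn G T) (f : Γ(X, T)) (h : Γ(RefHull.homSh F G, T))
    (hres : (RefHull.homSh F G).presheaf.map (homOfLE (X.basicOpen_le f)).op h = 0) :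
    ∃ N : ℕ, f ^ N • h = 0 := by
  let tT : Fin n → Γ(F, T) := fun i => F.presheaf.map (homOfLE hTV).op (t i)
  let g : Fin n → Γ(G, T) := fun i => evalSec h (tT i)
  have hg0 : ∀ i, G.presheaf.map (homOfLE (X.basicOpen_le f)).op (g i) = 0 := by
    intro i
    rw [← evalSec_map, hres]
    exact evalSec_zero_left _
  choose k hk using fun i => hG.exists_pow_smul_eq_zero f (g i) (hg0 i)
  have hN := pow_sup_smul_eq_zero f k g hk
  refine ⟨Finset.univ.sup k, homSh_ext_of_isLocalPres hP hTV _ _ fun y hy i => ?_⟩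
  rw [homSh_smul_apply, LinearMap.smul_apply, homSh_zero_apply, LinearMap.zero_apply]
  have e1 : F.presheaf.germ V y (hTV hy) (t i) = F.presheaf.germ T y hy (tT i) :=
    (TopCat.Presheaf.germ_res_apply F.presheaf (homOfLE hTV) y hy (t i)).symm
  rw [e1, ← germ_evalSec, ← Mero.germ_smul]
  change G.presheaf.germ T y hy (f ^ (Finset.univ.sup k) • g i) = 0
  rw [hN i, map_zero]

theorem exists_restrict_eq_pow_smul_homSh (hP : IsLocalPres F V t r) {T : X.Opens} (hTV : T ≤ V)
    (hG : IsLocalizingOn G T) (f : Γ(X, T)) (s : Γ(RefHull.homSh F G, X.basicOpen f)) :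
    ∃ (N : ℕ) (h : Γ(RefHull.homSh F G, T)),
      (RefHull.homSh F G).presheaf.map (homOfLE (X.basicOpen_le f)).op h =
        (X.presheaf.map (homOfLE (X.basicOpen_le f)).op f) ^ N • s := by
  have hDT : X.basicOpen f ≤ T := X.basicOpen_le f
  have hDV : X.basicOpen f ≤ V := hDT.trans hTV
  let fD : Γ(X, X.basicOpen f) := X.presheaf.map (homOfLE hDT).op f
  let tD : Fin n → Γ(F, X.basicOpen f) := fun i => F.presheaf.map (homOfLE hDV).op (t i)
  let rD : Fin m → Fin n → Γ(X, X.basicOpen f) := fun j i =>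
    X.presheaf.map (homOfLE hDV).op (r j i)
  let rT : Fin m → Fin n → Γ(X, T) := fun j i => X.presheaf.map (homOfLE hTV).op (r j i)
  have hrTD : ∀ j i, X.presheaf.map (homOfLE hDT).op (rT j i) = rD j i := by
    intro j i
    simp only [rT, rD]
    rw [← ConcreteCategory.comp_apply, ← X.presheaf.map_comp]
    rfl
  let g : Fin n → Γ(G, X.basicOpen f) := fun i => evalSec s (tD i)
  have hgrel : ∀ j, ∑ i, rD j i • g i = 0 := by
    intro j
    rw [← evalSec_sum_smul]
    have h1 : ∑ i, rD j i • tD i = F.presheaf.map (homOfLE hDV).op (∑ i, r j i • t i) := by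
      rw [map_sum]
      exact Finset.sum_congr rfl fun i _ => (Scheme.Modules.map_smul _ _ _ _).symm
    rw [h1, hP.rel j, map_zero, evalSec_zero_right]
  choose k g' hg' using fun i => hG.exists_restrict_eq_pow_smul f (g i)
  let g1 : Fin n → Γ(G, T) := fun i => f ^ (Finset.univ.sup k - k i) • g' i
  have hg1 : ∀ i, G.presheaf.map (homOfLE hDT).op (g1 i) = fD ^ (Finset.univ.sup k) • g i := by
    intro i
    have hle : k i ≤ Finset.univ.sup k := Finset.le_sup (Finset.mem_univ i)
    simp only [g1]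
    rw [Scheme.Modules.map_smul, hg' i, map_pow, ← mul_smul, ← pow_add, Nat.sub_add_cancel hle]
  let z : Fin m → Γ(G, T) := fun j => ∑ i, rT j i • g1 i
  have hz : ∀ j, G.presheaf.map (homOfLE (X.basicOpen_le f)).op (z j) = 0 := by
    intro j
    simp only [z]
    rw [map_sum]
    have h2 : ∀ i, G.presheaf.map (homOfLE hDT).op (rT j i • g1 i) =
        fD ^ (Finset.univ.sup k) • (rD j i • g i) := by
      intro i
      rw [Scheme.Modules.map_smul, hg1 i, smul_comm, hrTD j i]
    rw [Finset.sum_congr rfl fun i _ => h2 i, ← Finset.smul_sum, hgrel j, smul_zero]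
  choose k2 hk2 using fun j => hG.exists_pow_smul_eq_zero f (z j) (hz j)
  have hK := pow_sup_smul_eq_zero f k2 z hk2
  let g2 : Fin n → Γ(G, T) := fun i => f ^ (Finset.univ.sup k2) • g1 i
  have hg2 : ∀ j, ∑ i, X.presheaf.map (homOfLE hTV).op (r j i) • g2 i = 0 := by
    intro j
    have h3 : ∑ i, rT j i • g2 i = f ^ (Finset.univ.sup k2) • z j := by
      simp only [g2, z]
      rw [Finset.smul_sum]
      exact Finset.sum_congr rfl fun i _ => smul_comm _ _ _
    exact h3.trans (hK j)
  obtain ⟨h, hh⟩ := exists_section_homSh hP hTV g2 hg2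
  refine ⟨Finset.univ.sup k2 + Finset.univ.sup k, h,
    homSh_ext_of_isLocalPres hP hDV _ _ fun y hy i => ?_⟩
  rw [homSh_map_apply, hh y (hDT hy) i, homSh_smul_apply, LinearMap.smul_apply]
  have e1 : G.presheaf.germ T y (hDT hy) (g2 i) =
      G.presheaf.germ (X.basicOpen f) y hy (G.presheaf.map (homOfLE hDT).op (g2 i)) :=
    (TopCat.Presheaf.germ_res_apply G.presheaf (homOfLE hDT) y hy (g2 i)).symm
  have e2 : G.presheaf.map (homOfLE hDT).op (g2 i) =
      fD ^ (Finset.univ.sup k2 + Finset.univ.sup k) • g i := by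
    simp only [g2]
    rw [Scheme.Modules.map_smul, hg1 i, map_pow, ← mul_smul, ← pow_add]
  rw [e1, e2, Mero.germ_smul, germ_evalSec]
  simp only [tD]
  rw [TopCat.Presheaf.germ_res_apply]

/-- `𝓗om(F, G)` localizes correctly on an affine open contained in an open on which `F` is
presented, if `G` does. -/
theorem isLocalizingOn_homSh (hP : IsLocalPres F V t r) {T : X.Opens} (hTV : T ≤ V)
    (hG : IsLocalizingOn G T) : IsLocalizingOn (RefHull.homSh F G) T :=
  ⟨fun f s => exists_restrict_eq_pow_smul_homSh hP hTV hG f s,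
    fun f h hres => exists_pow_smul_eq_zero_homSh hP hTV hG f h hres⟩

end Localizing

section Coherent

open Groth.Agent.Lib.Helper49

/-- `𝓗om(F, G)` is quasi-coherent for `F` finitely presented and `G` quasi-coherent. -/
theorem isQuasicoherent_homSh (F G : X.Modules) (hF : CohB1.IsFP F) [G.IsQuasicoherent] :
    (RefHull.homSh F G).IsQuasicoherent := by
  refine Groth.Agent.Lib.Helper18.LSubM.isQuasicoherent_of_isLocalizingOn_cover _
    {T | IsAffineOpen T ∧ ∃ (V : X.Opens) (_ : T ≤ V) (n m : ℕ) (t : Fin n → Γ(F, V))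
      (r : Fin m → Fin n → Γ(X, V)), IsLocalPres F V t r}
    (fun T hT => hT.1) (fun x => ?_) (fun T hT => ?_)
  · obtain ⟨V, hxV, n, m, t, r, hP⟩ := exists_isLocalPres F hF x
    obtain ⟨_, ⟨T, hT, rfl⟩, hxT, hTV⟩ :=
      X.isBasis_affineOpens.exists_subset_of_mem_open hxV V.2
    exact ⟨T, ⟨hT, V, hTV, n, m, t, r, hP⟩, hxT⟩
  · obtain ⟨hT, V, hTV, n, m, t, r, hP⟩ := hT
    exact isLocalizingOn_homSh hP hTV (isLocalizingOn_of_isQuasicoherent hT G)

/-- The values on the generators, as a linear map. -/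
noncomputable def evalGens {F : X.Modules} (G : X.Modules) {V : X.Opens} {n : ℕ}
    (t : Fin n → Γ(F, V)) {T : X.Opens} (hTV : T ≤ V) :
    Γ(RefHull.homSh F G, T) →ₗ[Γ(X, T)] (Fin n → Γ(G, T)) where
  toFun h i := evalSec h (F.presheaf.map (homOfLE hTV).op (t i))
  map_add' h h' := funext fun _ => evalSec_add_left h h' _
  map_smul' a h := funext fun _ => evalSec_smul_left a h _

theorem evalGens_injective {F G : X.Modules} {V : X.Opens} {n m : ℕ} {t : Fin n → Γ(F, V)}
    {r : Fin m → Fin n → Γ(X, V)} (hP : IsLocalPres F V t r) {T : X.Opens} (hTV : T ≤ V) :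
    Function.Injective (evalGens G t hTV) := by
  intro h h' e
  refine homSh_ext_of_isLocalPres hP hTV h h' fun y hy i => ?_
  have e1 : F.presheaf.germ V y (hTV hy) (t i) =
      F.presheaf.germ T y hy (F.presheaf.map (homOfLE hTV).op (t i)) :=
    (TopCat.Presheaf.germ_res_apply F.presheaf (homOfLE hTV) y hy (t i)).symm
  rw [e1, ← germ_evalSec, ← germ_evalSec]
  exact congrArg _ (congrFun e i)

theorem finite_sections_homSh {F G : X.Modules} {V : X.Opens} {n m : ℕ} {t : Fin n → Γ(F, V)}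
    {r : Fin m → Fin n → Γ(X, V)} (hP : IsLocalPres F V t r) {T : X.Opens} (hTV : T ≤ V)
    [IsNoetherianRing Γ(X, T)] [Module.Finite Γ(X, T) Γ(G, T)] :
    Module.Finite Γ(X, T) Γ(RefHull.homSh F G, T) := by
  have : IsNoetherian Γ(X, T) (Fin n → Γ(G, T)) := isNoetherian_of_isNoetherianRing_of_finite _ _
  exact Module.Finite.of_injective (evalGens G t hTV) (evalGens_injective hP hTV)

/-- On a locally Noetherian scheme coherent modules are finitely presented. -/
theorem isFP_of_isCoh [IsLocallyNoetherian X] (F : X.Modules) (hF : Coh.IsCoh F) :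
    CohB1.IsFP F := by
  have : F.IsQuasicoherent := hF.1
  refine isFinitePresentation_of_finitePresentation_sections_cover F
    (fun T : X.affineOpens => T.1) (fun T => T.2) (fun x => ?_) (fun T => ?_)
  · obtain ⟨_, ⟨T, hT, rfl⟩, hxT, -⟩ :=
      X.isBasis_affineOpens.exists_subset_of_mem_open (Set.mem_univ x) isOpen_univ
    exact ⟨⟨T, hT⟩, hxT⟩
  · have := IsLocallyNoetherian.component_noetherian T
    have := Groth.Agent.Lib.Helper49.finite_sections_of_isFiniteType F hF.2 T.2
    exact Module.finitePresentation_of_finite _ _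

/-- The affine opens on which `F` is presented. -/
def presOpens (F : X.Modules) : Set X.Opens :=
  {T | IsAffineOpen T ∧ ∃ (V : X.Opens) (_ : T ≤ V) (n m : ℕ) (t : Fin n → Γ(F, V))
      (r : Fin m → Fin n → Γ(X, V)), IsLocalPres F V t r}

theorem exists_mem_presOpens (F : X.Modules) (hF : CohB1.IsFP F) (x : X) :
    ∃ T ∈ presOpens F, x ∈ T := by
  obtain ⟨V, hxV, n, m, t, r, hP⟩ := exists_isLocalPres F hF x
  obtain ⟨_, ⟨T, hT, rfl⟩, hxT, hTV⟩ :=
    X.isBasis_affineOpens.exists_subset_of_mem_open hxV V.2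
  exact ⟨T, ⟨hT, V, hTV, n, m, t, r, hP⟩, hxT⟩

/-- `𝓗om(F, G)` is coherent for coherent `F`, `G` on a locally Noetherian scheme. -/
theorem isCoh_homSh [IsLocallyNoetherian X] (F G : X.Modules) (hF : Coh.IsCoh F)
    (hG : Coh.IsCoh G) : Coh.IsCoh (RefHull.homSh F G) := by
  have hFP := isFP_of_isCoh F hF
  have : G.IsQuasicoherent := hG.1
  have hq : (RefHull.homSh F G).IsQuasicoherent := isQuasicoherent_homSh F G hFP
  refine ⟨hq, ?_⟩
  refine Groth.Agent.Lib.Helper18.LSubM.isFiniteType_of_finite_sections_cover _ (presOpens F)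
    (fun T hT => hT.1) (exists_mem_presOpens F hFP) (fun T hT => ?_)
  obtain ⟨hT, V, hTV, n, m, t, r, hP⟩ := hT
  have : IsNoetherianRing Γ(X, T) := IsLocallyNoetherian.component_noetherian ⟨T, hT⟩
  have := Groth.Agent.Lib.Helper49.finite_sections_of_isFiniteType G hG.2 hT
  exact finite_sections_homSh hP hTV

/-- `𝓗om(F, G)` is finitely presented for coherent `F`, `G` on a locally Noetherian scheme. -/
theorem isFP_homSh [IsLocallyNoetherian X] (F G : X.Modules) (hF : Coh.IsCoh F)
    (hG : Coh.IsCoh G) : CohB1.IsFP (RefHull.homSh F G) :=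
  isFP_of_isCoh _ (isCoh_homSh F G hF hG)

end Coherent

end Groth.Agent.Lib.Helper45.RefHullCoh
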