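import Mathlib
import Groth.Prelude.Def_RefHull
import Groth.Agent.Lib.Helper45.RefHullCoh
import Groth.Agent.Lib.Helper45.RegularSections
import Groth.Agent.Lib.Helper49.StalkNbhd2

/-!
# Stalks of the biduality map `F ⟶ F^**`

Shared library of helper45 (namespace `Groth.Agent.Lib.Helper45.RefHullStalk`).

* `unitStalkEquiv x`: the stalk of the module `O_X` at `x` is the local ring `O_{X,x}`.
* `isCoh_structureModule`.
* `stalkMap_bidualMap_bijective_iff`: for coherent `F` on a locally Noetherian scheme the stalk map
  of `F ⟶ F^**` at `x` is bijective iff `F_x` is a reflexive `O_{X,x}`-module.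
* `isReflexive_iff_forall_isReflexiveAt`.
-/

set_option autoImplicit false
universe u
open CategoryTheory CategoryTheory.Limits AlgebraicGeometry TopologicalSpace

namespace Groth.Agent.Lib.Helper45.RefHullStalk

open Groth.Agent.Lib.Helper45.RefHullBasic Groth.Agent.Lib.Helper45.RefHullHom
  Groth.Agent.Lib.Helper45.RefHullCoh

variable {X : Scheme.{u}}

section Unit

/-- A function regarded as a section of the module `O_X`. -/
def toMod {U : X.Opens} (a : Γ(X, U)) : Γ(Coh.structureModule X, U) := a

theorem toMod_smul {U : X.Opens} (a b : Γ(X, U)) :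
    a • (toMod b : Γ(Coh.structureModule X, U)) = toMod (a * b) := rfl

theorem map_toMod {U W : X.Opens} (i : W ⟶ U) (a : Γ(X, U)) :
    (Coh.structureModule X).presheaf.map i.op (toMod a) = toMod (X.presheaf.map i.op a) := rfl

theorem toMod_surjective {U : X.Opens} (s : Γ(Coh.structureModule X, U)) :
    ∃ a : Γ(X, U), toMod a = s := ⟨s, rfl⟩

theorem toMod_zero {U : X.Opens} : (toMod (0 : Γ(X, U)) : Γ(Coh.structureModule X, U)) = 0 := rfl

theorem toMod_eq_zero {U : X.Opens} (a : Γ(X, U))
    (h : (toMod a : Γ(Coh.structureModule X, U)) = 0) : a = 0 := h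

/-- The germ of `1` in the stalk of the module `O_X`. -/
noncomputable def oneGerm (x : X) : (Coh.structureModule X).presheaf.stalk x :=
  (Coh.structureModule X).presheaf.germ ⊤ x trivial (toMod 1)

theorem germ_smul_oneGerm {U : X.Opens} (x : X) (hx : x ∈ U) (a : Γ(X, U)) :
    X.presheaf.germ U x hx a • oneGerm x =
      (Coh.structureModule X).presheaf.germ U x hx (toMod a) := by
  have e1 : oneGerm x = (Coh.structureModule X).presheaf.germ U x hx (toMod 1) := by
    have := TopCat.Presheaf.germ_res_apply (Coh.structureModule X).presheaf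
      (homOfLE (le_top : U ≤ ⊤)) x hx (toMod 1)
    rw [map_toMod, map_one] at this
    exact this.symm
  rw [e1, ← Mero.germ_smul, toMod_smul, mul_one]

/-- `a ↦ a • 1`, from the local ring to the stalk of the module `O_X`. -/
noncomputable def unitStalkMap (x : X) :
    X.presheaf.stalk x →ₗ[X.presheaf.stalk x] (Coh.structureModule X).presheaf.stalk x :=
  LinearMap.toSpanSingleton _ _ (oneGerm x)

theorem unitStalkMap_germ {U : X.Opens} (x : X) (hx : x ∈ U) (a : Γ(X, U)) :
    unitStalkMap x (X.presheaf.germ U x hx a) =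
      (Coh.structureModule X).presheaf.germ U x hx (toMod a) := by
  rw [unitStalkMap, LinearMap.toSpanSingleton_apply]
  exact germ_smul_oneGerm x hx a

theorem unitStalkMap_bijective (x : X) : Function.Bijective (unitStalkMap x) := by
  constructor
  · rw [injective_iff_map_eq_zero]
    intro a ha
    obtain ⟨U, hxU, r, rfl⟩ := TopCat.Presheaf.exists_germ_eq X.presheaf a
    rw [unitStalkMap_germ] at ha
    obtain ⟨W, hxW, i, _, e⟩ := TopCat.Presheaf.germ_eq (Coh.structureModule X).presheaf x hxU hxU
      (toMod r) 0 (by rw [ha, map_zero])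
    rw [map_zero, map_toMod] at e
    have e' := toMod_eq_zero _ e
    rw [← TopCat.Presheaf.germ_res_apply X.presheaf i x hxW r, e', map_zero]
  · intro b
    obtain ⟨U, hxU, s, rfl⟩ := TopCat.Presheaf.exists_germ_eq (Coh.structureModule X).presheaf b
    obtain ⟨a, rfl⟩ := toMod_surjective s
    exact ⟨X.presheaf.germ U x hxU a, unitStalkMap_germ x hxU a⟩

/-- The stalk of the module `O_X` at `x` is the local ring `O_{X,x}`. -/
noncomputable def unitStalkEquiv (x : X) :
    (Coh.structureModule X).presheaf.stalk x ≃ₗ[X.presheaf.stalk x] X.presheaf.stalk x :=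
  (LinearEquiv.ofBijective (unitStalkMap x) (unitStalkMap_bijective x)).symm

theorem isCoh_structureModule (X : Scheme.{u}) : Coh.IsCoh (Coh.structureModule X) :=
  ⟨Groth.Agent.Lib.Helper45.isQuasicoherent_structureModule X,
    Groth.Agent.Lib.Helper49.isFiniteType_unit X⟩

end Unit

section Bidual

variable (F : X.Modules)

theorem evalStalk_comp_stalkMapₗ_bidualMap (x : X) (v : F.presheaf.stalk x) :
    RefHull.evalStalk (RefHull.dual F) (Coh.structureModule X) x
      (RefHull.stalkMapₗ (RefHull.bidualMap F) x v) = RefHull.bidualAt F x v := by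
  obtain ⟨U, hxU, s, rfl⟩ := TopCat.Presheaf.exists_germ_eq F.presheaf v
  rw [RefHull.stalkMapₗ_germ, RefHull.evalStalk_germ]
  exact RefHull.bidualMap_app_apply F s ⟨x, hxU⟩

variable [IsLocallyNoetherian X]

/-- The dual of a coherent module is coherent. -/
theorem isCoh_dual (hF : Coh.IsCoh F) : Coh.IsCoh (RefHull.dual F) :=
  isCoh_homSh F _ hF (isCoh_structureModule X)

theorem isCoh_ddual (hF : Coh.IsCoh F) : Coh.IsCoh (RefHull.ddual F) :=
  isCoh_dual _ (isCoh_dual F hF)

/-- The dual of the stalk is the stalk of the dual. -/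
noncomputable def dualStalkEquiv (hF : Coh.IsCoh F) (x : X) :
    (RefHull.dual F).presheaf.stalk x ≃ₗ[X.presheaf.stalk x]
      Module.Dual (X.presheaf.stalk x) (F.presheaf.stalk x) :=
  (LinearEquiv.ofBijective (RefHull.evalStalk F (Coh.structureModule X) x)
    (evalStalk_bijective_of_isFP F _ (isFP_of_isCoh F hF) x)).trans
    (LinearEquiv.congrRight (unitStalkEquiv x))

theorem dualStalkEquiv_apply (hF : Coh.IsCoh F) (x : X) (θ : (RefHull.dual F).presheaf.stalk x)
    (v : F.presheaf.stalk x) :
    dualStalkEquiv F hF x θ v =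
      unitStalkEquiv x (RefHull.evalStalk F (Coh.structureModule X) x θ v) := rfl

theorem arrowCongr_bidualAt (hF : Coh.IsCoh F) (x : X) (v : F.presheaf.stalk x) :
    LinearEquiv.arrowCongr (dualStalkEquiv F hF x) (unitStalkEquiv x) (RefHull.bidualAt F x v) =
      Module.Dual.eval (X.presheaf.stalk x) (F.presheaf.stalk x) v := by
  ext ξ
  rw [LinearEquiv.arrowCongr_apply, RefHull.bidualAt_apply, ← dualStalkEquiv_apply F hF x,
    LinearEquiv.apply_symm_apply, Module.Dual.eval_apply]

theorem bidualAt_bijective_iff (hF : Coh.IsCoh F) (x : X) :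
    Function.Bijective (RefHull.bidualAt F x) ↔ RefHull.IsReflexiveAt F x := by
  have h1 : (Module.Dual.eval (X.presheaf.stalk x) (F.presheaf.stalk x) : _ → _) =
      (LinearEquiv.arrowCongr (dualStalkEquiv F hF x) (unitStalkEquiv x)) ∘
        (RefHull.bidualAt F x) := by
    funext v
    exact (arrowCongr_bidualAt F hF x v).symm
  constructor
  · intro h
    refine ⟨?_⟩
    rw [h1]
    exact (LinearEquiv.bijective _).comp h
  · intro h
    have h2 : Function.Bijective
        (Module.Dual.eval (X.presheaf.stalk x) (F.presheaf.stalk x)) := h.1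
    rw [h1] at h2
    exact (Function.Bijective.of_comp_iff' (LinearEquiv.bijective _) _).mp h2

/-- For coherent `F` on a locally Noetherian scheme, the stalk map of `F ⟶ F^**` at `x` is
bijective iff `F_x` is reflexive. -/
theorem stalkMap_bidualMap_bijective_iff (hF : Coh.IsCoh F) (x : X) :
    Function.Bijective (RefHull.stalkMapₗ (RefHull.bidualMap F) x) ↔
      RefHull.IsReflexiveAt F x := by
  rw [← bidualAt_bijective_iff F hF x]
  have he2 : Function.Bijective
      (RefHull.evalStalk (RefHull.dual F) (Coh.structureModule X) x) :=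
    evalStalk_bijective_of_isFP _ _ (isFP_of_isCoh _ (isCoh_dual F hF)) x
  have h1 : (RefHull.bidualAt F x : _ → _) =
      (RefHull.evalStalk (RefHull.dual F) (Coh.structureModule X) x) ∘
        (RefHull.stalkMapₗ (RefHull.bidualMap F) x) := by
    funext v
    exact (evalStalk_comp_stalkMapₗ_bidualMap F x v).symm
  rw [h1]
  exact (Function.Bijective.of_comp_iff' he2 _).symm

open Groth.Agent.Lib.Helper49 in
/-- A coherent module on a locally Noetherian scheme is reflexive iff all its stalks are. -/
theorem isReflexive_iff_forall_isReflexiveAt (hF : Coh.IsCoh F) :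
    RefHull.IsReflexive F ↔ ∀ x : X, RefHull.IsReflexiveAt F x := by
  constructor
  · intro h x
    have : IsIso (RefHull.bidualMap F) := h
    exact (stalkMap_bidualMap_bijective_iff F hF x).mp
      (stalkMap_bijective_of_isIso (RefHull.bidualMap F) x)
  · intro h
    exact isIso_of_stalkMap_bijective (RefHull.bidualMap F) fun x =>
      (stalkMap_bidualMap_bijective_iff F hF x).mpr (h x)

end Bidual

end Groth.Agent.Lib.Helper45.RefHullStalk
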