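import Mathlib
import Groth.Agent.Lib.Helper29.DepthExt

/-!
# Depth of reflexive modules

Shared library of helper45 (namespace `Groth.Agent.Lib.Helper45.ReflexiveDepth`).

* `idealDepth_pi_ge`: `depth_I (R^n) ≥ depth_I R`.
* `exists_exact_of_isReflexive`: a finite reflexive module over a Noetherian ring is the kernel of a
  map between finite free modules.
* `two_le_idealDepth_of_isReflexive`: if `depth_I R ≥ 2` then `depth_I M ≥ 2` for finite reflexive
  `M`.
* `two_le_idealDepth_of_exact`: kernel of a surjection from depth `≥ 2` onto depth `≥ 1`.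
-/

set_option autoImplicit false
universe u

namespace Groth.Agent.Lib.Helper45.ReflexiveDepth

open Groth.Agent.Lib.Helper29

variable {R : Type u} [CommRing R] [IsNoetherianRing R]

theorem idealDepth_prod_ge (I : Ideal R) (M N : Type u) [AddCommGroup M] [Module R M]
    [Module.Finite R M] [AddCommGroup N] [Module R N] [Module.Finite R N] :
    min (LocCoh.idealDepth I M) (LocCoh.idealDepth I N) ≤ LocCoh.idealDepth I (M × N) :=
  (idealDepth_shortExact I M (M × N) N (LinearMap.inl R M N) (LinearMap.snd R M N)
    LinearMap.inl_injective LinearMap.snd_surjective Function.Exact.inl_snd).1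

theorem idealDepth_pi_ge (I : Ideal R) (n : ℕ) :
    LocCoh.idealDepth I R ≤ LocCoh.idealDepth I (Fin n → R) := by
  induction n with
  | zero =>
    have : I • (⊤ : Submodule R (Fin 0 → R)) = ⊤ := Subsingleton.elim _ _
    rw [idealDepth_of_smul_top_eq I _ this]
    exact le_top
  | succ n ih =>
    rw [← idealDepth_congr I (Fin.consLinearEquiv R (fun _ : Fin n.succ => R))]
    exact (le_min le_rfl ih).trans (idealDepth_prod_ge I R (Fin n → R))

theorem idealDepth_dual_pi_ge (I : Ideal R) (n : ℕ) :
    LocCoh.idealDepth I R ≤ LocCoh.idealDepth I (Module.Dual R (Fin n → R)) := by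
  rw [← idealDepth_congr I (Module.piEquiv (Fin n) R R)]
  exact idealDepth_pi_ge I n

/-- Kernel of a surjection from depth `≥ 2` onto depth `≥ 1` has depth `≥ 2`. -/
theorem two_le_idealDepth_of_exact (I : Ideal R) {N' N N'' : Type u} [AddCommGroup N']
    [Module R N'] [Module.Finite R N'] [AddCommGroup N] [Module R N] [Module.Finite R N]
    [AddCommGroup N''] [Module R N''] [Module.Finite R N'']
    (f : N' →ₗ[R] N) (g : N →ₗ[R] N'') (hf : Function.Injective f)
    (hg : Function.Surjective g) (hfg : Function.Exact f g)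
    (h2 : (2 : ℕ∞) ≤ LocCoh.idealDepth I N) (h1 : (1 : ℕ∞) ≤ LocCoh.idealDepth I N'') :
    (2 : ℕ∞) ≤ LocCoh.idealDepth I N' := by
  refine le_trans (le_min h2 ?_) (idealDepth_shortExact I N' N N'' f g hf hg hfg).2.2
  have : (2 : ℕ∞) = 1 + 1 := by norm_num
  rw [this]
  exact add_le_add_left h1 1

/-- A submodule of a module of depth `≥ 1` has depth `≥ 1`. -/
theorem one_le_idealDepth_submodule (I : Ideal R) {N : Type u} [AddCommGroup N] [Module R N]
    [Module.Finite R N] (Q : Submodule R N) (h1 : (1 : ℕ∞) ≤ LocCoh.idealDepth I N) :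
    (1 : ℕ∞) ≤ LocCoh.idealDepth I Q := by
  have : IsNoetherian R N := isNoetherian_of_isNoetherianRing_of_finite R N
  refine le_trans (le_min h1 ?_) (idealDepth_shortExact I Q N (N ⧸ Q) Q.subtype Q.mkQ
    Q.injective_subtype Q.mkQ_surjective (LinearMap.exact_subtype_mkQ Q)).2.2
  exact le_add_self

/-- A finite reflexive module over a Noetherian ring is the kernel of a map between duals of
finite free modules. -/
theorem exists_exact_of_isReflexive (M : Type u) [AddCommGroup M] [Module R M] [Module.Finite R M]
    [Module.IsReflexive R M] :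
    ∃ (n n' : ℕ) (α : M →ₗ[R] Module.Dual R (Fin n → R))
      (β : Module.Dual R (Fin n → R) →ₗ[R] Module.Dual R (Fin n' → R)),
      Function.Injective α ∧ Function.Exact α β := by
  obtain ⟨n, f, hf⟩ := Module.Finite.exists_fin' R (Module.Dual R M)
  have : IsNoetherian R (Fin n → R) := isNoetherian_of_isNoetherianRing_of_finite R _
  obtain ⟨n', g, hg⟩ := Module.Finite.exists_fin' R (LinearMap.ker f)
  refine ⟨n, n', f.dualMap ∘ₗ (Module.Dual.eval R M),
    ((LinearMap.ker f).subtype ∘ₗ g).dualMap, ?_, ?_⟩
  · exact (LinearMap.dualMap_injective_of_surjective hf).comp (Module.bijective_dual_eval R M).1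
  · intro ξ
    constructor
    · intro hξ
      -- ξ vanishes on ker f
      have hker : LinearMap.ker f ≤ LinearMap.ker ξ := by
        intro k hk
        obtain ⟨c, hc⟩ := hg ⟨k, hk⟩
        have h1 := LinearMap.congr_fun hξ c
        simp only [LinearMap.dualMap_apply, LinearMap.coe_comp, Function.comp_apply, hc,
          Submodule.subtype_apply, LinearMap.zero_apply] at h1
        exact h1
      let ξ' : Module.Dual R (Module.Dual R M) :=
        (LinearMap.ker f).liftQ ξ hker ∘ₗ (f.quotKerEquivOfSurjective hf).symm.toLinearMap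
      obtain ⟨m, hm⟩ := (Module.bijective_dual_eval R M).2 ξ'
      refine ⟨m, LinearMap.ext fun c => ?_⟩
      simp only [LinearMap.coe_comp, Function.comp_apply, LinearMap.dualMap_apply, hm]
      have h2 : (f.quotKerEquivOfSurjective hf).symm (f c) = Submodule.Quotient.mk c := by
        rw [LinearEquiv.symm_apply_eq]
        rfl
      simp only [ξ', LinearMap.coe_comp, LinearEquiv.coe_coe, Function.comp_apply, h2,
        Submodule.liftQ_apply]
    · rintro ⟨m, rfl⟩
      refine LinearMap.ext fun c => ?_
      simp only [LinearMap.dualMap_apply, LinearMap.coe_comp, Function.comp_apply,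
        Submodule.subtype_apply, Module.Dual.eval_apply, LinearMap.zero_apply]
      have : f (g c : Fin n → R) = 0 := (g c).2
      rw [this, LinearMap.zero_apply]

/-- If `depth_I R ≥ 2`, every finite reflexive module has `I`-depth `≥ 2`. -/
theorem two_le_idealDepth_of_isReflexive (I : Ideal R) (hR : (2 : ℕ∞) ≤ LocCoh.idealDepth I R)
    (M : Type u) [AddCommGroup M] [Module R M] [Module.Finite R M] [Module.IsReflexive R M] :
    (2 : ℕ∞) ≤ LocCoh.idealDepth I M := by
  obtain ⟨n, n', α, β, hα, hαβ⟩ := exists_exact_of_isReflexive (R := R) M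
  have hP : (2 : ℕ∞) ≤ LocCoh.idealDepth I (Module.Dual R (Fin n → R)) :=
    hR.trans (idealDepth_dual_pi_ge I n)
  have hP' : (1 : ℕ∞) ≤ LocCoh.idealDepth I (Module.Dual R (Fin n' → R)) :=
    (by norm_num : (1 : ℕ∞) ≤ 2).trans (hR.trans (idealDepth_dual_pi_ge I n'))
  have hQ := one_le_idealDepth_submodule I (LinearMap.range β) hP'
  have : IsNoetherian R (Module.Dual R (Fin n' → R)) :=
    isNoetherian_of_isNoetherianRing_of_finite R _
  refine two_le_idealDepth_of_exact I α β.rangeRestrict hα β.surjective_rangeRestrict ?_ hP hQ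
  intro ξ
  rw [← hαβ ξ]
  constructor
  · intro h
    have := congrArg Subtype.val h
    simpa using this
  · intro h
    apply Subtype.ext
    simpa using h

end Groth.Agent.Lib.Helper45.ReflexiveDepth
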