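import Mathlib
import Groth.Prelude.Def_RefHull
import Groth.Prelude.Def_TorSh
import Groth.Agent.Lib.Helper45.RefHullStalk
import Groth.Agent.Lib.Helper45.ReflexiveDepth
import Groth.Agent.Lib.Helper12.QuasiFlat
import Groth.Agent.Lib.Helper29.SerreNormal
import Groth.Agent.Lib.Helper80.ModHartogsLocal
import Groth.Agent.Lib.Helper49.StalkExact

/-!
# Depth of reflexive sheaves and extension of sections across codimension two

Shared library of helper45 (namespace `Groth.Agent.Lib.Helper45.RefHullDepth`).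

* `two_le_depth_stalk_of_isReflexiveAt`: `depth F_x ≥ 2` when `F_x` is reflexive and
  `depth O_{X,x} ≥ 2`.
* `two_le_depth_of_isIntegrallyClosed`: a Noetherian normal local domain of dimension `≥ 2` has
  depth `≥ 2`.
* `one_le_depth_of_isTorsionFree`.
* `res_bijective_of_depth`: Hartogs, in the form `Γ(F, U) → Γ(F, V)` bijective.
* `two_le_depth_of_shortExact`: depth of the kernel in a short exact sequence of coherent modules.
-/

set_option autoImplicit false
universe u
open CategoryTheory CategoryTheory.Limits AlgebraicGeometry TopologicalSpace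

namespace Groth.Agent.Lib.Helper45.RefHullDepth

open Groth.Agent.Lib.Helper45.RefHullStalk Groth.Agent.Lib.Helper45.ReflexiveDepth

section Ring

theorem two_le_of_not_le_one {d : ℕ∞} (h : ¬ d ≤ 1) : (2 : ℕ∞) ≤ d := by
  have h2 : (1 : ℕ∞) < d := not_le.mp h
  have h3 : (2 : ℕ∞) = 1 + 1 := by norm_num
  rw [h3]
  exact Order.add_one_le_of_lt h2

/-- A Noetherian normal local domain of dimension `≥ 2` has depth `≥ 2`. -/
theorem two_le_depth_of_isIntegrallyClosed (A : Type u) [CommRing A] [IsLocalRing A]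
    [IsNoetherianRing A] [IsDomain A] [IsIntegrallyClosed A] (h : ¬ ringKrullDim A ≤ 1) :
    (2 : ℕ∞) ≤ LocCoh.depth A A :=
  two_le_of_not_le_one fun hd =>
    h (Groth.Agent.Lib.Helper29.ringKrullDim_le_one_of_depth_le_one A hd)

/-- A nonzero finite torsion-free module over a Noetherian local domain which is not a field has
depth `≥ 1`. -/
theorem one_le_depth_of_isTorsionFree (A : Type u) [CommRing A] [IsLocalRing A]
    [IsNoetherianRing A] [IsDomain A] (hA : ¬ IsField A) (M : Type u) [AddCommGroup M]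
    [Module A M] [Module.Finite A M] [Module.IsTorsionFree A M] :
    (1 : ℕ∞) ≤ LocCoh.depth A M := by
  rw [Order.one_le_iff_ne_zero, Ne, Groth.Agent.Lib.Helper29.depth_eq_zero_iff]
  intro hmem
  obtain ⟨_, q, hq⟩ := (isAssociatedPrime_iff (M := M)).mp hmem
  have ne_bot : IsLocalRing.maximalIdeal A ≠ ⊥ :=
    fun h => hA (IsLocalRing.isField_iff_maximalIdeal_eq.mpr h)
  obtain ⟨a, ha₁, ha₂⟩ := Submodule.exists_mem_ne_zero_of_ne_bot ne_bot
  have hq0 : q ≠ 0 := by
    rintro rfl
    have h1 : (1 : A) ∈ IsLocalRing.maximalIdeal A := by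
      rw [hq, Submodule.mem_colon_singleton]
      simp
    exact (Ideal.ne_top_iff_one _).mp (IsLocalRing.maximalIdeal.isMaximal A).ne_top h1
  have h1 : a • q = 0 := by
    have : a ∈ (⊥ : Submodule A M).colon {q} := by rw [← hq]; exact ha₁
    simpa [Submodule.mem_colon_singleton] using this
  rcases smul_eq_zero.mp h1 with h | h
  · exact ha₂ h
  · exact hq0 h

end Ring

variable {X : Scheme.{u}} [IsLocallyNoetherian X]

theorem depth_eq_idealDepth (A : Type u) [CommRing A] [IsLocalRing A] (M : Type u)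
    [AddCommGroup M] [Module A M] :
    LocCoh.depth A M = LocCoh.idealDepth (IsLocalRing.maximalIdeal A) M := rfl

/-- `depth F_x ≥ 2` when `F_x` is reflexive and `depth O_{X,x} ≥ 2`. -/
theorem two_le_depth_stalk_of_isReflexiveAt (F : X.Modules) (hF : Coh.IsCoh F) (x : X)
    (hr : RefHull.IsReflexiveAt F x)
    (hx : (2 : ℕ∞) ≤ LocCoh.depth (X.presheaf.stalk x) (X.presheaf.stalk x)) :
    (2 : ℕ∞) ≤ LocCoh.depth (X.presheaf.stalk x) (F.presheaf.stalk x) := by
  have : Module.Finite (X.presheaf.stalk x) (F.presheaf.stalk x) :=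
    Groth.Agent.Lib.Helper12.QuasiFlat.finite_stalk_of_isCoh F hF x
  have : Module.IsReflexive (X.presheaf.stalk x) (F.presheaf.stalk x) := hr
  exact two_le_idealDepth_of_isReflexive (IsLocalRing.maximalIdeal (X.presheaf.stalk x)) hx
    (F.presheaf.stalk x)

/-- Hartogs: if `depth F_x ≥ 2` at all points of `U ∖ V` then `Γ(F, U) → Γ(F, V)` is bijective. -/
theorem res_bijective_of_depth (F : X.Modules) (hF : Coh.IsCoh F) {U V : X.Opens} (hVU : V ≤ U)
    (hdepth : ∀ x : X, x ∈ U → x ∉ V →
      (2 : ℕ∞) ≤ LocCoh.depth (X.presheaf.stalk x) (F.presheaf.stalk x)) :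
    Function.Bijective (F.presheaf.map (homOfLE hVU).op) := by
  have h := Groth.Agent.Lib.Helper80.mod_res_bijective_of_depth_on (F := F) hF V U hdepth U le_rfl
  have key : ∀ (O : X.Opens) (hO : O ≤ U), O = U ⊓ V →
      Function.Bijective (F.presheaf.map (homOfLE hO).op) := by
    intro O hO e
    subst e
    exact h
  exact key V hVU (inf_eq_right.mpr hVU).symm

/-- Depth of the kernel in a short exact sequence of coherent modules. -/
theorem two_le_depth_of_shortExact (S : ShortComplex X.Modules) (hS : S.ShortExact)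
    (h1 : Coh.IsCoh S.X₁) (h2 : Coh.IsCoh S.X₂) (h3 : Coh.IsCoh S.X₃) (x : X)
    (hE : (2 : ℕ∞) ≤ LocCoh.depth (X.presheaf.stalk x) (S.X₂.presheaf.stalk x))
    (hQ : (1 : ℕ∞) ≤ LocCoh.depth (X.presheaf.stalk x) (S.X₃.presheaf.stalk x)) :
    (2 : ℕ∞) ≤ LocCoh.depth (X.presheaf.stalk x) (S.X₁.presheaf.stalk x) := by
  have : Module.Finite (X.presheaf.stalk x) (S.X₁.presheaf.stalk x) :=
    Groth.Agent.Lib.Helper12.QuasiFlat.finite_stalk_of_isCoh _ h1 x
  have : Module.Finite (X.presheaf.stalk x) (S.X₂.presheaf.stalk x) :=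
    Groth.Agent.Lib.Helper12.QuasiFlat.finite_stalk_of_isCoh _ h2 x
  have : Module.Finite (X.presheaf.stalk x) (S.X₃.presheaf.stalk x) :=
    Groth.Agent.Lib.Helper12.QuasiFlat.finite_stalk_of_isCoh _ h3 x
  have := hS.mono_f
  have := hS.epi_g
  exact two_le_idealDepth_of_exact (IsLocalRing.maximalIdeal (X.presheaf.stalk x))
    (Groth.Agent.Lib.Helper49.stalkMapLinear S.f x) (Groth.Agent.Lib.Helper49.stalkMapLinear S.g x)
    (Groth.Agent.Lib.Helper49.stalkMap_injective_of_mono S.f x)
    (Groth.Agent.Lib.Helper49.stalkMap_surjective_of_epi S.g x)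
    (Groth.Agent.Lib.Helper49.stalkMap_exact_of_shortExact S hS x) hE hQ

end Groth.Agent.Lib.Helper45.RefHullDepth
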