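import Mathlib
import Groth.Agent.Lib.Helper45.RefHullStalk
import Groth.Agent.Lib.Helper45.SummandFree

/-!
# The morphism `O_X ⟶ F` defined by a global section

Shared library of helper45 (namespace `Groth.Agent.Lib.Helper45.SectionHom`).
-/

set_option autoImplicit false
universe u
open CategoryTheory CategoryTheory.Limits AlgebraicGeometry TopologicalSpace Opposite

namespace Groth.Agent.Lib.Helper45.SectionHom

open Groth.Agent.Lib.Helper45.RefHullStalk Groth.Agent.Lib.Helper45.RefHullBasic

variable {X : Scheme.{u}} (F : X.Modules)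

/-- The morphism `O_X ⟶ F`, `a ↦ a • s`, defined by a global section `s` of `F`. -/
noncomputable def sectionHom (s : Γ(F, ⊤)) : Coh.structureModule X ⟶ F :=
  (SheafOfModules.unitHomEquiv F).symm
    ((Groth.Agent.Lib.Helper45.SummandFree.sectionsEquiv (R := X.ringCatSheaf)
      (T := (⊤ : X.Opens)) Limits.isTerminalTop F).symm s)

theorem sectionHom_app_top_one (s : Γ(F, ⊤)) :
    (sectionHom F s).app ⊤ (1 : Γ(X, ⊤)) = s := by
  have h1 := SheafOfModules.unitHomEquiv_apply_coe F (sectionHom F s) (op (⊤ : X.Opens))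
  rw [sectionHom, Equiv.apply_symm_apply] at h1
  have h2 := (Groth.Agent.Lib.Helper45.SummandFree.sectionsEquiv (R := X.ringCatSheaf)
      (T := (⊤ : X.Opens)) Limits.isTerminalTop F).apply_symm_apply s
  exact h1.symm.trans h2

theorem sectionHom_app (s : Γ(F, ⊤)) (W : X.Opens) (a : Γ(X, W)) :
    (sectionHom F s).app W a = a • F.presheaf.map (homOfLE le_top).op s := by
  rw [unit_app_eq, sectionHom_app_top_one]

/-- On stalks, `sectionHom F s` is `a ↦ a • s_y`. -/
theorem stalkMap_sectionHom (s : Γ(F, ⊤)) (y : X) (a : X.presheaf.stalk y) :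
    (Groth.Agent.Lib.Helper49.stalkMap (sectionHom F s) y).hom (unitStalkMap y a) =
      a • F.presheaf.germ ⊤ y trivial s := by
  obtain ⟨U, hyU, r, rfl⟩ := TopCat.Presheaf.exists_germ_eq X.presheaf a
  rw [unitStalkMap_germ, Groth.Agent.Lib.Helper49.stalkMap_germ]
  have h1 : (sectionHom F s).app U (toMod r) = r • F.presheaf.map (homOfLE le_top).op s :=
    sectionHom_app F s U r
  rw [h1, Mero.germ_smul, TopCat.Presheaf.germ_res_apply]

theorem bijective_smul_germ_iff (s : Γ(F, ⊤)) (y : X) :
    Function.Bijective (fun a : X.presheaf.stalk y => a • F.presheaf.germ ⊤ y trivial s) ↔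
      Function.Bijective (Groth.Agent.Lib.Helper49.stalkMap (sectionHom F s) y).hom := by
  have h1 : (fun a : X.presheaf.stalk y => a • F.presheaf.germ ⊤ y trivial s) =
      (Groth.Agent.Lib.Helper49.stalkMap (sectionHom F s) y).hom ∘ (unitStalkMap y) := by
    funext a
    exact (stalkMap_sectionHom F s y a).symm
  rw [h1]
  exact Function.Bijective.of_comp_iff _ (unitStalkMap_bijective y)

theorem injective_smul_germ_iff (s : Γ(F, ⊤)) (y : X) :
    Function.Injective (fun a : X.presheaf.stalk y => a • F.presheaf.germ ⊤ y trivial s) ↔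
      Function.Injective (Groth.Agent.Lib.Helper49.stalkMap (sectionHom F s) y).hom := by
  have h1 : (fun a : X.presheaf.stalk y => a • F.presheaf.germ ⊤ y trivial s) =
      (Groth.Agent.Lib.Helper49.stalkMap (sectionHom F s) y).hom ∘ (unitStalkMap y) := by
    funext a
    exact (stalkMap_sectionHom F s y a).symm
  rw [h1]
  exact Function.Injective.of_comp_iff' _ (unitStalkMap_bijective y)

end Groth.Agent.Lib.Helper45.SectionHom
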