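import Mathlib
import Groth.Agent.Lib.Helper29.DepthExt
import Groth.Agent.Lib.Helper29.DepthLoc2

/-!
# Surjectivity at a prime from surjectivity at the smaller primes and depth

Shared library of helper45 (namespace `Groth.Agent.Lib.Helper45.DepthSurj`).

`localizedModule_map_surjective_of_depth`: let `f : P → M` be a map of finite modules over a
Noetherian ring and `q` a prime such that `f_p` is surjective for all primes `p < q`, `f_q` is
injective, `depth P_q ≥ 2` and `depth M_q ≥ 1`.  Then `f_q` is surjective.
-/

set_option autoImplicit false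
universe u

namespace Groth.Agent.Lib.Helper45.DepthSurj

open Groth.Agent.Lib.Helper29

variable {A : Type u} [CommRing A]

theorem surjective_localizedModule_map_iff {P M : Type u} [AddCommGroup P] [Module A P]
    [AddCommGroup M] [Module A M] (f : P →ₗ[A] M) (S : Submonoid A) :
    Function.Surjective (LocalizedModule.map S f) ↔
      Subsingleton (LocalizedModule S (M ⧸ LinearMap.range f)) := by
  have hex : Function.Exact f (LinearMap.range f).mkQ := LinearMap.exact_map_mkQ_range f
  have hexS := LocalizedModule.map_exact S f (LinearMap.range f).mkQ hex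
  have hsurj := LocalizedModule.map_surjective S (LinearMap.range f).mkQ
    (LinearMap.range f).mkQ_surjective
  constructor
  · intro h
    refine ⟨fun a b => ?_⟩
    have key : ∀ n : LocalizedModule S (M ⧸ LinearMap.range f), n = 0 := by
      intro n
      obtain ⟨m, rfl⟩ := hsurj n
      obtain ⟨x, rfl⟩ := h m
      exact (hexS _).mpr ⟨x, rfl⟩
    rw [key a, key b]
  · intro h m
    exact (hexS m).mp (Subsingleton.elim _ _)

theorem one_le_sub_one_of_two_le {d : ℕ∞} (h : (2 : ℕ∞) ≤ d) : (1 : ℕ∞) ≤ d - 1 := by
  induction d using ENat.recTopCoe with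
  | top => simp
  | coe n =>
    have h2 : 2 ≤ n := by exact_mod_cast h
    have : ((n - 1 : ℕ) : ℕ∞) = (n : ℕ∞) - 1 := by simp
    rw [← this]
    exact_mod_cast (by omega : 1 ≤ n - 1)

variable [IsNoetherianRing A]

theorem localizedModule_map_surjective_of_depth {P M : Type u} [AddCommGroup P] [Module A P]
    [Module.Finite A P] [AddCommGroup M] [Module A M] [Module.Finite A M]
    (f : P →ₗ[A] M) (q : Ideal A) [hq : q.IsPrime]
    (hlt : ∀ (p : Ideal A) [p.IsPrime], p < q →
      Function.Surjective (LocalizedModule.map p.primeCompl f))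
    (hinj : Function.Injective (LocalizedModule.map q.primeCompl f))
    (hP : (2 : ℕ∞) ≤ LocCoh.depth (Localization.AtPrime q) (LocalizedModule q.primeCompl P))
    (hM : (1 : ℕ∞) ≤ LocCoh.depth (Localization.AtPrime q) (LocalizedModule q.primeCompl M)) :
    Function.Surjective (LocalizedModule.map q.primeCompl f) := by
  by_contra hns
  let N := M ⧸ LinearMap.range f
  have hNq : ¬ Subsingleton (LocalizedModule q.primeCompl N) := fun h =>
    hns ((surjective_localizedModule_map_iff f q.primeCompl).mpr h)
  rw [not_subsingleton_iff_nontrivial] at hNq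
  have hsupp : ∀ (p : Ideal A) [hp : p.IsPrime],
      Module.annihilator A N ≤ p ↔ Nontrivial (LocalizedModule p.primeCompl N) := by
    intro p hp
    have h1 := Module.mem_support_iff (R := A) (M := N) (p := ⟨p, hp⟩)
    rw [Module.support_eq_zeroLocus, PrimeSpectrum.mem_zeroLocus] at h1
    exact h1
  have hmin : q ∈ (Module.annihilator A N).minimalPrimes := by
    refine ⟨⟨hq, (hsupp q).mpr hNq⟩, fun p hp hpq => ?_⟩
    obtain ⟨hp1, hp2⟩ := hp
    by_contra hne
    have hlt' : p < q := lt_of_le_of_ne hpq fun e => hne (e ▸ le_rfl)
    have h2 := (surjective_localizedModule_map_iff f p.primeCompl).mp (hlt p hlt')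
    have h3 := (hsupp p).mp hp2
    exact not_subsingleton _ h2
  have hAss : q ∈ associatedPrimes A N :=
    Module.associatedPrimes.minimalPrimes_annihilator_subset_associatedPrimes A N hmin
  have d0 := depth_localizedModule_eq_zero_of_mem_associatedPrimes A N q hAss
  have hex : Function.Exact f (LinearMap.range f).mkQ := LinearMap.exact_map_mkQ_range f
  have hexS := LocalizedModule.map_exact q.primeCompl f (LinearMap.range f).mkQ hex
  have hsurj := LocalizedModule.map_surjective q.primeCompl (LinearMap.range f).mkQ
    (LinearMap.range f).mkQ_surjective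
  have hses := (idealDepth_shortExact
    (IsLocalRing.maximalIdeal (Localization.AtPrime q))
    (LocalizedModule q.primeCompl P) (LocalizedModule q.primeCompl M)
    (LocalizedModule q.primeCompl N) (LocalizedModule.map q.primeCompl f)
    (LocalizedModule.map q.primeCompl (LinearMap.range f).mkQ) hinj hsurj hexS).2.1
  have h1 : (1 : ℕ∞) ≤ LocCoh.depth (Localization.AtPrime q) (LocalizedModule q.primeCompl N) :=
    (le_min hM (one_le_sub_one_of_two_le hP)).trans hses
  rw [d0] at h1
  exact absurd h1 (by simp)

end Groth.Agent.Lib.Helper45.DepthSurj
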