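import Mathlib
import Groth.Agent.Lib.Helper45.DepthSurj
import Groth.Agent.Lib.Helper45.AffinePoints
import Groth.Agent.Lib.Helper80.StalkGeneric
import Groth.Agent.Lib.Helper80.ModHartogsLocal

/-!
# Surjectivity of a stalk map from surjectivity at all proper generizations and depth

Shared library of helper45 (namespace `Groth.Agent.Lib.Helper45.StalkSurjCodim`).
-/

set_option autoImplicit false
set_option linter.style.haveILetI false
universe u
open CategoryTheory CategoryTheory.Limits AlgebraicGeometry TopologicalSpace Opposite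

namespace Groth.Agent.Lib.Helper45.StalkSurjCodim

open Groth.Agent.Lib.Helper45 Groth.Agent.Lib.Helper49 Groth.Agent.Lib.Helper80

attribute [local instance] stalkModuleSections

variable {X : Scheme.{u}} [IsLocallyNoetherian X]

/-- Let `φ : G ⟶ F` be a morphism of coherent modules on a locally Noetherian scheme and `z` a
point with `depth G_z ≥ 2`, `depth F_z ≥ 1` such that `φ_z` is injective and `φ_y` is surjective for
every proper generization `y` of `z`.  Then `φ_z` is surjective. -/
theorem stalkMap_surjective_of_depth {G F : X.Modules} (hG : Coh.IsCoh G) (hF : Coh.IsCoh F)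
    (φ : G ⟶ F) (z : X)
    (hGz : (2 : ℕ∞) ≤ LocCoh.depth (X.presheaf.stalk z) (G.presheaf.stalk z))
    (hFz : (1 : ℕ∞) ≤ LocCoh.depth (X.presheaf.stalk z) (F.presheaf.stalk z))
    (hinj : Function.Injective (stalkMap φ z).hom)
    (hgen : ∀ y : X, y ⤳ z → y ≠ z → Function.Surjective (stalkMap φ y).hom) :
    Function.Surjective (stalkMap φ z).hom := by
  have : G.IsQuasicoherent := hG.1
  have : F.IsQuasicoherent := hF.1
  obtain ⟨_, ⟨W, hW : IsAffineOpen W, rfl⟩, hzW, -⟩ :=
    X.isBasis_affineOpens.exists_subset_of_mem_open (Set.mem_univ z) isOpen_univ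
  obtain ⟨w, rfl⟩ : ∃ w : W, (w : X) = z := ⟨⟨z, hzW⟩, rfl⟩
  haveI : IsNoetherianRing Γ(X, W) := IsLocallyNoetherian.component_noetherian ⟨W, hW⟩
  haveI : Module.Finite Γ(X, W) Γ(G, W) := finite_sections_of_isCoh hW G hG
  haveI : Module.Finite Γ(X, W) Γ(F, W) := finite_sections_of_isCoh hW F hF
  rw [stalkMap_surjective_iff_localized φ hW w]
  rw [stalkMap_injective_iff_localized φ hW w] at hinj
  rw [depth_stalk_eq G hG hW w] at hGz
  rw [depth_stalk_eq F hF hW w] at hFz
  refine Groth.Agent.Lib.Helper45.DepthSurj.localizedModule_map_surjective_of_depth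
    (Groth.Agent.Lib.Helper49.appₗ φ W) (hW.primeIdealOf w).asIdeal ?_ hinj hGz hFz
  intro p hp hlt
  obtain ⟨y, hy⟩ := exists_primeIdealOf_eq hW ⟨p, hp⟩
  have hpy : p = (hW.primeIdealOf y).asIdeal := by rw [hy]
  subst hpy
  have hsp : (y : X) ⤳ (w : X) := (primeIdealOf_le_iff hW w y).mp hlt.le
  have hne : (y : X) ≠ (w : X) := by
    intro e
    have : y = w := Subtype.ext e
    rw [this] at hlt
    exact lt_irrefl _ hlt
  exact (stalkMap_surjective_iff_localized φ hW y).mp (hgen y hsp hne)

end Groth.Agent.Lib.Helper45.StalkSurjCodim
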