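import Mathlib
import Groth.Agent.Lib.Helper45.SectionHom
import Groth.Agent.Lib.Helper45.StalkSurjCodim
import Groth.Agent.Lib.Helper45.RefHullDepth
import Groth.Agent.Lib.Helper45.InvBasis
import Groth.Agent.Lib.Helper49.RestrictStalk

/-!
# Sections of rank one reflexive modules on integral schemes

Shared library of helper45 (namespace `Groth.Agent.Lib.Helper45.Rank1Section`).

* `eq_genericPoint_of_isField`: on an integral scheme the only point whose local ring is a field
  is the generic point.
* `exists_generator_stalk_of_isInvertible`, `exists_generator_stalk_genericPoint`: the stalk of a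
  generically invertible module at the generic point is cyclic.
* `germ_genericPoint_ne_zero`: a nonzero global section of a coherent module with `depth ≥ 1` away
  from the generic point has a nonzero germ at the generic point.
-/

set_option autoImplicit false
set_option linter.style.haveILetI false
universe u
open CategoryTheory CategoryTheory.Limits AlgebraicGeometry TopologicalSpace Opposite

namespace Groth.Agent.Lib.Helper45.Rank1Section

open Groth.Agent.Lib.Helper45 Groth.Agent.Lib.Helper49 Groth.Agent.Lib.Helper80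
open Groth.Agent.Lib.Helper45.RefHullBasic

section OpenImm

variable {X Y : Scheme.{u}} (f : Y ⟶ X) [IsOpenImmersion f] (F : X.Modules)

/-- If `F|_Y` is invertible, the stalk of `F` at any point of (the image of) `Y` is cyclic. -/
theorem exists_generator_stalk_of_isInvertible (hL : PicF.IsInvertible (F.restrict f)) (y : Y) :
    ∃ g : F.presheaf.stalk (f y), ∀ a : F.presheaf.stalk (f y),
      ∃ c : X.presheaf.stalk (f y), a = c • g := by
  obtain ⟨V, hyV, t, ht⟩ := exists_isBasisOn_of_isInvertible hL y
  refine ⟨F.presheaf.germ (f ''ᵁ V) (f y) ⟨y, hyV, rfl⟩ (toX f F t), fun a => ?_⟩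
  obtain ⟨W, hyW, m, rfl⟩ := exists_germ_image_eq f F y a
  have hle : W ⊓ V ≤ V := inf_le_right
  have hle' : W ⊓ V ≤ W := inf_le_left
  have hy' : y ∈ W ⊓ V := ⟨hyW, hyV⟩
  obtain ⟨r, hr⟩ := (ht (W ⊓ V) hle).2 ((F.restrict f).presheaf.map (homOfLE hle').op m)
  refine ⟨germY f y hy' r, ?_⟩
  have h1 := germ_restrict_map f F (homOfLE hle') m y hy'
  have h2 := germ_restrict_smul' f F (W ⊓ V) r (mres (F.restrict f) hle t) y hy'
  have h3 := germ_restrict_map f F (homOfLE hle) t y hy'
  change r • mres (F.restrict f) hle t = _ at hr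
  rw [← hr] at h1
  rw [mres_apply] at h2
  rw [h3] at h2
  rw [mres_apply] at h1
  exact h1.symm.trans h2

end OpenImm

variable {X : Scheme.{u}} [IsIntegral X]

/-- On an integral scheme the only point whose local ring is a field is the generic point. -/
theorem eq_genericPoint_of_isField (x : X) (h : IsField (X.presheaf.stalk x)) :
    x = genericPoint X := by
  have h0 := ringKrullDim_eq_zero_of_isField h
  rw [ringKrullDim_stalk_eq_coheight] at h0
  have h1 : Order.coheight x = 0 := by exact_mod_cast h0
  rw [Order.coheight_eq_zero] at h1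
  have h2 : x ≤ genericPoint X := Scheme.le_iff_specializes.mpr (genericPoint_specializes x)
  have h3 : x ⤳ genericPoint X := Scheme.le_iff_specializes.mp (h1 h2)
  exact (h3.antisymm (genericPoint_specializes x)).eq

/-- The stalk of a generically invertible module at the generic point is cyclic. -/
theorem exists_generator_stalk_genericPoint (F : X.Modules) (h : RefHull.GenInvertible F) :
    ∃ g : F.presheaf.stalk (genericPoint X), ∀ a : F.presheaf.stalk (genericPoint X),
      ∃ c : X.presheaf.stalk (genericPoint X), a = c • g := by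
  obtain ⟨U₀, hd, hL⟩ := h
  have hη : genericPoint X ∈ U₀ := by
    have := ((genericPoint_spec X).mem_open_set_iff U₀.isOpen).mpr
      (by simpa using hd.nonempty)
    exact this
  have key : ∀ x : X, x ∈ U₀ → ∃ g : F.presheaf.stalk x, ∀ a : F.presheaf.stalk x,
      ∃ c : X.presheaf.stalk x, a = c • g := by
    intro x hx
    obtain ⟨y, rfl⟩ : ∃ y : (↑U₀ : Scheme.{u}), U₀.ι y = x := ⟨⟨x, hx⟩, rfl⟩
    exact exists_generator_stalk_of_isInvertible U₀.ι F hL y
  exact key _ hη

variable [IsLocallyNoetherian X]

/-- A nonzero global section of a coherent module which has depth `≥ 1` away from the generic point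
has a nonzero germ at the generic point. -/
theorem germ_genericPoint_ne_zero (F : X.Modules) (hF : Coh.IsCoh F)
    (hdepth : ∀ x : X, x ≠ genericPoint X →
      (1 : ℕ∞) ≤ LocCoh.depth (X.presheaf.stalk x) (F.presheaf.stalk x))
    (s : Γ(F, ⊤)) (hs : s ≠ 0) : F.presheaf.germ ⊤ (genericPoint X) trivial s ≠ 0 := by
  intro h0
  have h0' : F.presheaf.germ ⊤ (genericPoint X) trivial s =
      F.presheaf.germ ⊤ (genericPoint X) trivial (0 : Γ(F, ⊤)) := by
    rw [h0, map_zero]
  obtain ⟨U, hηU, i, i', hU⟩ := TopCat.Presheaf.germ_eq F.presheaf (U := ⊤) (V := ⊤)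
    (genericPoint X) trivial trivial s 0 h0'
  rw [map_zero] at hU
  have hinj := mod_res_injective_of_depth_on (F := F) hF U ⊤
    (fun x _ hxU => hdepth x (by rintro rfl; exact hxU hηU)) ⊤ le_rfl
  apply hs
  apply hinj
  rw [map_zero]
  have hle : (⊤ : X.Opens) ⊓ U ≤ U := inf_le_right
  have h1 : F.presheaf.map (homOfLE (inf_le_left : (⊤ : X.Opens) ⊓ U ≤ ⊤)).op s =
      F.presheaf.map (homOfLE hle).op (F.presheaf.map i.op s) := by
    rw [← ConcreteCategory.comp_apply, ← F.presheaf.map_comp]
    rfl
  change F.presheaf.map (homOfLE (inf_le_left : (⊤ : X.Opens) ⊓ U ≤ ⊤)).op s = 0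
  rw [h1, hU, map_zero]

/-- All germs of a nonzero global section are nonzero (under the hypotheses of
`germ_genericPoint_ne_zero`). -/
theorem germ_ne_zero (F : X.Modules) (hF : Coh.IsCoh F)
    (hdepth : ∀ x : X, x ≠ genericPoint X →
      (1 : ℕ∞) ≤ LocCoh.depth (X.presheaf.stalk x) (F.presheaf.stalk x))
    (s : Γ(F, ⊤)) (hs : s ≠ 0) (y : X) : F.presheaf.germ ⊤ y trivial s ≠ 0 := by
  intro h0
  have h0' : F.presheaf.germ ⊤ y trivial s = F.presheaf.germ ⊤ y trivial (0 : Γ(F, ⊤)) := by
    rw [h0, map_zero]
  obtain ⟨U, hyU, i, i', hU⟩ := TopCat.Presheaf.germ_eq F.presheaf (U := ⊤) (V := ⊤) y trivial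
    trivial s 0 h0'
  rw [map_zero] at hU
  have hηU : genericPoint X ∈ U := (genericPoint_specializes y).mem_open U.isOpen hyU
  apply germ_genericPoint_ne_zero F hF hdepth s hs
  have := TopCat.Presheaf.germ_res_apply F.presheaf i (genericPoint X) hηU s
  rw [← this, hU, map_zero]

end Groth.Agent.Lib.Helper45.Rank1Section
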