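import Mathlib

/-!
# Reflexive modules of rank one over a Noetherian unique factorization domain are free

Shared library of helper45 (namespace `Groth.Agent.Lib.Helper45.ReflexiveUFD`).

* `exists_maximal_common_divisor`: a nonzero ideal `J` of a Noetherian domain has a common divisor
  `d` of its elements which is maximal (`d * w` a common divisor implies `w` a unit).
* `nonempty_linearEquiv_of_isReflexive_ideal`: a nonzero ideal of a Noetherian UFD which is
  reflexive as a module is isomorphic to the ring.
* `nonempty_linearEquiv_self_of_isReflexive_rank_one`: a reflexive module of rank one over a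
  Noetherian UFD is free of rank one.
-/

set_option autoImplicit false
set_option linter.style.haveILetI false

namespace Groth.Agent.Lib.Helper45.ReflexiveUFD

variable {A : Type*} [CommRing A] [IsDomain A]

/-- A nonzero ideal of a Noetherian domain has a maximal common divisor of its elements. -/
theorem exists_maximal_common_divisor [IsNoetherianRing A] (J : Ideal A) {a₀ : A} (ha₀ : a₀ ∈ J)
    (h0 : a₀ ≠ 0) :
    ∃ d : A, (∀ a ∈ J, d ∣ a) ∧ ∀ w : A, (∀ a ∈ J, d * w ∣ a) → IsUnit w := by
  -- the family of ideals `(e)` with `e * v = a₀`, `v` a common divisor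
  let S : Set (Ideal A) := {I | ∃ v e : A, (∀ a ∈ J, v ∣ a) ∧ e * v = a₀ ∧ I = Ideal.span {e}}
  have hSne : S.Nonempty := ⟨Ideal.span {a₀}, 1, a₀, fun a _ => one_dvd a, mul_one a₀, rfl⟩
  obtain ⟨I, hIS, hmax⟩ := (wellFounded_gt (α := Ideal A)).has_min S hSne
  obtain ⟨d, e, hd, hed, rfl⟩ := hIS
  refine ⟨d, hd, fun w hw => ?_⟩
  -- `d * w` is a common divisor, so divides `a₀`
  obtain ⟨e', he'⟩ := hw a₀ ha₀
  -- a₀ = d * w * e'
  have hmem : Ideal.span {e'} ∈ S := ⟨d * w, e', hw, by rw [he']; ring, rfl⟩
  have hd0 : d ≠ 0 := by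
    rintro rfl
    rw [mul_zero] at hed
    exact h0 hed.symm
  have hee' : e = w * e' := by
    have : e * d = (w * e') * d := by rw [hed, he']; ring
    exact mul_right_cancel₀ hd0 this
  have hle : Ideal.span {e} ≤ Ideal.span {e'} := by
    rw [Ideal.span_singleton_le_span_singleton]
    exact ⟨w, by rw [hee']; ring⟩
  have hnot : ¬ Ideal.span {e} < Ideal.span {e'} := fun hlt => hmax _ hmem hlt
  have heq : Ideal.span {e'} ≤ Ideal.span {e} := by
    by_contra hcon
    exact hnot (lt_of_le_not_ge hle hcon)
  rw [Ideal.span_singleton_le_span_singleton] at heq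
  obtain ⟨c, hc⟩ := heq
  -- e' = e * c = w * e' * c
  have he'0 : e' ≠ 0 := by
    rintro rfl
    rw [mul_zero] at he'
    exact h0 he'
  have h1 : e' * 1 = e' * (w * c) := by
    rw [mul_one]
    conv_lhs => rw [hc, hee']
    ring
  have h2 : (1 : A) = w * c := mul_left_cancel₀ he'0 h1
  exact IsUnit.of_mul_eq_one c h2.symm

variable [UniqueFactorizationMonoid A]

/-- A nonzero ideal of a Noetherian UFD which is reflexive as a module is free of rank one. -/
theorem nonempty_linearEquiv_of_isReflexive_ideal [IsNoetherianRing A] (J : Ideal A)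
    [Module.IsReflexive A J] (hJ : J ≠ ⊥) : Nonempty (J ≃ₗ[A] A) := by
  classical
  letI : GCDMonoid A := UniqueFactorizationMonoid.toGCDMonoid A
  obtain ⟨a₀, ha₀, h0⟩ := Submodule.exists_mem_ne_zero_of_ne_bot hJ
  obtain ⟨d, hd, hdmax⟩ := exists_maximal_common_divisor J ha₀ h0
  have hd0 : d ≠ 0 := by
    rintro rfl
    exact h0 (zero_dvd_iff.mp (hd a₀ ha₀))
  -- the quotient map `q : J → A`, `a ↦ a / d`
  choose! qf hqf using hd
  -- hqf : ∀ a ∈ J, a = d * qf a
  let q : J →ₗ[A] A :=
    { toFun := fun a => qf a.1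
      map_add' := fun a b => by
        apply mul_left_cancel₀ hd0
        rw [mul_add, ← hqf _ a.2, ← hqf _ b.2, ← hqf _ (a + b).2]
        rfl
      map_smul' := fun c a => by
        apply mul_left_cancel₀ hd0
        rw [RingHom.id_apply, smul_eq_mul, mul_left_comm, ← hqf _ a.2, ← hqf _ (c • a).2]
        rfl }
  have hq : ∀ a : J, (a : A) = d * q a := fun a => hqf _ a.2
  have hqinj : Function.Injective q := by
    intro a b hab
    apply Subtype.ext
    rw [hq a, hq b, hab]
  -- every functional is a multiple of `q`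
  have hgen : ∀ φ : Module.Dual A J, ∃ c : A, φ = c • q := by
    intro φ
    let α₀ : J := ⟨a₀, ha₀⟩
    have hq0 : q α₀ ≠ 0 := by
      intro h
      apply h0
      have := hq α₀
      rw [h, mul_zero] at this
      exact this
    set u := φ α₀ with hu
    have hcross : ∀ a : J, q α₀ * φ a = q a * u := by
      intro a
      have h1 : (a : A) • α₀ = (α₀ : A) • a := by
        apply Subtype.ext
        change (a : A) * a₀ = a₀ * (a : A)
        ring
      have h2 := congrArg φ h1
      rw [map_smul, map_smul, smul_eq_mul, smul_eq_mul] at h2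
      -- h2 : a * u = a₀ * φ a
      apply mul_left_cancel₀ hd0
      have : (α₀ : A) = d * q α₀ := hq α₀
      calc d * (q α₀ * φ a) = (d * q α₀) * φ a := by ring
        _ = a₀ * φ a := by rw [← this]
        _ = (a : A) * u := h2.symm
        _ = (d * q a) * u := by rw [← hq a]
        _ = d * (q a * u) := by ring
    obtain ⟨g, v, w, hv, hw, hvw⟩ : ∃ g v w : A, q α₀ = g * v ∧ u = g * w ∧ IsUnit (gcd v w) := by
      obtain ⟨v, w, hv, hw, hvw⟩ := extract_gcd (q α₀) u
      exact ⟨_, v, w, hv, hw, hvw⟩
    have hrel : IsRelPrime v w := (gcd_isUnit_iff_isRelPrime).mp hvw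
    have hg0 : g ≠ 0 := by
      rintro rfl
      rw [zero_mul] at hv
      exact hq0 hv
    have hvdvd : ∀ a : J, v ∣ q a := by
      intro a
      have h1 := hcross a
      rw [hv, hw] at h1
      have h2 : v * φ a = q a * w := by
        apply mul_left_cancel₀ hg0
        calc g * (v * φ a) = g * v * φ a := by ring
          _ = q a * (g * w) := h1
          _ = g * (q a * w) := by ring
      exact hrel.dvd_of_dvd_mul_right ⟨φ a, h2.symm⟩
    have hvunit : IsUnit v := by
      apply hdmax
      intro a ha
      obtain ⟨c, hc⟩ := hvdvd ⟨a, ha⟩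
      refine ⟨c, ?_⟩
      have h3 : a = d * q ⟨a, ha⟩ := hq ⟨a, ha⟩
      rw [h3, hc]
      ring
    obtain ⟨v', hv'⟩ := hvunit.exists_right_inv
    -- u = q α₀ * (v' * w)
    refine ⟨v' * w, ?_⟩
    ext a
    rw [LinearMap.smul_apply, smul_eq_mul]
    apply mul_left_cancel₀ hq0
    rw [hcross a]
    have hu' : u = q α₀ * (v' * w) := by
      rw [hw, hv]
      calc g * w = g * (v * v') * w := by rw [hv', mul_one]
        _ = g * v * (v' * w) := by ring
    rw [hu']
    ring
  -- the functional `ξ₁ : c • q ↦ c`
  have hq_ne : q ≠ 0 := by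
    intro h
    apply h0
    have := hq ⟨a₀, ha₀⟩
    rw [h, LinearMap.zero_apply, mul_zero] at this
    exact this
  have hbij : Function.Bijective (LinearMap.toSpanSingleton A (Module.Dual A J) q) := by
    constructor
    · rw [← LinearMap.ker_eq_bot, LinearMap.ker_eq_bot']
      intro c hc
      rw [LinearMap.toSpanSingleton_apply] at hc
      by_contra hc0
      apply hq_ne
      ext a
      have := congrArg (fun ψ : Module.Dual A J => ψ a) hc
      simp only [LinearMap.smul_apply, smul_eq_mul, LinearMap.zero_apply] at this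
      rcases mul_eq_zero.mp this with h | h
      · exact absurd h hc0
      · exact h
    · intro φ
      obtain ⟨c, hc⟩ := hgen φ
      exact ⟨c, by rw [LinearMap.toSpanSingleton_apply, hc]⟩
  let E : A ≃ₗ[A] Module.Dual A J := LinearEquiv.ofBijective _ hbij
  let ξ₁ : Module.Dual A (Module.Dual A J) := E.symm.toLinearMap
  obtain ⟨a₁, ha₁⟩ := (Module.bijective_dual_eval A J).2 ξ₁
  have h1 : q a₁ = 1 := by
    have := congrArg (fun ξ : Module.Dual A (Module.Dual A J) => ξ q) ha₁
    simp only [Module.Dual.eval_apply] at this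
    rw [this]
    change E.symm q = 1
    rw [LinearEquiv.symm_apply_eq]
    change q = LinearMap.toSpanSingleton A (Module.Dual A J) q 1
    rw [LinearMap.toSpanSingleton_apply, one_smul]
  have hqsurj : Function.Surjective q := by
    intro c
    exact ⟨c • a₁, by rw [map_smul, h1, smul_eq_mul, mul_one]⟩
  exact ⟨LinearEquiv.ofBijective q ⟨hqinj, hqsurj⟩⟩

/-- A reflexive module of rank one over a Noetherian UFD is free of rank one. -/
theorem nonempty_linearEquiv_self_of_isReflexive_rank_one [IsNoetherianRing A] (N : Type*)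
    [AddCommGroup N] [Module A N] [Module.IsReflexive A N] (n₀ : N) (hn₀ : n₀ ≠ 0)
    (hrk : ∀ n : N, ∃ a b : A, b ≠ 0 ∧ b • n = a • n₀) : Nonempty (N ≃ₗ[A] A) := by
  have hev : Module.Dual.eval A N n₀ ≠ 0 := by
    intro h
    exact hn₀ ((Module.bijective_dual_eval A N).1 (by rw [h, map_zero]))
  obtain ⟨ψ, hψ⟩ : ∃ ψ : Module.Dual A N, ψ n₀ ≠ 0 := by
    by_contra hcon
    push Not at hcon
    exact hev (LinearMap.ext hcon)
  have hinj : Function.Injective ψ := by
    rw [← LinearMap.ker_eq_bot, LinearMap.ker_eq_bot']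
    intro n hn
    obtain ⟨a, b, hb, hab⟩ := hrk n
    have h1 : a * ψ n₀ = 0 := by
      have := congrArg ψ hab
      rw [map_smul, map_smul, hn, smul_zero, smul_eq_mul] at this
      exact this.symm
    have ha : a = 0 := (mul_eq_zero.mp h1).resolve_right hψ
    rw [ha, zero_smul] at hab
    exact (smul_eq_zero.mp hab).resolve_left hb
  let J : Ideal A := LinearMap.range ψ
  let e : N ≃ₗ[A] J := LinearEquiv.ofInjective ψ hinj
  haveI : Module.IsReflexive A J := Module.equiv e
  have hJ : J ≠ ⊥ := by
    intro h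
    have : ψ n₀ ∈ J := LinearMap.mem_range_self ψ n₀
    rw [h, Submodule.mem_bot] at this
    exact hψ this
  obtain ⟨e'⟩ := nonempty_linearEquiv_of_isReflexive_ideal J hJ
  exact ⟨e.trans e'⟩

end Groth.Agent.Lib.Helper45.ReflexiveUFD
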