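import Mathlib
import Groth.Agent.Lib.Helper45.Rank1Section
import Groth.Agent.Lib.Helper45.ReflexiveUFD
import Groth.Agent.Lib.Helper45.FiniteType
import Groth.Agent.Lib.Helper45.IdealModSections
import Groth.Agent.Lib.Helper49.FreeNear

/-!
# Rank one reflexive modules with factorial stalks are invertible

Shared library of helper45 (namespace `Groth.Agent.Lib.Helper45.Rank1Invertible`).
-/

set_option autoImplicit false
set_option linter.style.haveILetI false
universe u
open CategoryTheory CategoryTheory.Limits AlgebraicGeometry TopologicalSpace Opposite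

namespace Groth.Agent.Lib.Helper45.Rank1Invertible

open Groth.Agent.Lib.Helper45 Groth.Agent.Lib.Helper49
open Groth.Agent.Lib.Helper45.RefHullBasic

section Alg

/-- Transfer of a one-element basis of `LocalizedModule.Away r N` to any other model of the
localization away from `r`. -/
theorem nonempty_linearEquiv_self_of_basis_unit {A : Type*} [CommRing A] (r : A)
    {N : Type*} [AddCommGroup N] [Module A N]
    (Ar : Type*) [CommRing Ar] [Algebra A Ar] [IsLocalization.Away r Ar]
    {Nr : Type*} [AddCommGroup Nr] [Module A Nr] [Module Ar Nr] [IsScalarTower A Ar Nr]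
    (ρ : N →ₗ[A] Nr) [IsLocalizedModule.Away r ρ]
    (b : Module.Basis Unit (Localization.Away r) (LocalizedModule.Away r N)) :
    Nonempty (Nr ≃ₗ[Ar] Ar) := by
  let σ : Localization.Away r ≃ₐ[A] Ar := IsLocalization.algEquiv (Submonoid.powers r) _ _
  let _ : Module (Localization.Away r) Nr := Module.compHom Nr (σ : Localization.Away r →+* Ar)
  have : IsScalarTower A (Localization.Away r) Nr := by
    constructor
    intro a c x
    change σ (a • c) • x = a • (σ c • x)
    rw [map_smul, smul_assoc]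
  let τ : LocalizedModule.Away r N ≃ₗ[A] Nr := IsLocalizedModule.iso (Submonoid.powers r) ρ
  let τ' : LocalizedModule.Away r N ≃ₗ[Localization.Away r] Nr :=
    τ.extendScalarsOfIsLocalization (Submonoid.powers r) (Localization.Away r)
  let B' := b.map τ'
  let B'' : Module.Basis Unit Ar Nr := B'.mapCoeffs σ.toRingEquiv (fun c x => rfl)
  exact ⟨B''.equivFun.trans (LinearEquiv.funUnique Unit Ar Ar)⟩

end Alg

section OpenImm

variable {X Y : Scheme.{u}} (f : Y ⟶ X) [IsOpenImmersion f] (F : X.Modules)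

/-- If `F|_Y` is invertible, the stalk of `F` at any point of (the image of) `Y` is generated by a
nonzero element. -/
theorem exists_generator_ne_zero_of_isInvertible (hL : PicF.IsInvertible (F.restrict f)) (y : Y) :
    ∃ g : F.presheaf.stalk (f y), g ≠ 0 ∧ ∀ a : F.presheaf.stalk (f y),
      ∃ c : X.presheaf.stalk (f y), a = c • g := by
  obtain ⟨V, hyV, t, ht⟩ := exists_isBasisOn_of_isInvertible hL y
  refine ⟨F.presheaf.germ (f ''ᵁ V) (f y) ⟨y, hyV, rfl⟩ (toX f F t), ?_, fun a => ?_⟩
  · intro h0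
    have h0' : F.presheaf.germ (f ''ᵁ V) (f y) ⟨y, hyV, rfl⟩ (toX f F t) =
        F.presheaf.germ (f ''ᵁ V) (f y) ⟨y, hyV, rfl⟩ (0 : Γ(F, f ''ᵁ V)) := by
      rw [h0, map_zero]
    obtain ⟨O, hyO, i, i', hO⟩ := TopCat.Presheaf.germ_eq F.presheaf (U := f ''ᵁ V)
      (V := f ''ᵁ V) (f y) ⟨y, hyV, rfl⟩ ⟨y, hyV, rfl⟩ (toX f F t) 0 h0'
    rw [map_zero] at hO
    let W' : Y.Opens := f ⁻¹ᵁ O ⊓ V
    have hW'V : W' ≤ V := inf_le_right
    have hyW' : y ∈ W' := ⟨hyO, hyV⟩
    have hle : f ''ᵁ W' ≤ O := by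
      rintro _ ⟨z, hz, rfl⟩
      exact hz.1
    have h1 : mres (F.restrict f) hW'V t = 0 := by
      rw [mres_apply]
      change F.presheaf.map (f.opensFunctor.map (homOfLE hW'V)).op (toX f F t) = 0
      have : F.presheaf.map (f.opensFunctor.map (homOfLE hW'V)).op (toX f F t) =
          F.presheaf.map (homOfLE hle).op (F.presheaf.map i.op (toX f F t)) := by
        rw [← ConcreteCategory.comp_apply, ← F.presheaf.map_comp]
        rfl
      rw [this, hO, map_zero]
    haveI : Nonempty W' := ⟨⟨y, hyW'⟩⟩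
    have h2 := (ht W' hW'V).1
    have h3 : (1 : Γ(Y, W')) = 0 := by
      apply h2
      change (1 : Γ(Y, W')) • mres (F.restrict f) hW'V t = (0 : Γ(Y, W')) • mres (F.restrict f) hW'V t
      rw [h1, smul_zero, smul_zero]
    exact one_ne_zero h3
  · obtain ⟨W, hyW, m, rfl⟩ := exists_germ_image_eq f F y a
    have hle : W ⊓ V ≤ V := inf_le_right
    have hle' : W ⊓ V ≤ W := inf_le_left
    have hy' : y ∈ W ⊓ V := ⟨hyW, hyV⟩
    obtain ⟨r, hr⟩ := (ht (W ⊓ V) hle).2 ((F.restrict f).presheaf.map (homOfLE hle').op m)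
    refine ⟨germY f y hy' r, ?_⟩
    have h1 := germ_restrict_map f F (homOfLE hle') m y hy'
    have h2 := germ_restrict_smul' f F (W ⊓ V) r (mres (F.restrict f) hle t) y hy'
    have h3 := germ_restrict_map f F (homOfLE hle) t y hy'
    change r • mres (F.restrict f) hle t = _ at hr
    rw [← hr] at h1
    rw [mres_apply] at h2
    rw [h3] at h2
    rw [mres_apply] at h1
    exact h1.symm.trans h2

end OpenImm

variable {X : Scheme.{u}} [IsIntegral X]

/-- The stalk of a generically invertible module at the generic point is generated by a nonzero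
element. -/
theorem exists_generator_ne_zero_genericPoint (F : X.Modules) (h : RefHull.GenInvertible F) :
    ∃ g : F.presheaf.stalk (genericPoint X), g ≠ 0 ∧ ∀ a : F.presheaf.stalk (genericPoint X),
      ∃ c : X.presheaf.stalk (genericPoint X), a = c • g := by
  obtain ⟨U₀, hd, hL⟩ := h
  have hη : genericPoint X ∈ U₀ := by
    have := ((genericPoint_spec X).mem_open_set_iff U₀.isOpen).mpr
      (by simpa using hd.nonempty)
    exact this
  have key : ∀ x : X, x ∈ U₀ → ∃ g : F.presheaf.stalk x, g ≠ 0 ∧ ∀ a : F.presheaf.stalk x,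
      ∃ c : X.presheaf.stalk x, a = c • g := by
    intro x hx
    obtain ⟨y, rfl⟩ : ∃ y : (↑U₀ : Scheme.{u}), U₀.ι y = x := ⟨⟨x, hx⟩, rfl⟩
    exact exists_generator_ne_zero_of_isInvertible U₀.ι F hL y
  exact key _ hη

theorem isField_stalk_genericPoint : IsField (X.presheaf.stalk (genericPoint X)) := by
  have h1 : ringKrullDim (X.presheaf.stalk (genericPoint X)) = 0 := by
    rw [ringKrullDim_stalk_eq_coheight]
    have : Order.coheight (genericPoint X) = 0 := by
      rw [Order.coheight_eq_zero]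
      intro b _
      exact Scheme.le_iff_specializes.mpr (genericPoint_specializes b)
    exact_mod_cast this
  haveI : Ring.KrullDimLE 0 (X.presheaf.stalk (genericPoint X)) :=
    (Ring.krullDimLE_iff).mpr h1.le
  exact Ring.KrullDimLE.isField_of_isDomain

attribute [local instance] stalkModuleSections sectionsBasicOpenModule

/-- The rank one condition on the stalk `F_x` of a generically invertible quasi-coherent module:
there is a nonzero `n₀ ∈ F_x` of which every element is a rational multiple. -/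
theorem exists_rank_one_stalk (F : X.Modules) [F.IsQuasicoherent] (hrk : RefHull.GenInvertible F)
    (x : X) :
    ∃ n₀ : F.presheaf.stalk x, n₀ ≠ 0 ∧ ∀ n : F.presheaf.stalk x,
      ∃ a b : X.presheaf.stalk x, b ≠ 0 ∧ b • n = a • n₀ := by
  obtain ⟨_, ⟨W, hW : IsAffineOpen W, rfl⟩, hxW, -⟩ :=
    X.isBasis_affineOpens.exists_subset_of_mem_open (Set.mem_univ x) isOpen_univ
  obtain ⟨xW, rfl⟩ : ∃ xW : W, (xW : X) = x := ⟨⟨x, hxW⟩, rfl⟩
  have hηW : genericPoint X ∈ W :=
    ((genericPoint_spec X).mem_open_set_iff W.isOpen).mpr ⟨xW, trivial, hxW⟩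
  obtain ⟨ηW, hηW'⟩ : ∃ ηW : W, (ηW : X) = genericPoint X := ⟨⟨_, hηW⟩, rfl⟩
  haveI : Nonempty W := ⟨xW⟩
  haveI : IsDomain Γ(X, W) := inferInstance
  have keyg : ∀ z : X, z = genericPoint X → ∃ g : F.presheaf.stalk z, g ≠ 0 ∧
      ∀ a : F.presheaf.stalk z, ∃ c : X.presheaf.stalk z, a = c • g := by
    rintro z rfl
    exact exists_generator_ne_zero_genericPoint F hrk
  have keyf : ∀ z : X, z = genericPoint X → IsField (X.presheaf.stalk z) := by
    rintro z rfl
    exact isField_stalk_genericPoint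
  obtain ⟨g, hg0, hg⟩ := keyg (ηW : X) hηW'
  have hfield := keyf (ηW : X) hηW'
  haveI locx := hW.isLocalization_stalk xW
  haveI locη := hW.isLocalization_stalk ηW
  haveI mlocx := isLocalizedModule_germₗ hW F xW
  haveI mlocη := isLocalizedModule_germₗ hW F ηW
  have hinjx : Function.Injective (algebraMap Γ(X, W) (X.presheaf.stalk (xW : X))) :=
    IsLocalization.injective _ (Ideal.primeCompl_le_nonZeroDivisors (hW.primeIdealOf xW).asIdeal)
  have hinjη : Function.Injective (algebraMap Γ(X, W) (X.presheaf.stalk (ηW : X))) :=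
    IsLocalization.injective _ (Ideal.primeCompl_le_nonZeroDivisors (hW.primeIdealOf ηW).asIdeal)
  have hne0 : ∀ (p : Ideal Γ(X, W)) [p.IsPrime] (t : p.primeCompl), (t : Γ(X, W)) ≠ 0 := by
    intro p _ t h
    exact t.2 (by rw [h]; exact p.zero_mem)
  -- smul by a nonzero scalar on `g` is nonzero
  have hsmulg : ∀ c : X.presheaf.stalk (ηW : X), c • g = 0 → c = 0 := by
    intro c hc
    by_contra hc0
    obtain ⟨c', hc'⟩ := hfield.mul_inv_cancel hc0
    apply hg0
    have := congrArg (fun z => c' • z) hc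
    simp only [smul_zero, smul_smul] at this
    rw [mul_comm, hc', one_smul] at this
    exact this
  -- (1) a generator coming from a section over `W`
  obtain ⟨⟨m₁, s⟩, hs⟩ := IsLocalizedModule.surj (hW.primeIdealOf ηW).asIdeal.primeCompl
    (germₗ F ηW) g
  have hs' : algebraMap Γ(X, W) (X.presheaf.stalk (ηW : X)) (s : Γ(X, W)) • g = germₗ F ηW m₁ := hs
  refine ⟨germₗ F xW m₁, ?_, fun n => ?_⟩
  · -- (2) nonvanishing
    intro h0
    obtain ⟨t, ht⟩ := (IsLocalizedModule.eq_zero_iff (hW.primeIdealOf xW).asIdeal.primeCompl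
      (germₗ F xW)).mp h0
    have h1 : germₗ F ηW ((t : Γ(X, W)) • m₁) = 0 := by
      have : (t : Γ(X, W)) • m₁ = 0 := ht
      rw [this, map_zero]
    rw [map_smul, ← hs', ← algebraMap_smul (X.presheaf.stalk (ηW : X)) (t : Γ(X, W)), smul_smul,
      ← map_mul] at h1
    have h2 := hinjη ((hsmulg _ h1).trans (map_zero _).symm)
    rcases mul_eq_zero.mp h2 with h | h
    · exact hne0 _ t h
    · exact hne0 _ s h
  · -- (3) rank one
    obtain ⟨⟨m, t⟩, ht⟩ := IsLocalizedModule.surj (hW.primeIdealOf xW).asIdeal.primeCompl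
      (germₗ F xW) n
    have ht' : algebraMap Γ(X, W) (X.presheaf.stalk (xW : X)) (t : Γ(X, W)) • n = germₗ F xW m := ht
    obtain ⟨c, hc⟩ := hg (germₗ F ηW m)
    obtain ⟨⟨a', b'⟩, hab⟩ := IsLocalization.surj (hW.primeIdealOf ηW).asIdeal.primeCompl c
    have hab' : c * algebraMap Γ(X, W) (X.presheaf.stalk (ηW : X)) (b' : Γ(X, W)) =
        algebraMap Γ(X, W) (X.presheaf.stalk (ηW : X)) a' := hab
    have h1 : germₗ F ηW (((b' : Γ(X, W)) * (s : Γ(X, W))) • m - a' • m₁) = 0 := by
      rw [map_sub, map_smul, map_smul, hc, ← hs',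
        ← algebraMap_smul (X.presheaf.stalk (ηW : X)) ((b' : Γ(X, W)) * (s : Γ(X, W))),
        ← algebraMap_smul (X.presheaf.stalk (ηW : X)) a', smul_smul, smul_smul, ← hab', map_mul]
      rw [sub_eq_zero]
      congr 1
      ring
    obtain ⟨t₂, ht₂⟩ := (IsLocalizedModule.eq_zero_iff (hW.primeIdealOf ηW).asIdeal.primeCompl
      (germₗ F ηW)).mp h1
    have ht₂' : ((t₂ : Γ(X, W)) * ((b' : Γ(X, W)) * (s : Γ(X, W)))) • m =
        ((t₂ : Γ(X, W)) * a') • m₁ := by
      have : (t₂ : Γ(X, W)) • (((b' : Γ(X, W)) * (s : Γ(X, W))) • m - a' • m₁) = 0 := ht₂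
      rw [smul_sub, sub_eq_zero, smul_smul, smul_smul] at this
      exact this
    refine ⟨algebraMap Γ(X, W) (X.presheaf.stalk (xW : X)) ((t₂ : Γ(X, W)) * a'),
      algebraMap Γ(X, W) (X.presheaf.stalk (xW : X))
        (((t₂ : Γ(X, W)) * ((b' : Γ(X, W)) * (s : Γ(X, W)))) * (t : Γ(X, W))), ?_, ?_⟩
    · intro h0
      have h2 := hinjx (h0.trans (map_zero _).symm)
      rcases mul_eq_zero.mp h2 with h | h
      · rcases mul_eq_zero.mp h with h | h
        · exact hne0 _ t₂ h
        · rcases mul_eq_zero.mp h with h | h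
          · exact hne0 _ b' h
          · exact hne0 _ s h
      · exact hne0 _ t h
    · rw [map_mul, mul_smul, ht', algebraMap_smul, algebraMap_smul, ← map_smul, ← map_smul, ht₂']

variable [IsLocallyNoetherian X]

/-- A coherent reflexive module of rank one on an integral locally Noetherian scheme with factorial
local rings is invertible. -/
theorem isInvertible_of_isReflexive_of_ufd (F : X.Modules) (hF : Coh.IsCoh F)
    (hrefl : RefHull.IsReflexive F) (hrk : RefHull.GenInvertible F)
    (hufd : ∀ x : X, UniqueFactorizationMonoid (X.presheaf.stalk x)) : PicF.IsInvertible F := by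
  intro x
  haveI : F.IsQuasicoherent := hF.1
  -- the stalk is free of rank one
  haveI := hufd x
  haveI : Module.IsReflexive (X.presheaf.stalk x) (F.presheaf.stalk x) :=
    (Groth.Agent.Lib.Helper45.RefHullStalk.isReflexive_iff_forall_isReflexiveAt F hF).mp hrefl x
  obtain ⟨n₀, hn₀, hrank⟩ := exists_rank_one_stalk F hrk x
  obtain ⟨e⟩ := Groth.Agent.Lib.Helper45.ReflexiveUFD.nonempty_linearEquiv_self_of_isReflexive_rank_one
    (A := X.presheaf.stalk x) (F.presheaf.stalk x) n₀ hn₀ hrank
  -- spread out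
  obtain ⟨_, ⟨W, hW : IsAffineOpen W, rfl⟩, hxW, -⟩ :=
    X.isBasis_affineOpens.exists_subset_of_mem_open (Set.mem_univ x) isOpen_univ
  obtain ⟨xW, rfl⟩ : ∃ xW : W, (xW : X) = x := ⟨⟨x, hxW⟩, rfl⟩
  haveI : IsNoetherianRing Γ(X, W) := IsLocallyNoetherian.component_noetherian ⟨W, hW⟩
  haveI : Module.Finite Γ(X, W) Γ(F, W) := finite_sections_of_isCoh hW F hF
  haveI : Module.FinitePresentation Γ(X, W) Γ(F, W) := Module.finitePresentation_of_finite _ _
  haveI := isLocalizedModule_germₗ hW F xW
  haveI := hW.isLocalization_stalk xW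
  let b : Module.Basis Unit (X.presheaf.stalk (xW : X)) (F.presheaf.stalk (xW : X)) :=
    Module.Basis.ofEquivFun (e.trans (LinearEquiv.funUnique Unit (X.presheaf.stalk (xW : X))
      (X.presheaf.stalk (xW : X))).symm)
  obtain ⟨r, hr, b', -⟩ := Module.FinitePresentation.exists_basis_localizedModule_powers
    (hW.primeIdealOf xW).asIdeal.primeCompl (germₗ F xW) (X.presheaf.stalk (xW : X)) b
  have hx : (xW : X) ∈ X.basicOpen r := (mem_basicOpen_iff_not_mem_primeIdealOf hW xW r).mpr hr
  haveI := hW.isLocalization_basicOpen r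
  haveI := isLocalizedModule_restrictBasicOpenₗ hW F r
  obtain ⟨e'⟩ := nonempty_linearEquiv_self_of_basis_unit r Γ(X, X.basicOpen r)
    (restrictBasicOpenₗ F r) b'
  exact ⟨X.basicOpen r, hx, nonempty_restrict_iso_structureModule (hW.basicOpen r) F e'⟩

end Groth.Agent.Lib.Helper45.Rank1Invertible
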