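import Mathlib

/-!
# Reflexive modules over Noetherian domains

Shared library of helper45 (namespace `Groth.Agent.Lib.Helper45.ReflexiveAlg`).

* `dualLoc`, `ddualLoc`: the maps induced on duals / double duals by a localization of modules,
  which are again localizations for finitely presented modules; `ddualLoc_eval`.
* `exists_smul_mem_range_eval`: over a Noetherian domain the cokernel of `L → L**` is torsion for
  finite `L`.
* `isReflexive_dual`: the dual of a finite module over a Noetherian domain is reflexive.
* `isReflexive_linearMap`: `Hom(M, N)` is reflexive when `N` is (finite modules over a Noetherian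
  domain).
-/

set_option autoImplicit false
set_option linter.style.haveILetI false
open scoped TensorProduct

namespace Groth.Agent.Lib.Helper45.ReflexiveAlg

section Loc

variable {R : Type*} [CommRing R] (S : Submonoid R) (R' : Type*) [CommRing R'] [Algebra R R']
  [IsLocalization S R']
variable {M : Type*} [AddCommGroup M] [Module R M]
variable {M' : Type*} [AddCommGroup M'] [Module R M'] [Module R' M'] [IsScalarTower R R' M']
variable (f : M →ₗ[R] M') [IsLocalizedModule S f]

/-- The map induced on duals by a localization of modules. -/
noncomputable def dualLoc : Module.Dual R M →ₗ[R] Module.Dual R' M' :=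
  IsLocalizedModule.mapExtendScalars S f (Algebra.linearMap R R') R'

theorem dualLoc_apply (θ : Module.Dual R M) (m : M) :
    dualLoc S R' f θ (f m) = algebraMap R R' (θ m) := by
  simp [dualLoc, IsLocalizedModule.map_apply]

instance isLocalizedModule_dualLoc [Module.FinitePresentation R M] :
    IsLocalizedModule S (dualLoc S R' f) :=
  Module.FinitePresentation.isLocalizedModule_mapExtendScalars S f _ R'

/-- The map induced on double duals by a localization of finitely presented modules. -/
noncomputable def ddualLoc [Module.FinitePresentation R M] :
    Module.Dual R (Module.Dual R M) →ₗ[R] Module.Dual R' (Module.Dual R' M') :=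
  dualLoc S R' (dualLoc S R' f)

instance isLocalizedModule_ddualLoc [Module.FinitePresentation R M]
    [Module.FinitePresentation R (Module.Dual R M)] :
    IsLocalizedModule S (ddualLoc S R' f) :=
  isLocalizedModule_dualLoc S R' (dualLoc S R' f)

theorem ddualLoc_eval [Module.FinitePresentation R M] (m : M) :
    ddualLoc S R' f (Module.Dual.eval R M m) = Module.Dual.eval R' M' (f m) := by
  apply LinearMap.restrictScalars_injective R
  apply IsLocalizedModule.linearMap_ext S (dualLoc S R' f) (Algebra.linearMap R R')
  ext θ
  simp [ddualLoc, dualLoc_apply]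

end Loc

section Domain

variable (R : Type*) [CommRing R] [IsDomain R] [IsNoetherianRing R]
variable (L : Type*) [AddCommGroup L] [Module R L] [Module.Finite R L]

/-- Over a Noetherian domain, the cokernel of `L → L**` is torsion for a finite module `L`. -/
theorem exists_smul_mem_range_eval (α : Module.Dual R (Module.Dual R L)) :
    ∃ r : R, r ≠ 0 ∧ r • α ∈ LinearMap.range (Module.Dual.eval R L) := by
  let S := nonZeroDivisors R
  let K := FractionRing R
  let L' := LocalizedModule S L
  let f : L →ₗ[R] L' := LocalizedModule.mkLinearMap S L
  haveI : Module.FinitePresentation R L := Module.finitePresentation_of_finite R L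
  haveI : Module.Finite R (Module.Dual R L) := inferInstance
  haveI : Module.FinitePresentation R (Module.Dual R L) :=
    Module.finitePresentation_of_finite R _
  haveI : Module.Finite K L' := Module.Finite.of_isLocalizedModule S (Rₚ := K) f
  haveI : Module.IsReflexive K L' := inferInstance
  let j := ddualLoc S K f
  obtain ⟨l', hl'⟩ := (Module.bijective_dual_eval K L').2 (j α)
  obtain ⟨⟨l, s⟩, hls⟩ := IsLocalizedModule.surj S f l'
  have hls' : f l = (s : R) • l' := hls.symm
  have h1 : j ((s : R) • α - Module.Dual.eval R L l) = 0 := by
    rw [map_sub, map_smul, ddualLoc_eval, hls', ← hl', LinearMap.map_smul_of_tower, sub_self]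
  obtain ⟨t, ht⟩ := (IsLocalizedModule.eq_zero_iff S j).mp h1
  have ht' : (t : R) • ((s : R) • α - Module.Dual.eval R L l) = 0 := ht
  refine ⟨(t : R) * (s : R), mul_ne_zero (nonZeroDivisors.ne_zero t.2)
    (nonZeroDivisors.ne_zero s.2), ⟨(t : R) • l, ?_⟩⟩
  rw [smul_sub, sub_eq_zero] at ht'
  rw [map_smul, mul_smul]
  exact ht'.symm

/-- The dual of a finite module over a Noetherian domain is reflexive. -/
theorem isReflexive_dual : Module.IsReflexive R (Module.Dual R L) := by
  let T : Module.Dual R (Module.Dual R (Module.Dual R L)) →ₗ[R] Module.Dual R L :=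
    (Module.Dual.eval R L).dualMap
  have hT : ∀ θ, T (Module.Dual.eval R (Module.Dual R L) θ) = θ := by
    intro θ
    ext l
    simp [T, LinearMap.dualMap_apply]
  have hTinj : Function.Injective T := by
    rw [← LinearMap.ker_eq_bot, LinearMap.ker_eq_bot']
    intro ξ hξ
    ext α
    obtain ⟨r, hr, l, hl⟩ := exists_smul_mem_range_eval R L α
    have h1 : r * ξ α = 0 := by
      have : ξ (r • α) = 0 := by
        rw [← hl]
        have := LinearMap.congr_fun hξ l
        simpa [T, LinearMap.dualMap_apply] using this
      rwa [map_smul, smul_eq_mul] at this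
    rcases mul_eq_zero.mp h1 with h | h
    · exact absurd h hr
    · simpa using h
  refine ⟨⟨?_, ?_⟩⟩
  · exact Function.LeftInverse.injective hT
  · intro ξ
    exact ⟨T ξ, hTinj (hT (T ξ))⟩

variable (M N : Type*) [AddCommGroup M] [Module R M] [Module.Finite R M]
  [AddCommGroup N] [Module R N] [Module.Finite R N]

/-- `Hom(M, N)` is reflexive when `N` is, for finite modules over a Noetherian domain. -/
theorem isReflexive_linearMap [Module.IsReflexive R N] : Module.IsReflexive R (M →ₗ[R] N) := by
  let e : (M →ₗ[R] N) ≃ₗ[R] Module.Dual R (M ⊗[R] Module.Dual R N) :=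
    (LinearEquiv.congrRight (Module.evalEquiv R N)).trans
      (TensorProduct.lift.equiv (.id R) M (Module.Dual R N) R)
  haveI : Module.Finite R (Module.Dual R N) := inferInstance
  haveI : Module.IsReflexive R (Module.Dual R (M ⊗[R] Module.Dual R N)) :=
    isReflexive_dual R (M ⊗[R] Module.Dual R N)
  exact Module.equiv e.symm

end Domain

end Groth.Agent.Lib.Helper45.ReflexiveAlg
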