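import Mathlib
import Groth.Prelude.Def_TorSh
import Groth.Agent.Lib.Helper45.QCohStalk
import Groth.Agent.Lib.Helper45.ModulesBasic

/-!
# Sections of torsion free modules on reduced schemes are detected at generic points

Shared library of helper45 (namespace `Groth.Agent.Lib.Helper45.TorsionFreeGerm`).

* `exists_minimalPrime_ge_of_forall_not_mem_nonZeroDivisors`: in a reduced Noetherian ring an ideal
  consisting of zero divisors lies in a minimal prime.
* `exists_germ_ne_zero_of_torsionFree`: a nonzero section over an affine open of a torsion free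
  quasi-coherent module on a reduced locally Noetherian scheme has a nonzero germ at a point whose
  local ring is a field.
* `germ_injective_of_torsionFree`: if every such point of `U` specializes to `x`, then
  `Γ(F, U) → F_x` is injective.
-/

set_option autoImplicit false
set_option linter.style.haveILetI false
universe u
open CategoryTheory CategoryTheory.Limits AlgebraicGeometry TopologicalSpace Opposite

namespace Groth.Agent.Lib.Helper45.TorsionFreeGerm

open Groth.Agent.Lib.Helper45

theorem mem_nonZeroDivisors_of_forall_not_mem_minimalPrimes {R : Type*} [CommRing R]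
    [IsReduced R] (a : R) (h : ∀ p ∈ minimalPrimes R, a ∉ p) : a ∈ nonZeroDivisors R := by
  rw [mem_nonZeroDivisors_iff_right]
  intro b hb
  have h1 : b ∈ sInf ((⊥ : Ideal R).minimalPrimes) := by
    rw [Ideal.mem_sInf]
    intro p hp
    have hpp : p.IsPrime := hp.1.1
    have : b * a ∈ p := by rw [hb]; exact p.zero_mem
    exact (hpp.mem_or_mem this).resolve_right (h p hp)
  rw [Ideal.sInf_minimalPrimes] at h1
  have h2 : b ∈ nilradical R := h1
  rw [nilradical_eq_zero] at h2
  exact h2

/-- In a reduced Noetherian ring an ideal consisting of zero divisors lies in a minimal prime. -/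
theorem exists_minimalPrime_ge_of_forall_not_mem_nonZeroDivisors {R : Type*} [CommRing R]
    [IsNoetherianRing R] [IsReduced R] (I : Ideal R) (h : ∀ a ∈ I, a ∉ nonZeroDivisors R) :
    ∃ p ∈ minimalPrimes R, I ≤ p := by
  classical
  have hfin : (minimalPrimes R).Finite := minimalPrimes.finite_of_isNoetherianRing R
  have key := (Ideal.subset_union_prime (R := R) (s := hfin.toFinset) (f := fun p : Ideal R => p)
    (⊥ : Ideal R) ⊥ (fun p hp _ _ => by
      have : p ∈ minimalPrimes R := hfin.mem_toFinset.mp hp
      exact this.1.1) (I := I)).mp ?_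
  · obtain ⟨p, hp, hle⟩ := key
    exact ⟨p, hfin.mem_toFinset.mp hp, hle⟩
  · intro a ha
    by_contra hcon
    apply h a ha
    apply mem_nonZeroDivisors_of_forall_not_mem_minimalPrimes
    intro p hp hap
    apply hcon
    exact Set.mem_biUnion (show p ∈ (↑hfin.toFinset : Set (Ideal R)) from by
      simpa using hp) hap

variable {X : Scheme.{u}} [IsLocallyNoetherian X] [AlgebraicGeometry.IsReduced X]

attribute [local instance] stalkModuleSections

/-- A nonzero section over an affine open of a torsion free quasi-coherent module on a reduced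
locally Noetherian scheme has a nonzero germ at a point whose local ring is a field. -/
theorem exists_germ_ne_zero_of_torsionFree (F : X.Modules) [F.IsQuasicoherent]
    (htF : TorSh.IsTorsionFree F) {V : X.Opens} (hV : IsAffineOpen V) (t : Γ(F, V)) (ht : t ≠ 0) :
    ∃ y : V, IsField (X.presheaf.stalk (y : X)) ∧ F.presheaf.germ V y y.2 t ≠ 0 := by
  haveI : IsNoetherianRing Γ(X, V) := IsLocallyNoetherian.component_noetherian ⟨V, hV⟩
  let I : Ideal Γ(X, V) := LinearMap.ker (LinearMap.toSpanSingleton Γ(X, V) Γ(F, V) t)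
  have hI : ∀ a : Γ(X, V), a ∈ I ↔ a • t = 0 := fun a => by
    rw [LinearMap.mem_ker, LinearMap.toSpanSingleton_apply]
  have hzd : ∀ a ∈ I, a ∉ nonZeroDivisors Γ(X, V) := by
    intro a ha hnzd
    apply ht
    refine section_ext_germ F V t 0 fun z' hz' => ?_
    obtain ⟨z, rfl⟩ : ∃ z : V, (z : X) = z' := ⟨⟨z', hz'⟩, rfl⟩
    rw [map_zero]
    haveI := hV.isLocalization_stalk z
    have h1 : algebraMap Γ(X, V) (X.presheaf.stalk (z : X)) a ∈
        nonZeroDivisors (X.presheaf.stalk (z : X)) :=
      IsLocalization.map_nonZeroDivisors_le (hV.primeIdealOf z).asIdeal.primeCompl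
        (X.presheaf.stalk (z : X)) (Submonoid.mem_map_of_mem _ hnzd)
    have h2 : IsRegular (algebraMap Γ(X, V) (X.presheaf.stalk (z : X)) a) :=
      isRegular_iff_mem_nonZeroDivisors.mpr h1
    have h3 := (htF (z : X)).isSMulRegular h2
    apply h3
    change algebraMap Γ(X, V) (X.presheaf.stalk (z : X)) a • F.presheaf.germ V (z : X) hz' t =
      algebraMap Γ(X, V) (X.presheaf.stalk (z : X)) a • 0
    rw [smul_zero]
    have h4 := germ_smul F (z : X) V hz' a t
    rw [(hI a).mp ha, map_zero] at h4
    exact h4.symm
  obtain ⟨p, hp, hIp⟩ := exists_minimalPrime_ge_of_forall_not_mem_nonZeroDivisors I hzd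
  have hpp : p.IsPrime := hp.1.1
  obtain ⟨y, hy⟩ := exists_primeIdealOf_eq hV ⟨p, hpp⟩
  have hyp : (hV.primeIdealOf y).asIdeal = p := by rw [hy]
  refine ⟨y, ?_, ?_⟩
  · haveI := hV.isLocalization_stalk y
    have h1 : ringKrullDim (X.presheaf.stalk (y : X)) = (hV.primeIdealOf y).asIdeal.height :=
      IsLocalization.AtPrime.ringKrullDim_eq_height (hV.primeIdealOf y).asIdeal
        (X.presheaf.stalk (y : X))
    have h2 : (hV.primeIdealOf y).asIdeal.height = 0 := by
      rw [Ideal.height_eq_zero_iff, hyp]
      exact hp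
    haveI : Ring.KrullDimLE 0 (X.presheaf.stalk (y : X)) := by
      rw [Ring.krullDimLE_iff, h1, h2]
      rfl
    exact Ring.KrullDimLE.isField_of_isReduced
  · intro h0
    haveI := isLocalizedModule_germₗ hV F y
    have h1 : germₗ F y t = 0 := h0
    obtain ⟨c, hc⟩ := (IsLocalizedModule.eq_zero_iff (hV.primeIdealOf y).asIdeal.primeCompl
      (germₗ F y)).mp h1
    have h2 : (c : Γ(X, V)) ∈ I := (hI _).mpr hc
    have h3 : (c : Γ(X, V)) ∈ p := hIp h2
    exact c.2 (hyp.ge h3)

/-- If every point of `U` whose local ring is a field specializes to `x`, then `Γ(F, U) → F_x` is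
injective, for `F` torsion free and quasi-coherent on a reduced locally Noetherian scheme. -/
theorem germ_injective_of_torsionFree (F : X.Modules) [F.IsQuasicoherent]
    (htF : TorSh.IsTorsionFree F) (x : X) (U : X.Opens) (hxU : x ∈ U)
    (hU : ∀ y : X, y ∈ U → IsField (X.presheaf.stalk y) → y ⤳ x) :
    Function.Injective (F.presheaf.germ U x hxU) := by
  have key : ∀ s : Γ(F, U), F.presheaf.germ U x hxU s = 0 → s = 0 := by
    intro s hs
    have h0' : F.presheaf.germ U x hxU s = F.presheaf.germ U x hxU (0 : Γ(F, U)) := by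
      rw [hs, map_zero]
    obtain ⟨W, hxW, i, i', hW⟩ := TopCat.Presheaf.germ_eq F.presheaf x hxU hxU s 0 h0'
    rw [map_zero] at hW
    refine section_ext_germ F U s 0 fun y hy => ?_
    rw [map_zero]
    by_contra hne
    obtain ⟨_, ⟨V, hV : IsAffineOpen V, rfl⟩, hyV, hVU⟩ :=
      X.isBasis_affineOpens.exists_subset_of_mem_open hy U.isOpen
    have hVU' : V ≤ U := hVU
    have ht : F.presheaf.map (homOfLE hVU').op s ≠ 0 := by
      intro h
      apply hne
      rw [← TopCat.Presheaf.germ_res_apply F.presheaf (homOfLE hVU') y hyV s, h, map_zero]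
    obtain ⟨y', hfield, hgerm⟩ := exists_germ_ne_zero_of_torsionFree F htF hV _ ht
    rw [TopCat.Presheaf.germ_res_apply] at hgerm
    have hy'W : (y' : X) ∈ W := (hU y' (hVU' y'.2) hfield).mem_open W.isOpen hxW
    apply hgerm
    rw [← TopCat.Presheaf.germ_res_apply F.presheaf i (y' : X) hy'W s, hW, map_zero]
  intro a b hab
  have h1 : F.presheaf.germ U x hxU (a - b) = 0 := by
    rw [map_sub, hab, sub_self]
  exact sub_eq_zero.mp (key _ h1)

end Groth.Agent.Lib.Helper45.TorsionFreeGerm
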