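import Mathlib
import Groth.Agent.Lib.Helper45.RefHullCoh
import Groth.Agent.Lib.Helper45.RefHullStalk
import Groth.Agent.Lib.Helper45.RefHullDepth
import Groth.Agent.Lib.Helper45.Rank1Section
import Groth.Agent.Lib.Helper45.TorsionFreeGerm
import Groth.Agent.Lib.Helper45.Rank1Invertible
import Groth.Agent.Lib.Helper45.ReflexiveAlg

/-!
# Extending morphisms of coherent modules from codimension one

Shared library of helper45 (namespace `Groth.Agent.Lib.Helper45.HomExtend`).

* `homOfSection σ : G ⟶ H`: the morphism defined by a global section `σ` of `𝓗om(G, H)`, with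
  `stalkMapₗ_homOfSection`.
* `homSh_apply_stalkSpecializes`: the components of a section of `𝓗om(G, H)` commute with
  specialization maps.
* `stalkMapₗ_stalkSpecializes`: stalk maps of a morphism commute with specialization maps.
-/

set_option autoImplicit false
set_option linter.style.haveILetI false
universe u
open CategoryTheory CategoryTheory.Limits AlgebraicGeometry TopologicalSpace Opposite

namespace Groth.Agent.Lib.Helper45.HomExtend

open Groth.Agent.Lib.Helper45 Groth.Agent.Lib.Helper45.RefHullCoh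
  Groth.Agent.Lib.Helper45.RefHullHom Groth.Agent.Lib.Helper45.RefHullStalk

section General

variable {X : Scheme.{u}} {G H : X.Modules}

theorem evalSec_add_right {W : X.Opens} (h : Γ(RefHull.homSh G H, W)) (m m' : Γ(G, W)) :
    evalSec h (m + m') = evalSec h m + evalSec h m' :=
  evalSec_eq _ _ _ fun y hy => by
    rw [map_add, map_add, map_add, germ_evalSec, germ_evalSec]

theorem evalSec_smul_right {W : X.Opens} (h : Γ(RefHull.homSh G H, W)) (a : Γ(X, W))
    (m : Γ(G, W)) : evalSec h (a • m) = a • evalSec h m :=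
  evalSec_eq _ _ _ fun y hy => by
    rw [Mero.germ_smul, Mero.germ_smul, map_smul, germ_evalSec]

/-- The restriction of a global section of `𝓗om(G, H)` to an open. -/
noncomputable def resTop (σ : Γ(RefHull.homSh G H, ⊤)) (U : X.Opens) : Γ(RefHull.homSh G H, U) :=
  (RefHull.homSh G H).presheaf.map (homOfLE (le_top : U ≤ ⊤)).op σ

theorem resTop_apply (σ : Γ(RefHull.homSh G H, ⊤)) (U : X.Opens) (y : U) :
    (resTop σ U).1 y = σ.1 ⟨y.1, trivial⟩ := rfl

/-- The morphism `G ⟶ H` defined by a global section of `𝓗om(G, H)`. -/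
noncomputable def homOfSection (σ : Γ(RefHull.homSh G H, ⊤)) : G ⟶ H :=
  ⟨PresheafOfModules.homMk
    { app := fun U => AddCommGrpCat.ofHom
        { toFun := fun g => evalSec (resTop σ U.unop) g
          map_zero' := evalSec_zero_right _
          map_add' := fun a b => evalSec_add_right _ a b }
      naturality := fun {U V} i => by
        ext s
        refine evalSec_eq _ _ _ fun y hy => ?_
        change H.presheaf.germ V.unop y hy (H.presheaf.map i (evalSec (resTop σ U.unop) s)) =
          (resTop σ V.unop).1 ⟨y, hy⟩ (G.presheaf.germ V.unop y hy (G.presheaf.map i s))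
        rw [TopCat.Presheaf.germ_res_apply' H.presheaf i y hy,
          TopCat.Presheaf.germ_res_apply' G.presheaf i y hy, germ_evalSec]
        rfl }
    (fun U r s => evalSec_smul_right _ r s)⟩

theorem homOfSection_app (σ : Γ(RefHull.homSh G H, ⊤)) (U : X.Opens) (g : Γ(G, U)) :
    (homOfSection σ).app U g = evalSec (resTop σ U) g := rfl

theorem stalkMapₗ_homOfSection (σ : Γ(RefHull.homSh G H, ⊤)) (x : X) :
    RefHull.stalkMapₗ (homOfSection σ) x = σ.1 ⟨x, trivial⟩ := by
  ext γ
  obtain ⟨U, hxU, g, rfl⟩ := TopCat.Presheaf.exists_germ_eq G.presheaf γ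
  rw [RefHull.stalkMapₗ_germ, homOfSection_app, germ_evalSec, resTop_apply]

/-- Stalk maps commute with specialization. -/
theorem stalkMapₗ_stalkSpecializes (φ : G ⟶ H) {x y : X} (h : x ⤳ y) (γ : G.presheaf.stalk y) :
    RefHull.stalkMapₗ φ x (G.presheaf.stalkSpecializes h γ) =
      H.presheaf.stalkSpecializes h (RefHull.stalkMapₗ φ y γ) := by
  obtain ⟨U, hyU, g, rfl⟩ := TopCat.Presheaf.exists_germ_eq G.presheaf γ
  have hxU : x ∈ U := h.mem_open U.isOpen hyU
  rw [RefHull.stalkMapₗ_germ, TopCat.Presheaf.germ_stalkSpecializes_apply,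
    TopCat.Presheaf.germ_stalkSpecializes_apply, RefHull.stalkMapₗ_germ]

/-- The components of a section of `𝓗om(G, H)` commute with specialization. -/
theorem homSh_apply_stalkSpecializes {W : X.Opens} (σ : Γ(RefHull.homSh G H, W)) {x y : X}
    (h : x ⤳ y) (hy : y ∈ W) (γ : G.presheaf.stalk y) :
    σ.1 ⟨x, h.mem_open W.isOpen hy⟩ (G.presheaf.stalkSpecializes h γ) =
      H.presheaf.stalkSpecializes h (σ.1 ⟨y, hy⟩ γ) := by
  obtain ⟨U, hyU, g, rfl⟩ := TopCat.Presheaf.exists_germ_eq G.presheaf γ
  have hle : U ⊓ W ≤ W := inf_le_right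
  obtain ⟨W', hyW', j, n, hn⟩ := RefHull.isLocSect_of_mem σ (U ⊓ W) (homOfLE hle)
    (G.presheaf.map (homOfLE (inf_le_left : U ⊓ W ≤ U)).op g) ⟨y, hyU, hy⟩
  have hxW' : x ∈ W' := h.mem_open W'.isOpen hyW'
  have hx := hn ⟨x, hxW'⟩
  have hy' := hn ⟨y, hyW'⟩
  rw [TopCat.Presheaf.germ_res_apply] at hx hy'
  rw [TopCat.Presheaf.germ_stalkSpecializes_apply]
  refine Eq.trans hx ?_
  rw [hy', TopCat.Presheaf.germ_stalkSpecializes_apply]

end General

section Integral

variable {X : Scheme.{u}} [IsIntegral X] [IsLocallyNoetherian X]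

attribute [local instance] stalkModuleSections

/-- A section of a torsion free quasi-coherent module on an integral locally Noetherian scheme
whose germ at the generic point vanishes is zero. -/
theorem section_eq_zero_of_germ_genericPoint (Z : X.Modules) [Z.IsQuasicoherent]
    (hZ : TorSh.IsTorsionFree Z) {W : X.Opens} (s : Γ(Z, W)) (hη : genericPoint X ∈ W)
    (h0 : Z.presheaf.germ W (genericPoint X) hη s = 0) : s = 0 := by
  have key : ∀ (z : X) (hz : z ∈ W), z = genericPoint X → Z.presheaf.germ W z hz s = 0 := by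
    rintro z hz rfl
    exact h0
  refine section_ext_germ Z W s 0 fun y hy => ?_
  rw [map_zero]
  by_contra hne
  obtain ⟨_, ⟨V', hV' : IsAffineOpen V', rfl⟩, hyV', hV'W⟩ :=
    X.isBasis_affineOpens.exists_subset_of_mem_open hy W.isOpen
  have hle : V' ≤ W := hV'W
  have ht : Z.presheaf.map (homOfLE hle).op s ≠ 0 := by
    intro h
    apply hne
    rw [← TopCat.Presheaf.germ_res_apply Z.presheaf (homOfLE hle) y hyV' s, h, map_zero]
  obtain ⟨y', hfield, hgerm⟩ :=
    Groth.Agent.Lib.Helper45.TorsionFreeGerm.exists_germ_ne_zero_of_torsionFree Z hZ hV' _ ht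
  rw [TopCat.Presheaf.germ_res_apply] at hgerm
  exact hgerm (key y' (hle y'.2)
    (Groth.Agent.Lib.Helper45.Rank1Section.eq_genericPoint_of_isField _ hfield))

/-- For a torsion free quasi-coherent module the specialization maps to the generic stalk are
injective. -/
theorem stalkSpecializes_eq_zero (Z : X.Modules) [Z.IsQuasicoherent]
    (hZ : TorSh.IsTorsionFree Z) (x : X) (ζ : Z.presheaf.stalk x)
    (h0 : Z.presheaf.stalkSpecializes (genericPoint_specializes x) ζ = 0) : ζ = 0 := by
  obtain ⟨W, hxW, n, rfl⟩ := TopCat.Presheaf.exists_germ_eq Z.presheaf ζ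
  rw [TopCat.Presheaf.germ_stalkSpecializes_apply] at h0
  rw [section_eq_zero_of_germ_genericPoint Z hZ n _ h0, map_zero]

theorem stalkSpecializes_injective (Z : X.Modules) [Z.IsQuasicoherent]
    (hZ : TorSh.IsTorsionFree Z) (x : X) :
    Function.Injective (Z.presheaf.stalkSpecializes (genericPoint_specializes x)).hom := by
  intro a b hab
  have h1 : Z.presheaf.stalkSpecializes (genericPoint_specializes x) (a - b) = 0 := by
    rw [map_sub]
    exact sub_eq_zero.mpr hab
  exact sub_eq_zero.mp (stalkSpecializes_eq_zero Z hZ x _ h1)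

omit [IsIntegral X] [IsLocallyNoetherian X] in
/-- For a quasi-coherent module, the stalk at a generization `x'` of `x` is generated, up to units,
by the image of the stalk at `x`. -/
theorem exists_isUnit_smul_eq_stalkSpecializes (G : X.Modules) [G.IsQuasicoherent] {x' x : X}
    (h : x' ⤳ x) (γ' : G.presheaf.stalk x') :
    ∃ c : X.presheaf.stalk x', IsUnit c ∧ ∃ γ : G.presheaf.stalk x,
      c • γ' = G.presheaf.stalkSpecializes h γ := by
  obtain ⟨_, ⟨W, hW : IsAffineOpen W, rfl⟩, hxW, -⟩ :=
    X.isBasis_affineOpens.exists_subset_of_mem_open (Set.mem_univ x) isOpen_univ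
  have hx'W : x' ∈ W := h.mem_open W.isOpen hxW
  obtain ⟨xW', rfl⟩ : ∃ xW' : W, (xW' : X) = x' := ⟨⟨x', hx'W⟩, rfl⟩
  haveI := hW.isLocalization_stalk xW'
  haveI := isLocalizedModule_germₗ hW G xW'
  obtain ⟨⟨m, s⟩, hs⟩ := IsLocalizedModule.surj (hW.primeIdealOf xW').asIdeal.primeCompl
    (germₗ G xW') γ'
  refine ⟨algebraMap Γ(X, W) (X.presheaf.stalk (xW' : X)) (s : Γ(X, W)),
    IsLocalization.map_units _ s, G.presheaf.germ W x hxW m, ?_⟩
  rw [TopCat.Presheaf.germ_stalkSpecializes_apply]
  exact hs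

omit [IsIntegral X] [IsLocallyNoetherian X] in
/-- Specialization maps of modules are semilinear over the specialization maps of `O_X`. -/
theorem stalkSpecializes_smul (G : X.Modules) {x' x : X} (h : x' ⤳ x)
    (c : X.presheaf.stalk x) (γ : G.presheaf.stalk x) :
    G.presheaf.stalkSpecializes h (c • γ) =
      X.presheaf.stalkSpecializes h c • G.presheaf.stalkSpecializes h γ := by
  obtain ⟨Ua, ha, r, rfl⟩ := TopCat.Presheaf.exists_germ_eq X.presheaf c
  obtain ⟨Uv, hv, m, rfl⟩ := TopCat.Presheaf.exists_germ_eq G.presheaf γ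
  rw [← TopCat.Presheaf.germ_res_apply X.presheaf (homOfLE (inf_le_left : Ua ⊓ Uv ≤ Ua)) x ⟨ha, hv⟩,
    ← TopCat.Presheaf.germ_res_apply G.presheaf (homOfLE (inf_le_right : Ua ⊓ Uv ≤ Uv)) x ⟨ha, hv⟩,
    ← Mero.germ_smul, TopCat.Presheaf.germ_stalkSpecializes_apply,
    TopCat.Presheaf.germ_stalkSpecializes_apply, TopCat.Presheaf.germ_stalkSpecializes_apply,
    Mero.germ_smul]

/-- **Extension from codimension one.**  Let `G`, `H` be coherent modules on an integral locally
Noetherian scheme whose local rings of dimension `≥ 2` have depth `≥ 2`, with all stalks of `H`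
reflexive.  A linear map `T' : G_η → H_η` of generic stalks which maps the image of `G_x` into the
image of `H_x` at all points `x` with `dim O_{X,x} ≤ 1` is the generic stalk of a morphism
`G ⟶ H`. -/
theorem exists_hom_of_codim_one (G H : X.Modules) (hG : Coh.IsCoh G) (hH : Coh.IsCoh H)
    (hHr : ∀ x : X, Module.IsReflexive (X.presheaf.stalk x) (H.presheaf.stalk x))
    (hS2 : ∀ x : X, ¬ ringKrullDim (X.presheaf.stalk x) ≤ 1 →
      (2 : ℕ∞) ≤ LocCoh.depth (X.presheaf.stalk x) (X.presheaf.stalk x))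
    (T' : G.presheaf.stalk (genericPoint X) →ₗ[X.presheaf.stalk (genericPoint X)]
      H.presheaf.stalk (genericPoint X))
    (hT : ∀ x : X, ringKrullDim (X.presheaf.stalk x) ≤ 1 → ∀ γ : G.presheaf.stalk x,
      ∃ ζ : H.presheaf.stalk x, H.presheaf.stalkSpecializes (genericPoint_specializes x) ζ =
        T' (G.presheaf.stalkSpecializes (genericPoint_specializes x) γ)) :
    ∃ ψ : G ⟶ H, RefHull.stalkMapₗ ψ (genericPoint X) = T' := by
  classical
  haveI : G.IsQuasicoherent := hG.1
  haveI : H.IsQuasicoherent := hH.1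
  have hZ : Coh.IsCoh (RefHull.homSh G H) := isCoh_homSh G H hG hH
  haveI : (RefHull.homSh G H).IsQuasicoherent := hZ.1
  have hGfp := isFP_of_isCoh G hG
  have hev : ∀ x, Function.Bijective (RefHull.evalStalk G H x) :=
    fun x => evalStalk_bijective_of_isFP G H hGfp x
  have hHtf : TorSh.IsTorsionFree H := fun x => by
    haveI := hHr x
    infer_instance
  have hZr : ∀ x, Module.IsReflexive (X.presheaf.stalk x)
      ((RefHull.homSh G H).presheaf.stalk x) := fun x => by
    haveI := hHr x
    haveI : Module.Finite (X.presheaf.stalk x) (G.presheaf.stalk x) :=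
      Groth.Agent.Lib.Helper12.QuasiFlat.finite_stalk_of_isCoh G hG x
    haveI : Module.Finite (X.presheaf.stalk x) (H.presheaf.stalk x) :=
      Groth.Agent.Lib.Helper12.QuasiFlat.finite_stalk_of_isCoh H hH x
    haveI := Groth.Agent.Lib.Helper45.ReflexiveAlg.isReflexive_linearMap (X.presheaf.stalk x)
      (G.presheaf.stalk x) (H.presheaf.stalk x)
    exact Module.equiv (LinearEquiv.ofBijective (RefHull.evalStalk G H x) (hev x)).symm
  have hZtf : TorSh.IsTorsionFree (RefHull.homSh G H) := fun x => by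
    haveI := hZr x
    infer_instance
  have hηmem : ∀ (W : X.Opens) (x : X), x ∈ W → genericPoint X ∈ W :=
    fun W x hx => (genericPoint_specializes x).mem_open W.isOpen hx
  -- sections of `𝓗om(G, H)` are determined by their component at the generic point
  have hZinj : ∀ (W : X.Opens) (hηW : genericPoint X ∈ W) (σ σ' : Γ(RefHull.homSh G H, W)),
      σ.1 ⟨genericPoint X, hηW⟩ = σ'.1 ⟨genericPoint X, hηW⟩ → σ = σ' := by
    intro W hηW σ σ' h
    have h1 : (RefHull.homSh G H).presheaf.germ W (genericPoint X) hηW (σ - σ') = 0 := by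
      apply (hev (genericPoint X)).1
      rw [map_zero, map_sub, map_sub, RefHull.evalStalk_germ, RefHull.evalStalk_germ, h, sub_self]
    exact sub_eq_zero.mp (section_eq_zero_of_germ_genericPoint _ hZtf _ hηW h1)
  -- local sections near points of dimension ≤ 1
  have hlocal : ∀ x : X, ringKrullDim (X.presheaf.stalk x) ≤ 1 →
      ∃ (W : X.Opens) (hxW : x ∈ W) (σ : Γ(RefHull.homSh G H, W)),
        σ.1 ⟨genericPoint X, hηmem W x hxW⟩ = T' := by
    intro x hx
    have hspec := genericPoint_specializes x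
    choose f hf using hT x hx
    have hinjH := stalkSpecializes_injective H hHtf x
    let Tx : G.presheaf.stalk x →ₗ[X.presheaf.stalk x] H.presheaf.stalk x :=
      { toFun := f
        map_add' := fun a b => by
          apply hinjH
          change H.presheaf.stalkSpecializes hspec (f (a + b)) =
            H.presheaf.stalkSpecializes hspec (f a + f b)
          rw [map_add, hf, hf, hf, map_add, map_add]
        map_smul' := fun c a => by
          apply hinjH
          change H.presheaf.stalkSpecializes hspec (f (c • a)) =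
            H.presheaf.stalkSpecializes hspec (c • f a)
          rw [stalkSpecializes_smul, hf, hf, stalkSpecializes_smul, map_smul] }
    obtain ⟨z, hz⟩ := (hev x).2 Tx
    obtain ⟨W, hxW, σ, rfl⟩ := TopCat.Presheaf.exists_germ_eq (RefHull.homSh G H).presheaf z
    rw [RefHull.evalStalk_germ] at hz
    refine ⟨W, hxW, σ, ?_⟩
    ext γ'
    obtain ⟨c, hc, γ, hγ⟩ := exists_isUnit_smul_eq_stalkSpecializes G hspec γ'
    have h1 : σ.1 ⟨genericPoint X, hηmem W x hxW⟩ (c • γ') = T' (c • γ') := by
      rw [hγ, homSh_apply_stalkSpecializes σ hspec hxW γ, hz]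
      exact hf γ
    rw [map_smul, map_smul] at h1
    exact hc.smul_left_cancel.mp h1
  -- the open set where `T'` extends, and the glued section over it
  let ι := {p : Σ W : X.Opens, Γ(RefHull.homSh G H, W) //
    ∃ hη : genericPoint X ∈ p.1, p.2.1 ⟨genericPoint X, hη⟩ = T'}
  let V : X.Opens := ⨆ i : ι, i.1.1
  have hmemV : ∀ x : X, ringKrullDim (X.presheaf.stalk x) ≤ 1 → x ∈ V := by
    intro x hx
    obtain ⟨W, hxW, σ, hσ⟩ := hlocal x hx
    exact Opens.mem_iSup.mpr ⟨⟨⟨W, σ⟩, hηmem W x hxW, hσ⟩, hxW⟩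
  have hηV : genericPoint X ∈ V := by
    apply hmemV
    rw [ringKrullDim_eq_zero_of_isField
      Groth.Agent.Lib.Helper45.Rank1Invertible.isField_stalk_genericPoint]
    exact zero_le_one
  have hch : ∀ y : V, ∃ i : ι, y.1 ∈ i.1.1 := fun y => Opens.mem_iSup.mp y.2
  choose idx hidx using hch
  have hagree : ∀ (i i' : ι) (y : X) (hy : y ∈ i.1.1) (hy' : y ∈ i'.1.1),
      (RefHull.homSh G H).presheaf.germ i.1.1 y hy i.1.2 =
        (RefHull.homSh G H).presheaf.germ i'.1.1 y hy' i'.1.2 := by
    intro i i' y hy hy'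
    obtain ⟨hηi, hi⟩ := i.2
    obtain ⟨hηi', hi'⟩ := i'.2
    have hηO : genericPoint X ∈ i.1.1 ⊓ i'.1.1 := ⟨hηi, hηi'⟩
    have heq : (RefHull.homSh G H).presheaf.map
          (homOfLE (inf_le_left : i.1.1 ⊓ i'.1.1 ≤ i.1.1)).op i.1.2 =
        (RefHull.homSh G H).presheaf.map
          (homOfLE (inf_le_right : i.1.1 ⊓ i'.1.1 ≤ i'.1.1)).op i'.1.2 := by
      apply hZinj _ hηO
      rw [homSh_map_apply, homSh_map_apply]
      exact hi.trans hi'.symm
    rw [← TopCat.Presheaf.germ_res_apply (RefHull.homSh G H).presheaf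
        (homOfLE (inf_le_left : i.1.1 ⊓ i'.1.1 ≤ i.1.1)) y ⟨hy, hy'⟩,
      ← TopCat.Presheaf.germ_res_apply (RefHull.homSh G H).presheaf
        (homOfLE (inf_le_right : i.1.1 ⊓ i'.1.1 ≤ i'.1.1)) y ⟨hy, hy'⟩, heq]
  obtain ⟨σV, hσV⟩ := exists_section_of_germs (RefHull.homSh G H) V
    (fun y => (RefHull.homSh G H).presheaf.germ (idx y).1.1 y.1 (hidx y) (idx y).1.2)
    (fun x => ⟨(idx x).1.1, hidx x, homOfLE (le_iSup (fun i : ι => i.1.1) (idx x)), (idx x).1.2,
      fun y => hagree _ _ y.1 y.2 _⟩)
  have hσVη : σV.1 ⟨genericPoint X, hηV⟩ = T' := by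
    have h1 := hσV (genericPoint X) hηV
    have h2 := congrArg (RefHull.evalStalk G H (genericPoint X)) h1
    rw [RefHull.evalStalk_germ, RefHull.evalStalk_germ] at h2
    rw [h2]
    obtain ⟨hηi, hi⟩ := (idx ⟨genericPoint X, hηV⟩).2
    exact hi
  -- Hartogs
  have hbij := Groth.Agent.Lib.Helper45.RefHullDepth.res_bijective_of_depth (RefHull.homSh G H) hZ
    (le_top : V ≤ ⊤) (fun x _ hxV => by
      have hdim : ¬ ringKrullDim (X.presheaf.stalk x) ≤ 1 := fun h => hxV (hmemV x h)
      exact Groth.Agent.Lib.Helper45.RefHullDepth.two_le_depth_stalk_of_isReflexiveAt _ hZ x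
        (hZr x) (hS2 x hdim))
  obtain ⟨σX, hσX⟩ := hbij.2 σV
  refine ⟨homOfSection σX, ?_⟩
  rw [stalkMapₗ_homOfSection, ← hσVη, ← hσX]
  rfl

end Integral

end Groth.Agent.Lib.Helper45.HomExtend
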