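import Mathlib
import Groth.Agent.Lib.Helper45.RefHullDepth
import Groth.Agent.Lib.Helper28.RegularCM

/-!
# Reflexive sheaves on regular schemes: depth and extension of sections

Shared library of helper45 (namespace `Groth.Agent.Lib.Helper45.RefHullRegular`).
-/

set_option autoImplicit false
universe u
open CategoryTheory CategoryTheory.Limits AlgebraicGeometry TopologicalSpace

namespace Groth.Agent.Lib.Helper45.RefHullRegular

open Groth.Agent.Lib.Helper45.RefHullStalk Groth.Agent.Lib.Helper45.RefHullDepth

/-- A regular local ring of dimension `≥ 2` has depth `≥ 2`. -/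
theorem two_le_depth_of_isRegularLocalRing (R : Type u) [CommRing R] [IsRegularLocalRing R]
    (h : (2 : WithBot ℕ∞) ≤ ringKrullDim R) : (2 : ℕ∞) ≤ LocCoh.depth R R := by
  have hCM := Groth.Agent.Lib.Helper28.isCohenMacaulayModule_self_of_isRegularLocalRing R
  unfold LocCoh.IsCohenMacaulayModule at hCM
  rw [Module.supportDim_self_eq_ringKrullDim] at hCM
  rw [hCM] at h
  have h2 : ((2 : ℕ∞) : WithBot ℕ∞) ≤ ((LocCoh.depth R R : ℕ∞) : WithBot ℕ∞) := h
  exact WithBot.coe_le_coe.mp h2

theorem not_isField_of_two_le_ringKrullDim (R : Type u) [CommRing R]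
    (h : (2 : WithBot ℕ∞) ≤ ringKrullDim R) : ¬ IsField R := by
  intro hf
  rw [ringKrullDim_eq_zero_of_isField hf] at h
  exact absurd h (by decide)

variable {X : Scheme.{u}} [IsLocallyNoetherian X]

/-- On a regular scheme, a coherent reflexive module has depth `≥ 2` at points of codimension
`≥ 2`. -/
theorem two_le_depth_stalk_of_isReflexive
    (hreg : ∀ x : X, IsRegularLocalRing (X.presheaf.stalk x)) (F : X.Modules) (hF : Coh.IsCoh F)
    (hr : RefHull.IsReflexive F) (x : X)
    (hx : (2 : WithBot ℕ∞) ≤ ringKrullDim (X.presheaf.stalk x)) :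
    (2 : ℕ∞) ≤ LocCoh.depth (X.presheaf.stalk x) (F.presheaf.stalk x) := by
  have := hreg x
  exact two_le_depth_stalk_of_isReflexiveAt F hF x
    ((isReflexive_iff_forall_isReflexiveAt F hF).mp hr x)
    (two_le_depth_of_isRegularLocalRing _ hx)

/-- On a regular scheme, sections of a coherent reflexive module extend across closed subsets of
codimension `≥ 2`. -/
theorem res_bijective_of_isReflexive
    (hreg : ∀ x : X, IsRegularLocalRing (X.presheaf.stalk x)) (F : X.Modules) (hF : Coh.IsCoh F)
    (hr : RefHull.IsReflexive F) {U V : X.Opens} (hVU : V ≤ U)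
    (h : ∀ x : X, x ∈ U → x ∉ V → (2 : WithBot ℕ∞) ≤ ringKrullDim (X.presheaf.stalk x)) :
    Function.Bijective (F.presheaf.map (homOfLE hVU).op) :=
  res_bijective_of_depth F hF hVU fun x hxU hxV =>
    two_le_depth_stalk_of_isReflexive hreg F hF hr x (h x hxU hxV)

end Groth.Agent.Lib.Helper45.RefHullRegular
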