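import Groth.Agent.Lib.Helper45.RegularSections
import Groth.Agent.Lib.Helper45.AssPoint

/-!
# Associated points of the structure sheaf

Shared library of helper45.  Everything lives in `Groth.Agent.Lib.Helper45`.

* `isUnit_of_mem_nonZeroDivisors_of_isAssociatedPrime`: in a local ring whose maximal ideal is an
  associated prime of the ring, nonzerodivisors are units.
* `isAssociatedPrime_stalk_iff_isWeakAssPoint`: `m_x ∈ Ass(O_{X,x})` iff `x` is a weakly
  associated point of the structure sheaf.
* `mem_minimalPrimes_of_mem_weakAss_of_isReduced`: in a reduced ring, weakly associated primes of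
  the ring are minimal primes.
* `eq_of_specializes_of_isWeakAssPoint_of_isReduced`: on a reduced scheme the weakly associated
  points of the structure sheaf are maximal points.
-/

set_option autoImplicit false
universe u
open CategoryTheory CategoryTheory.Limits AlgebraicGeometry TopologicalSpace

namespace Groth.Agent.Lib.Helper45

/-- In a local ring whose maximal ideal is an associated prime of the ring (Mathlib's definition,
with a radical), every nonzerodivisor is a unit. -/
theorem isUnit_of_mem_nonZeroDivisors_of_isAssociatedPrime {B : Type*} [CommRing B] [IsLocalRing B]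
    (h : IsAssociatedPrime (IsLocalRing.maximalIdeal B) B) (a : B) (ha : a ∈ nonZeroDivisors B) :
    IsUnit a := by
  obtain ⟨b, hb⟩ := isAssociatedPrime_maximalIdeal_iff.mp h
  by_contra hu
  have ham : a ∈ IsLocalRing.maximalIdeal B := (IsLocalRing.mem_maximalIdeal a).mpr hu
  rw [← hb] at ham
  obtain ⟨n, hn⟩ := ham
  rw [mem_annEl, smul_eq_mul] at hn
  have hb0 : b = 0 := by
    have := (mem_nonZeroDivisors_iff_right.mp (pow_mem ha n)) b (by rw [mul_comm]; exact hn)
    exact this
  have htop : annEl B b = ⊤ := by
    rw [annEl_eq_top_iff]; exact hb0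
  rw [htop, Ideal.radical_top] at hb
  exact (IsLocalRing.maximalIdeal.isMaximal B).ne_top hb.symm

variable {X : Scheme.{u}}

theorem isAssociatedPrime_stalk_iff_mem_weakAss {U : X.Opens} (hU : IsAffineOpen U) (x : U) :
    IsAssociatedPrime (IsLocalRing.maximalIdeal (X.presheaf.stalk (x : X)))
        (X.presheaf.stalk (x : X)) ↔
      (hU.primeIdealOf x).asIdeal ∈ FlatCA.weakAss Γ(X, U) Γ(X, U) := by
  have := hU.isLocalization_stalk x
  have hloc : IsLocalizedModule (hU.primeIdealOf x).asIdeal.primeCompl
      (Algebra.linearMap Γ(X, U) (X.presheaf.stalk (x : X))) :=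
    (isLocalizedModule_iff_isLocalization).mpr inferInstance
  rw [isAssociatedPrime_maximalIdeal_iff]
  exact (mem_weakAss_iff_exists_radical_annEl_eq_maximalIdeal (hU.primeIdealOf x).asIdeal
    (X.presheaf.stalk (x : X)) (Algebra.linearMap Γ(X, U) (X.presheaf.stalk (x : X)))).symm

/-- The maximal ideal of `O_{X,x}` is an associated prime of `O_{X,x}` iff `x` is a weakly
associated point of the structure sheaf. -/
theorem isAssociatedPrime_stalk_iff_isWeakAssPoint (x : X) :
    IsAssociatedPrime (IsLocalRing.maximalIdeal (X.presheaf.stalk x)) (X.presheaf.stalk x) ↔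
      Curv2.IsWeakAssPoint (Coh.structureModule X) x := by
  obtain ⟨_, ⟨U, hU : IsAffineOpen U, rfl⟩, hxU, -⟩ :=
    X.isBasis_affineOpens.exists_subset_of_mem_open (Set.mem_univ x) isOpen_univ
  rw [isAssociatedPrime_stalk_iff_mem_weakAss hU ⟨x, hxU⟩,
    isWeakAssPoint_structureModule_iff hU ⟨x, hxU⟩]

/-- In a reduced ring the weakly associated primes of the ring are minimal primes. -/
theorem mem_minimalPrimes_of_mem_weakAss_of_isReduced {A : Type u} [CommRing A] [IsReduced A]
    {p : Ideal A} (hp : p ∈ FlatCA.weakAss A A) : p ∈ minimalPrimes A := by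
  obtain ⟨a, ha⟩ := hp
  replace ha : p ∈ (annEl A a).minimalPrimes := ha
  have hP : p.IsPrime := ha.1.1
  -- for every `t ∈ p` there is `s ∉ p` with `s * t * a = 0`
  have key : ∀ t ∈ p, ∃ s ∉ p, s * t * a = 0 := by
    intro t ht
    have hrad := IsLocalization.AtPrime.radical_map_of_mem_minimalPrimes
      (Localization.AtPrime p) p _ ha
    have htm : algebraMap A (Localization.AtPrime p) t ∈
        ((annEl A a).map (algebraMap A (Localization.AtPrime p))).radical := by
      rw [hrad]; exact Ideal.mem_map_of_mem _ ht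
    obtain ⟨n, hn⟩ := htm
    rw [← map_pow, IsLocalization.algebraMap_mem_map_algebraMap_iff p.primeCompl] at hn
    obtain ⟨s, hs, hst⟩ := hn
    refine ⟨s, hs, ?_⟩
    rw [mem_annEl, smul_eq_mul] at hst
    apply IsReduced.eq_zero
    refine ⟨n + 1, ?_⟩
    have : (s * t * a) ^ (n + 1) = (s ^ n * t * a ^ n) * (s * t ^ n * a) := by ring
    rw [this, hst, mul_zero]
  have hap : a ∉ p := by
    intro hap
    obtain ⟨s, hs, hsa⟩ := key a hap
    have hsa0 : s * a = 0 := by
      apply IsReduced.eq_zero
      refine ⟨2, ?_⟩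
      have : (s * a) ^ 2 = s * (s * a * a) := by ring
      rw [this, hsa, mul_zero]
    exact hs (ha.1.2 (by rw [mem_annEl, smul_eq_mul]; exact hsa0))
  refine ⟨⟨hP, bot_le⟩, ?_⟩
  intro q hq hqp t ht
  obtain ⟨s, hs, hsta⟩ := key t ht
  have hmem : s * t * a ∈ q := by rw [hsta]; exact q.zero_mem
  have hqP : q.IsPrime := hq.1
  rcases hqP.mem_or_mem hmem with h1 | h1
  · rcases hqP.mem_or_mem h1 with h2 | h2
    · exact absurd (hqp h2) hs
    · exact h2
  · exact absurd (hqp h1) hap

/-- On a reduced scheme, a weakly associated point of the structure sheaf has no proper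
generization. -/
theorem eq_of_specializes_of_isWeakAssPoint_of_isReduced [IsReduced X] (x : X)
    (h : Curv2.IsWeakAssPoint (Coh.structureModule X) x) : ∀ y : X, y ⤳ x → y = x := by
  obtain ⟨_, ⟨U, hU : IsAffineOpen U, rfl⟩, hxU, -⟩ :=
    X.isBasis_affineOpens.exists_subset_of_mem_open (Set.mem_univ x) isOpen_univ
  rw [isWeakAssPoint_structureModule_iff hU ⟨x, hxU⟩] at h
  exact (primeIdealOf_mem_minimalPrimes_iff hU ⟨x, hxU⟩).mp
    (mem_minimalPrimes_of_mem_weakAss_of_isReduced h)

end Groth.Agent.Lib.Helper45
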