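import Groth.Agent.Lib.Helper45.RegularLocus
import Groth.Agent.Lib.Helper45.AssStructure
import Mathlib.AlgebraicGeometry.AffineScheme

/-!
# `K_X(U)` is the total ring of fractions of `O_X(U)` for suitable affine opens `U`

Shared library of helper45.  Everything lives in `Groth.Agent.Lib.Helper45`.
-/

set_option autoImplicit false
universe u
open CategoryTheory CategoryTheory.Limits AlgebraicGeometry TopologicalSpace

namespace Groth.Agent.Lib.Helper45

variable {X : Scheme.{u}}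

/-- `O_X(U) → K_X(U)` is injective. -/
theorem toK_injective (U : X.Opens) : Function.Injective (Mero.toK X U) := by
  intro a b hab
  apply TopCat.Presheaf.section_ext X.sheaf U
  intro x hx
  have h1 : (Mero.toK X U a).1 ⟨x, hx⟩ = (Mero.toK X U b).1 ⟨x, hx⟩ := by rw [hab]
  rw [Mero.toK_apply, Mero.toK_apply, LocalizedModule.mk_eq] at h1
  obtain ⟨c, hc⟩ := h1
  simp only [one_smul] at hc
  have hc' : (c : X.presheaf.stalk x) * X.presheaf.germ U x hx a =
      (c : X.presheaf.stalk x) * X.presheaf.germ U x hx b := hc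
  exact mul_cancel_left_mem_nonZeroDivisors (Mero.regStalk_le_nonZeroDivisors x c.2) |>.mp hc'

/-- The inverse in `K_X(U)` of a regular section. -/
noncomputable def invReg (U : X.Opens) (s : Mero.regSub X U) : Γ(Mero.kmod X, U) :=
  ⟨fun x => LocalizedModule.mk 1 (Mero.regGerm x s), fun x => ⟨U, x.2, 𝟙 _, 1, s, fun y =>
    Mero.mk_congr (by
      change (1 : X.presheaf.stalk y.1) = X.presheaf.germ U y.1 y.2 (1 : Γ(X, U))
      rw [map_one]) rfl⟩⟩

theorem toK_mul_invReg (U : X.Opens) (s : Mero.regSub X U) :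
    Mero.toK X U s.1 * invReg U s = 1 := by
  refine Subtype.ext (funext fun x => ?_)
  change (LocalizedModule.mk (X.presheaf.germ U x.1 x.2 s.1) 1 : Mero.KStalk X x.1) *
    LocalizedModule.mk 1 (Mero.regGerm x s) = 1
  refine LocalizedModule.mk_mul_mk.trans ?_
  exact (Mero.mk_congr (mul_one _) (one_mul _)).trans (Mero.mk_self_eq_one (Mero.regGerm x s))

theorem isUnit_toK_of_mem_regSub (U : X.Opens) (s : Γ(X, U)) (hs : s ∈ Mero.regSub X U) :
    IsUnit (Mero.toK X U s) :=
  IsUnit.of_mul_eq_one _ (toK_mul_invReg U ⟨s, hs⟩)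

/-- A nonzerodivisor of `Γ(X, U)`, `U` affine, is a regular section. -/
theorem mem_regSub_of_mem_nonZeroDivisors {U : X.Opens} (hU : IsAffineOpen U) (s : Γ(X, U))
    (hs : s ∈ nonZeroDivisors Γ(X, U)) : s ∈ Mero.regSub X U := by
  intro x
  change X.presheaf.germ U x x.2 s ∈ _
  rw [germ_mem_nonZeroDivisors_iff hU x s]
  rintro ⟨c, hsc, hc⟩
  have hc0 : c = 0 := by
    rw [mul_comm] at hsc
    exact (mem_nonZeroDivisors_iff_right.mp hs) c hsc
  exact hc 1 (fun h1 => (hU.primeIdealOf x).isPrime.ne_top ((Ideal.eq_top_iff_one _).mpr h1))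
    (by rw [hc0, mul_zero])

/-- Local form of: a section of `K_X` vanishing on `D(g)` is killed by a power of `g`. -/
theorem local_pow_toK_mul_eq_zero {U : X.Opens} (g : Γ(X, U)) (z : Γ(Mero.kmod X, U))
    (hz : ∀ (x : X) (hx : x ∈ X.basicOpen g), z.1 ⟨x, X.basicOpen_le g hx⟩ = 0) (x : U) :
    ∃ (W : X.Opens) (_ : (x : X) ∈ W) (n : ℕ), ∀ (y : U), (y : X) ∈ W → ∀ (k : ℕ), n ≤ k →
      (Mero.toK X U (g ^ k)).1 y * z.1 y = 0 := by
  obtain ⟨V, hxV, i, a, b, hab⟩ := z.2 x
  obtain ⟨_, ⟨W, hW : IsAffineOpen W, rfl⟩, hxW, hWV⟩ :=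
    X.isBasis_affineOpens.exists_subset_of_mem_open hxV V.2
  have hWV' : W ≤ V := hWV
  have hVU : V ≤ U := i.le
  let a' : Γ(X, W) := X.presheaf.map (homOfLE hWV').op a
  let g' : Γ(X, W) := X.presheaf.map (homOfLE (hWV'.trans hVU)).op g
  have hgerm : ∀ (y : X) (hy : y ∈ W), y ∈ X.basicOpen g → X.presheaf.germ W y hy a' = 0 := by
    intro y hy hyg
    have h2 : z.1 (i ⟨y, hWV' hy⟩) = 0 := hz y hyg
    have h3 : LocalizedModule.mk (X.presheaf.germ V y (hWV' hy) a)
        (Mero.regGerm ⟨y, hWV' hy⟩ b) = (0 : Mero.KStalk X y) :=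
      (hab ⟨y, hWV' hy⟩).symm.trans h2
    rw [← LocalizedModule.zero_mk (Mero.regGerm ⟨y, hWV' hy⟩ b), LocalizedModule.mk_eq] at h3
    obtain ⟨c, hc⟩ := h3
    simp only [smul_zero] at hc
    have hc' : (c : X.presheaf.stalk y) * ((Mero.regGerm ⟨y, hWV' hy⟩ b : X.presheaf.stalk y) *
        X.presheaf.germ V y (hWV' hy) a) = 0 := hc
    have hcn : (c : X.presheaf.stalk y) ∈ nonZeroDivisors (X.presheaf.stalk y) :=
      Mero.regStalk_le_nonZeroDivisors y c.2
    have hbn : (Mero.regGerm ⟨y, hWV' hy⟩ b : X.presheaf.stalk y) ∈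
        nonZeroDivisors (X.presheaf.stalk y) :=
      Mero.regStalk_le_nonZeroDivisors y (Mero.regGerm ⟨y, hWV' hy⟩ b).2
    have h4 := (mul_left_mem_nonZeroDivisors_eq_zero_iff hcn).mp hc'
    have h5 := (mul_left_mem_nonZeroDivisors_eq_zero_iff hbn).mp h4
    rw [TopCat.Presheaf.germ_res_apply]
    exact h5
  have hres : X.presheaf.map (homOfLE (X.basicOpen_le g')).op a' = 0 := by
    apply TopCat.Presheaf.section_ext X.sheaf (X.basicOpen g')
    intro y hy
    have hyW : y ∈ W := X.basicOpen_le g' hy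
    have hyg : y ∈ X.basicOpen g := by
      have : X.basicOpen g' = W ⊓ X.basicOpen g :=
        Scheme.basicOpen_res X g (homOfLE (hWV'.trans hVU)).op
      rw [this] at hy
      exact hy.2
    change X.presheaf.germ (X.basicOpen g') y hy
      (X.presheaf.map (homOfLE (X.basicOpen_le g')).op a') = X.presheaf.germ (X.basicOpen g') y hy 0
    rw [TopCat.Presheaf.germ_res_apply, hgerm y hyW hyg, map_zero]
  have hloc := hW.isLocalization_basicOpen g'
  have h0 : algebraMap Γ(X, W) Γ(X, X.basicOpen g') a' = 0 := hres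
  obtain ⟨⟨_, n, rfl⟩, hn⟩ := (IsLocalization.map_eq_zero_iff (Submonoid.powers g')
    Γ(X, X.basicOpen g') a').mp h0
  refine ⟨W, hxW, n, fun y hy k hk => ?_⟩
  have h2 : z.1 y = LocalizedModule.mk (X.presheaf.germ V y.1 (hWV' hy) a)
      (Mero.regGerm ⟨y.1, hWV' hy⟩ b) := hab ⟨y.1, hWV' hy⟩
  rw [h2, Mero.toK_apply]
  refine LocalizedModule.mk_mul_mk.trans ?_
  have hzero : X.presheaf.germ U y.1 y.2 (g ^ k) * X.presheaf.germ V y.1 (hWV' hy) a = 0 := by
    have e1 : X.presheaf.germ U y.1 y.2 (g ^ k) = X.presheaf.germ W y.1 hy (g' ^ k) := by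
      rw [← TopCat.Presheaf.germ_res_apply X.presheaf (homOfLE (hWV'.trans hVU)) y.1 hy, map_pow]
    have e2 : X.presheaf.germ V y.1 (hWV' hy) a = X.presheaf.germ W y.1 hy a' :=
      (TopCat.Presheaf.germ_res_apply X.presheaf (homOfLE hWV') y.1 hy a).symm
    rw [e1, e2, ← map_mul]
    have hk' : g' ^ k * a' = 0 := by
      obtain ⟨j, rfl⟩ := Nat.exists_eq_add_of_le hk
      rw [pow_add, mul_comm (g' ^ n), mul_assoc]
      have : g' ^ n * a' = 0 := hn
      rw [this, mul_zero]
    rw [hk', map_zero]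
  exact (Mero.mk_congr hzero rfl).trans (LocalizedModule.zero_mk _)

/-- A section of `K_X` over a quasi-compact open `U` vanishing on `D(g)` is killed by a power
of `g`. -/
theorem exists_pow_toK_mul_eq_zero {U : X.Opens} (hU : IsCompact (U : Set X)) (g : Γ(X, U))
    (z : Γ(Mero.kmod X, U))
    (hz : ∀ (x : X) (hx : x ∈ X.basicOpen g), z.1 ⟨x, X.basicOpen_le g hx⟩ = 0) :
    ∃ n : ℕ, Mero.toK X U (g ^ n) * z = 0 := by
  choose W hxW n hn using local_pow_toK_mul_eq_zero g z hz
  obtain ⟨t, ht⟩ := hU.elim_finite_subcover (fun x : U => ((W x : X.Opens) : Set X))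
    (fun x => (W x).2) (fun x hx => Set.mem_iUnion.mpr ⟨⟨x, hx⟩, hxW ⟨x, hx⟩⟩)
  refine ⟨t.sup n, ?_⟩
  refine Subtype.ext (funext fun y => ?_)
  obtain ⟨x, hxt, hyx⟩ := Set.mem_iUnion₂.mp (ht y.2)
  exact hn x y hyx (t.sup n) (Finset.le_sup hxt)

/-- The ideal of denominators of a section `z` of `K_X` over `U`. -/
def denomIdeal' (U : X.Opens) (z : Γ(Mero.kmod X, U)) : Ideal Γ(X, U) where
  carrier := {t | ∃ a : Γ(X, U), Mero.toK X U t * z = Mero.toK X U a}
  zero_mem' := ⟨0, by rw [map_zero, zero_mul]⟩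
  add_mem' := by
    rintro s t ⟨a, ha⟩ ⟨b, hb⟩
    exact ⟨a + b, by rw [map_add, add_mul, ha, hb, map_add]⟩
  smul_mem' := by
    rintro c t ⟨a, ha⟩
    exact ⟨c * a, by rw [smul_eq_mul, map_mul, mul_assoc, ha, map_mul]⟩

theorem mem_denomIdeal' {U : X.Opens} {z : Γ(Mero.kmod X, U)} {t : Γ(X, U)} :
    t ∈ denomIdeal' U z ↔ ∃ a : Γ(X, U), Mero.toK X U t * z = Mero.toK X U a := Iff.rfl

/-- At a point of an affine open whose maximal ideal is an associated prime of the local ring,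
some denominator of `z` does not vanish. -/
theorem exists_mem_denomIdeal'_not_mem {U : X.Opens} (hU : IsAffineOpen U)
    (z : Γ(Mero.kmod X, U)) (x : U)
    (hx : IsAssociatedPrime (IsLocalRing.maximalIdeal (X.presheaf.stalk (x : X)))
      (X.presheaf.stalk (x : X))) :
    ∃ t ∈ denomIdeal' U z, t ∉ (hU.primeIdealOf x).asIdeal := by
  obtain ⟨V, hxV, i, a, b, hab⟩ := z.2 x
  have hVU : V ≤ U := i.le
  -- the denominator is invertible near `x`
  have hunit : IsUnit (X.presheaf.germ V x hxV b.1) :=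
    isUnit_of_mem_nonZeroDivisors_of_isAssociatedPrime hx _ (b.2 ⟨x, hxV⟩)
  have hxV' : (x : X) ∈ X.basicOpen b.1 := (X.mem_basicOpen b.1 x hxV).mpr hunit
  have hunit' : IsUnit (X.presheaf.map (homOfLE (X.basicOpen_le b.1)).op b.1) :=
    X.toRingedSpace.isUnit_res_basicOpen b.1
  obtain ⟨c, hc'⟩ := hunit'.exists_right_inv
  let a'' : Γ(X, X.basicOpen b.1) := X.presheaf.map (homOfLE (X.basicOpen_le b.1)).op a * c
  have hza : ∀ (y : X) (hy : y ∈ X.basicOpen b.1),
      z.1 ⟨y, hVU (X.basicOpen_le b.1 hy)⟩ =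
        LocalizedModule.mk (X.presheaf.germ (X.basicOpen b.1) y hy a'') 1 := by
    intro y hy
    have hyV : y ∈ V := X.basicOpen_le b.1 hy
    have h1 : z.1 ⟨y, hVU hyV⟩ = LocalizedModule.mk (X.presheaf.germ V y hyV a)
        (Mero.regGerm ⟨y, hyV⟩ b) := hab ⟨y, hyV⟩
    rw [h1, LocalizedModule.mk_eq]
    refine ⟨1, ?_⟩
    simp only [one_smul]
    change X.presheaf.germ V y hyV a =
      X.presheaf.germ V y hyV b.1 * X.presheaf.germ (X.basicOpen b.1) y hy a''
    have e1 : X.presheaf.germ (X.basicOpen b.1) y hy a'' =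
        X.presheaf.germ V y hyV a * X.presheaf.germ (X.basicOpen b.1) y hy c := by
      rw [map_mul, TopCat.Presheaf.germ_res_apply]
    have e2 : X.presheaf.germ V y hyV b.1 * X.presheaf.germ (X.basicOpen b.1) y hy c = 1 := by
      rw [← TopCat.Presheaf.germ_res_apply X.presheaf (homOfLE (X.basicOpen_le b.1)) y hy b.1,
        ← map_mul, hc', map_one]
    rw [e1, mul_left_comm, e2, mul_one]
  -- a basic open of `U` around `x` inside
  obtain ⟨g, hgV', hxg⟩ := hU.exists_basicOpen_le ⟨(x : X), hxV'⟩ x.2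
  have hgp : g ∉ (hU.primeIdealOf x).asIdeal :=
    (mem_basicOpen_iff_not_mem_primeIdealOf hU x g).mp hxg
  have hloc := hU.isLocalization_basicOpen g
  obtain ⟨⟨α, ⟨_, k, rfl⟩⟩, hα⟩ := IsLocalization.surj (Submonoid.powers g)
    (X.presheaf.map (homOfLE hgV').op a'')
  have hα' : X.presheaf.map (homOfLE hgV').op a'' *
      X.presheaf.map (homOfLE (X.basicOpen_le g)).op (g ^ k) =
      X.presheaf.map (homOfLE (X.basicOpen_le g)).op α := hα
  -- the difference vanishes on `D(g)`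
  have hw : ∀ (y : X) (hy : y ∈ X.basicOpen g),
      (Mero.toK X U (g ^ k) * z - Mero.toK X U α).1 ⟨y, X.basicOpen_le g hy⟩ = 0 := by
    intro y hy
    have hyV' : y ∈ X.basicOpen b.1 := hgV' hy
    change (Mero.toK X U (g ^ k)).1 ⟨y, X.basicOpen_le g hy⟩ * z.1 ⟨y, X.basicOpen_le g hy⟩ -
      (Mero.toK X U α).1 ⟨y, X.basicOpen_le g hy⟩ = 0
    rw [hza y hyV', Mero.toK_apply, Mero.toK_apply, sub_eq_zero]
    refine LocalizedModule.mk_mul_mk.trans (Mero.mk_congr ?_ (one_mul _))
    have e1 : X.presheaf.germ U y (X.basicOpen_le g hy) (g ^ k) =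
        X.presheaf.germ (X.basicOpen g) y hy
          (X.presheaf.map (homOfLE (X.basicOpen_le g)).op (g ^ k)) :=
      (TopCat.Presheaf.germ_res_apply X.presheaf (homOfLE (X.basicOpen_le g)) y hy _).symm
    have e2 : X.presheaf.germ (X.basicOpen b.1) y hyV' a'' =
        X.presheaf.germ (X.basicOpen g) y hy (X.presheaf.map (homOfLE hgV').op a'') :=
      (TopCat.Presheaf.germ_res_apply X.presheaf (homOfLE hgV') y hy _).symm
    have e3 : X.presheaf.germ U y (X.basicOpen_le g hy) α =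
        X.presheaf.germ (X.basicOpen g) y hy
          (X.presheaf.map (homOfLE (X.basicOpen_le g)).op α) :=
      (TopCat.Presheaf.germ_res_apply X.presheaf (homOfLE (X.basicOpen_le g)) y hy _).symm
    rw [e1, e2, e3, ← map_mul, mul_comm, hα']
  obtain ⟨n, hn⟩ := exists_pow_toK_mul_eq_zero hU.isCompact g _ hw
  refine ⟨g ^ (n + k), ⟨g ^ n * α, ?_⟩, ?_⟩
  · rw [mul_sub, sub_eq_zero] at hn
    rw [pow_add, map_mul, map_mul, mul_assoc]
    exact hn
  · intro hmem
    exact hgp ((hU.primeIdealOf x).isPrime.mem_of_pow_mem _ hmem)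

/-- Let `U` be an affine open of a scheme `X` such that `Γ(X, U)` has finitely many weakly
associated primes.  Then `K_X(U)` is the total ring of fractions of `Γ(X, U)`. -/
theorem isLocalization_kmod_of_finite_weakAss {U : X.Opens} (hU : IsAffineOpen U)
    (hfin : (FlatCA.weakAss Γ(X, U) Γ(X, U)).Finite) :
    @IsLocalization Γ(X, U) _ (nonZeroDivisors Γ(X, U)) Γ(Mero.kmod X, U) _
      (Mero.toK X U).toAlgebra := by
  let _ : Algebra Γ(X, U) Γ(Mero.kmod X, U) := (Mero.toK X U).toAlgebra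
  rw [isLocalization_iff]
  refine ⟨?_, ?_, ?_⟩
  · intro s
    exact isUnit_toK_of_mem_regSub U s.1 (mem_regSub_of_mem_nonZeroDivisors hU s.1 s.2)
  · intro z
    -- some denominator avoids all weakly associated primes
    have hex : ∃ t ∈ denomIdeal' U z, ∀ p ∈ FlatCA.weakAss Γ(X, U) Γ(X, U), t ∉ p := by
      by_contra hcon
      push Not at hcon
      have hsub : (denomIdeal' U z : Set Γ(X, U)) ⊆
          ⋃ p ∈ hfin.toFinset, ((p : Ideal Γ(X, U)) : Set Γ(X, U)) := by
        intro t ht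
        obtain ⟨p, hp, htp⟩ := hcon t ht
        exact Set.mem_biUnion (hfin.mem_toFinset.mpr hp) htp
      by_cases hne : hfin.toFinset.Nonempty
      · obtain ⟨p0, hp0⟩ := hne
        obtain ⟨p, hp, hle⟩ := (Ideal.subset_union_prime_finite hfin.toFinset.finite_toSet p0 p0
          (fun p hp _ _ => isPrime_of_mem_weakAss (hfin.mem_toFinset.mp hp))).mp hsub
        have hpw : p ∈ FlatCA.weakAss Γ(X, U) Γ(X, U) := hfin.mem_toFinset.mp hp
        have hpP : p.IsPrime := isPrime_of_mem_weakAss hpw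
        obtain ⟨x, hx⟩ := exists_primeIdealOf_eq hU ⟨p, hpP⟩
        have hxp : (hU.primeIdealOf x).asIdeal = p := congrArg PrimeSpectrum.asIdeal hx
        have hass := (isAssociatedPrime_stalk_iff_mem_weakAss hU x).mpr (hxp ▸ hpw)
        obtain ⟨t, ht, htp⟩ := exists_mem_denomIdeal'_not_mem hU z x hass
        exact htp (hxp ▸ hle ht)
      · rw [Finset.not_nonempty_iff_eq_empty] at hne
        have h0 : (0 : Γ(X, U)) ∈ (denomIdeal' U z : Set Γ(X, U)) := (denomIdeal' U z).zero_mem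
        have := hsub h0
        rw [hne] at this
        simp at this
    obtain ⟨t, ⟨a, hta⟩, htp⟩ := hex
    have htn : t ∈ nonZeroDivisors Γ(X, U) := by
      rw [mem_nonZeroDivisors_iff_right]
      intro c hc
      by_contra hc0
      have hnr : ¬ IsSMulRegular Γ(X, U) t := by
        intro hreg
        apply hc0
        apply hreg
        change t • c = t • 0
        rw [smul_eq_mul, smul_eq_mul, mul_zero, mul_comm]
        exact hc
      have hmem : t ∈ {f : Γ(X, U) | ¬ IsSMulRegular Γ(X, U) f} := hnr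
      rw [← biUnion_weakAss] at hmem
      obtain ⟨p, hp, htp'⟩ := Set.mem_iUnion₂.mp hmem
      exact htp p hp htp'
    refine ⟨(a, ⟨t, htn⟩), ?_⟩
    change z * Mero.toK X U t = Mero.toK X U a
    rw [mul_comm]
    exact hta
  · intro a b hab
    exact ⟨1, by rw [toK_injective U hab]⟩

end Groth.Agent.Lib.Helper45
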