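import Mathlib
import Groth.Prelude.Def_FlatMod2
import Groth.Agent.Lib.Helper49.AffineHom
import Groth.Agent.Lib.Helper49.QCohLocal
import Groth.Agent.Lib.Helper45.RegularSections

universe u
open CategoryTheory CategoryTheory.Limits AlgebraicGeometry TopologicalSpace Opposite

namespace Groth.Agent.Lib.Helper45

noncomputable section

attribute [local instance] Abelian.hasFiniteBiproducts

/-- Evaluation of `O_Y`-modules at an open. -/
abbrev evalAt (Y : Scheme.{u}) (V : Y.Opens) :
    Y.Modules ⥤ ModuleCat.{u} (Y.ringCatSheaf.obj.obj (op V)) :=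
  SheafOfModules.evaluation Y.ringCatSheaf (op V)

instance (Y : Scheme.{u}) (V : Y.Opens) : (evalAt Y V).Additive where
  map_add := rfl

/-- The sections of the free module, as an isomorphism in `ModuleCat`. -/
def sectionsFreeModIso (Y : Scheme.{u}) (n : ℕ) (V : Y.Opens) :
    (evalAt Y V).obj (FlatMod.freeMod Y n) ≅
      ModuleCat.of _ (Fin n → (evalAt Y V).obj (Coh.structureModule Y)) :=
  (evalAt Y V).mapIso
      (biproduct.isoCoproduct (fun _ : Fin n => Coh.structureModule Y)).symm ≪≫
    (evalAt Y V).mapBiproduct (fun _ : Fin n => Coh.structureModule Y) ≪≫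
    ModuleCat.biproductIsoPi (fun _ : Fin n => (evalAt Y V).obj (Coh.structureModule Y))

/-- `Γ(O_Y^n, V) ≃ Γ(Y, V)^n`. -/
def sectionsFreeModEquiv (Y : Scheme.{u}) (n : ℕ) (V : Y.Opens) :
    Γ(FlatMod.freeMod Y n, V) ≃ₗ[Γ(Y, V)] (Fin n → Γ(Y, V)) :=
  (sectionsFreeModIso Y n V).toLinearEquiv

/-- The free module `O_Y^n` is quasi-coherent. -/
instance isQuasicoherent_freeMod (Y : Scheme.{u}) (n : ℕ) :
    (FlatMod.freeMod Y n).IsQuasicoherent := by
  have h : (limit (Discrete.functor (fun _ : Fin n => Coh.structureModule Y))).IsQuasicoherent :=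
    Helper49.isQuasicoherent_finite_limit _ (fun _ => isQuasicoherent_structureModule Y)
  have e : (∏ᶜ (fun _ : Fin n => Coh.structureModule Y)) ≅ FlatMod.freeMod Y n :=
    (biproduct.isoProduct (fun _ : Fin n => Coh.structureModule Y)).symm ≪≫
      biproduct.isoCoproduct (fun _ : Fin n => Coh.structureModule Y)
  exact Helper49.isQuasicoherent_of_iso e h

/-- Restriction along an open immersion sends `O_Y^n` to `O_X^n`. -/
def restrictFreeModIso {X Y : Scheme.{u}} (f : X ⟶ Y) [IsOpenImmersion f] (n : ℕ) :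
    (FlatMod.freeMod Y n).restrict f ≅ FlatMod.freeMod X n :=
  PreservesCoproduct.iso (Scheme.Modules.restrictFunctor f)
      (fun _ : Fin n => Coh.structureModule Y) ≪≫
    Sigma.mapIso (fun _ : Fin n => Scheme.Modules.restrictUnitIso f)

/-- A quasi-coherent module whose sections over an affine open `U` are free of rank `n` restricts
to the free module `O_U^n` on `U`. -/
theorem nonempty_restrict_iso_freeMod {X : Scheme.{u}} {U : X.Opens} (hU : IsAffineOpen U)
    (F : X.Modules) [F.IsQuasicoherent] (n : ℕ)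
    (e : Γ(F, U) ≃ₗ[Γ(X, U)] (Fin n → Γ(X, U))) :
    Nonempty (F.restrict U.ι ≅ FlatMod.freeMod (↑U) n) := by
  obtain ⟨φ, -⟩ := Helper49.exists_iso_restrict_of_linearEquiv hU F (FlatMod.freeMod X n)
    (e.trans (sectionsFreeModEquiv X n U).symm)
  exact ⟨φ ≪≫ restrictFreeModIso U.ι n⟩

end

end Groth.Agent.Lib.Helper45
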