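import Mathlib
import Groth.Prelude.Def_C1
import Groth.Prelude.Def_Tame
import Groth.Agent.Lib.Helper45.HomExtend

/-!
# Orders of rational sections at the generic point of an integral scheme

Shared library of helper45 (namespace `Groth.Agent.Lib.Helper45.OrdGeneric`).

* `ordFrac_map_of_bijective`: `Ring.ordFrac` is invariant under isomorphisms.
* `cycOrdFrac_unit_mul`, `cycOrdFrac_mul`: `CycAlg.ordFrac` kills units and is additive.
* `secFibre_mk_eq_iff`: the fibre `L(η)` at the generic point of an integral scheme is the stalk.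
* `secOrdAt_eq`: computation of `Cyc.secOrdAt L η x h` on `φ • t` for a generator `t` of `L_x`.
* `ordAt_residue_eq_ord`: `Cyc.ordAt x η h (residue f) = Scheme.ord f x`.
* `secOrdAt_eq_ord`: combination of the two.
* `exists_algebraMap_eq_of_ord_nonneg`: valuative criterion at DVR points.
-/

set_option autoImplicit false
set_option linter.style.haveILetI false
universe u
open CategoryTheory CategoryTheory.Limits AlgebraicGeometry TopologicalSpace

namespace Groth.Agent.Lib.Helper45.OrdGeneric

section Algebra

variable {R R' : Type*} [CommRing R] [CommRing R'] [Algebra R R']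

/-- The order of vanishing is invariant under bijective ring maps. -/
theorem ord_algebraMap_of_bijective (hb : Function.Bijective (algebraMap R R')) (a : R) :
    Ring.ord R' (algebraMap R R' a) = Ring.ord R a := by
  rw [Ring.ord, Ring.ord, ← Module.length_eq_of_surjective (S := R) hb.2]
  let e : R ≃+* R' := RingEquiv.ofBijective (algebraMap R R') hb
  let q : (R ⧸ Ideal.span {a}) ≃+* (R' ⧸ Ideal.span {algebraMap R R' a}) :=
    Ideal.quotientEquiv _ _ e (by
      rw [Ideal.map_span, Set.image_singleton]
      rfl)
  let q' : (R ⧸ Ideal.span {a}) ≃ₗ[R] (R' ⧸ Ideal.span {algebraMap R R' a}) :=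
    { q.toAddEquiv with
      map_smul' := fun r x => by
        obtain ⟨y, rfl⟩ := Ideal.Quotient.mk_surjective x
        change q (r • Ideal.Quotient.mk _ y) = r • q (Ideal.Quotient.mk _ y)
        rw [Algebra.smul_def, Algebra.smul_def, map_mul]
        rfl }
  exact q'.symm.length_eq

variable [IsDomain R] [IsDomain R']

theorem ordMonoidWithZeroHom_algebraMap_of_bijective (hb : Function.Bijective (algebraMap R R'))
    (a : R) :
    Ring.ordMonoidWithZeroHom R' (algebraMap R R' a) = Ring.ordMonoidWithZeroHom R a := by
  by_cases ha : a = 0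
  · rw [ha, map_zero, map_zero, map_zero]
  · have ha' : algebraMap R R' a ≠ 0 := fun h => ha (hb.1 (by rw [h, map_zero]))
    rw [Ring.ordMonoidWithZeroHom_eq_ord (mem_nonZeroDivisors_iff_ne_zero.mpr ha),
      Ring.ordMonoidWithZeroHom_eq_ord (mem_nonZeroDivisors_iff_ne_zero.mpr ha'),
      ord_algebraMap_of_bijective hb]

variable [IsNoetherianRing R] [Ring.KrullDimLE 1 R] [IsNoetherianRing R'] [Ring.KrullDimLE 1 R']
  {K K' : Type*} [Field K] [Field K'] [Algebra R K] [IsFractionRing R K] [Algebra R' K']
  [IsFractionRing R' K']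

/-- `Ring.ordFrac` is invariant under an isomorphism of rings compatible with a map of fraction
fields. -/
theorem ordFrac_map_of_bijective (hb : Function.Bijective (algebraMap R R')) (σ : K →+* K')
    (hσ : ∀ r : R, σ (algebraMap R K r) = algebraMap R' K' (algebraMap R R' r)) (f : K) :
    Ring.ordFrac R' (σ f) = Ring.ordFrac R f := by
  obtain ⟨a, b, hb0, rfl⟩ := IsFractionRing.div_surjective (A := R) f
  have hb' : b ≠ 0 := nonZeroDivisors.ne_zero hb0
  have hb'' : algebraMap R R' b ≠ 0 := fun h => hb' (hb.1 (by rw [h, map_zero]))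
  rw [map_div₀, map_div₀, map_div₀, hσ, hσ]
  by_cases ha : a = 0
  · rw [ha, map_zero, map_zero, map_zero, map_zero, map_zero, zero_div, zero_div]
  have ha'' : algebraMap R R' a ≠ 0 := fun h => ha (hb.1 (by rw [h, map_zero]))
  rw [Ring.ordFrac_eq_ord _ ha, Ring.ordFrac_eq_ord _ hb', Ring.ordFrac_eq_ord _ ha'',
    Ring.ordFrac_eq_ord _ hb'', ordMonoidWithZeroHom_algebraMap_of_bijective hb,
    ordMonoidWithZeroHom_algebraMap_of_bijective hb]

end Algebra

section CycAlg

/-- Multiplying by the image of a unit does not change `CycAlg.ordFrac`. -/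
theorem cycOrdFrac_unit_mul {R : Type*} [CommRing R] {K : Type*} [Field K] [Algebra R K]
    (u : R) (hu : IsUnit u) (f : K) :
    CycAlg.ordFrac R K (algebraMap R K u * f) = CycAlg.ordFrac R K f := by
  unfold CycAlg.ordFrac
  split_ifs with h
  · haveI := h.1; haveI := h.2.1; haveI := h.2.2.1; haveI := h.2.2.2
    haveI : IsDomain R := (IsFractionRing.injective R K).isDomain _
    rw [map_mul, Ring.ordFrac_of_isUnit hu, one_mul]
  · rfl

/-- `CycAlg.ordFrac` is additive on nonzero elements. -/
theorem cycOrdFrac_mul {R : Type*} [CommRing R] {K : Type*} [Field K] [Algebra R K]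
    (f g : K) (hf : f ≠ 0) (hg : g ≠ 0) :
    CycAlg.ordFrac R K (f * g) = CycAlg.ordFrac R K f + CycAlg.ordFrac R K g := by
  unfold CycAlg.ordFrac
  split_ifs with h
  · haveI := h.1; haveI := h.2.1; haveI := h.2.2.1; haveI := h.2.2.2
    rw [map_mul]
    have hf' : Ring.ordFrac R f ≠ 0 := (map_ne_zero _).mpr hf
    have hg' : Ring.ordFrac R g ≠ 0 := (map_ne_zero _).mpr hg
    obtain ⟨a, ha⟩ := WithZero.ne_zero_iff_exists.mp hf'
    obtain ⟨b, hb⟩ := WithZero.ne_zero_iff_exists.mp hg'
    rw [← ha, ← hb, ← WithZero.coe_mul, WithZero.recZeroCoe_coe, WithZero.recZeroCoe_coe,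
      WithZero.recZeroCoe_coe, toAdd_mul]
  · simp

end CycAlg


section Scheme

variable {X : Scheme.{u}} [IsIntegral X]

theorem isField_stalk_genericPoint' : IsField (X.presheaf.stalk (genericPoint X)) :=
  Field.toIsField X.functionField

theorem maximalIdeal_smul_top_genericPoint (L : X.Modules) :
    IsLocalRing.maximalIdeal (X.presheaf.stalk (genericPoint X)) •
      (⊤ : Submodule (X.presheaf.stalk (genericPoint X)) (L.presheaf.stalk (genericPoint X))) = ⊥ := by
  rw [IsLocalRing.isField_iff_maximalIdeal_eq.mp isField_stalk_genericPoint', Submodule.bot_smul]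

/-- The fibre of a module at the generic point of an integral scheme is the stalk. -/
theorem secFibre_mk_eq_iff (L : X.Modules) (a b : L.presheaf.stalk (genericPoint X)) :
    (Submodule.Quotient.mk a : Cyc.secFibre L (genericPoint X)) = Submodule.Quotient.mk b ↔
      a = b := by
  rw [Submodule.Quotient.eq, maximalIdeal_smul_top_genericPoint, Submodule.mem_bot, sub_eq_zero]

theorem secFibre_mk_surjective (L : X.Modules) (s : Cyc.secFibre L (genericPoint X)) :
    ∃ a : L.presheaf.stalk (genericPoint X), (Submodule.Quotient.mk a : Cyc.secFibre L _) = s :=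
  Submodule.Quotient.mk_surjective _ s

variable (x : X) (h : genericPoint X ⤳ x)

theorem specMap_apply (a : X.presheaf.stalk x) :
    Cyc.specMap x (genericPoint X) h a =
      X.residue (genericPoint X) (algebraMap (X.presheaf.stalk x) X.functionField a) := rfl

theorem residue_genericPoint_injective :
    Function.Injective (X.residue (genericPoint X)).hom :=
  (X.residue (genericPoint X)).hom.injective

theorem specMap_injective : Function.Injective (Cyc.specMap x (genericPoint X) h) := by
  intro a b hab
  rw [specMap_apply, specMap_apply] at hab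
  exact IsFractionRing.injective (X.presheaf.stalk x) X.functionField
    (residue_genericPoint_injective hab)

theorem ker_specMap : RingHom.ker (Cyc.specMap x (genericPoint X) h) = ⊥ :=
  (RingHom.injective_iff_ker_eq_bot _).mp (specMap_injective x h)

theorem bijective_algebraMap_locQuot :
    Function.Bijective (algebraMap (X.presheaf.stalk x) (Cyc.LocQuot x (genericPoint X) h)) := by
  refine ⟨?_, Ideal.Quotient.mk_surjective⟩
  rw [injective_iff_map_eq_zero]
  intro a ha
  have : a ∈ RingHom.ker (Cyc.specMap x (genericPoint X) h) := Ideal.Quotient.eq_zero_iff_mem.mp ha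
  rw [ker_specMap] at this
  exact this

theorem algebraMap_locQuot_residueField (a : X.presheaf.stalk x) :
    algebraMap (Cyc.LocQuot x (genericPoint X) h) (X.residueField (genericPoint X))
        (algebraMap (X.presheaf.stalk x) (Cyc.LocQuot x (genericPoint X) h) a) =
      X.residue (genericPoint X) (algebraMap (X.presheaf.stalk x) X.functionField a) := rfl

theorem isFractionRing_locQuot :
    IsFractionRing (Cyc.LocQuot x (genericPoint X) h) (X.residueField (genericPoint X)) := by
  have hinj : Function.Injective (algebraMap (Cyc.LocQuot x (genericPoint X) h)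
      (X.residueField (genericPoint X))) := by
    rw [injective_iff_map_eq_zero]
    intro a ha
    obtain ⟨a, rfl⟩ := Ideal.Quotient.mk_surjective a
    have h1 : Cyc.specMap x (genericPoint X) h a = 0 := ha
    rw [specMap_injective x h (h1.trans (map_zero _).symm), map_zero]
  haveI : FaithfulSMul (Cyc.LocQuot x (genericPoint X) h) (X.residueField (genericPoint X)) :=
    (faithfulSMul_iff_algebraMap_injective _ _).mpr hinj
  refine IsFractionRing.of_field (R := Cyc.LocQuot x (genericPoint X) h)
    (K := X.residueField (genericPoint X)) fun z => ?_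
  obtain ⟨f, rfl⟩ := X.residue_surjective (genericPoint X) z
  obtain ⟨a, b, hb0, rfl⟩ := IsFractionRing.div_surjective (A := X.presheaf.stalk x) f
  refine ⟨algebraMap _ _ a, algebraMap _ _ b, ?_⟩
  rw [algebraMap_locQuot_residueField, algebraMap_locQuot_residueField]
  exact map_div₀ (X.residue (genericPoint X)).hom _ _

/-- **Computation of `Cyc.secOrdAt` at the generic point.**  If `t` generates `L_x` and has zero
annihilator, and its image in the generic stalk is nonzero, then the order along `x` of the
rational section `φ • t` is the order of `φ`. -/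
theorem secOrdAt_eq (L : X.Modules) (t : L.presheaf.stalk x)
    (ht : Submodule.span (X.presheaf.stalk x) {t} = ⊤)
    (hann : ∀ a : X.presheaf.stalk x, a • t = 0 → a = 0)
    (hne : L.presheaf.stalkSpecializes h t ≠ 0) (φ : X.presheaf.stalk (genericPoint X)) :
    Cyc.secOrdAt L (genericPoint X) x h
        (Submodule.Quotient.mk (φ • L.presheaf.stalkSpecializes h t)) =
      Cyc.ordAt x (genericPoint X) h (X.residue (genericPoint X) φ) := by
  classical
  letI : Field (X.presheaf.stalk (genericPoint X)) := inferInstanceAs (Field X.functionField)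
  have hex : ∃ t : L.presheaf.stalk x, Submodule.span (X.presheaf.stalk x) {t} = ⊤ := ⟨t, ht⟩
  have ht' := Classical.choose_spec hex
  -- the chosen generator is a unit multiple of `t`
  obtain ⟨u, hu⟩ : ∃ u : X.presheaf.stalk x, u • t = Classical.choose hex :=
    Submodule.mem_span_singleton.mp (by rw [ht]; exact Submodule.mem_top)
  obtain ⟨u', hu'⟩ : ∃ u' : X.presheaf.stalk x, u' • Classical.choose hex = t :=
    Submodule.mem_span_singleton.mp (by rw [ht']; exact Submodule.mem_top)
  have huu : u' * u = 1 := by
    have h1 : (u' * u - 1) • t = 0 := by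
      rw [sub_smul, mul_smul, hu, hu', one_smul, sub_self]
    exact sub_eq_zero.mp (hann _ h1)
  have hunit : IsUnit u := IsUnit.of_mul_eq_one _ (by rwa [mul_comm] at huu)
  have hspec : L.presheaf.stalkSpecializes h (Classical.choose hex) =
      X.presheaf.stalkSpecializes h u • L.presheaf.stalkSpecializes h t := by
    rw [← hu, Groth.Agent.Lib.Helper45.HomExtend.stalkSpecializes_smul]
  have hsu : X.presheaf.stalkSpecializes h u ≠ 0 := by
    have := hunit.map (X.presheaf.stalkSpecializes h).hom
    exact this.ne_zero
  have hφex : ∃ φ' : X.presheaf.stalk (genericPoint X),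
      (Submodule.Quotient.mk (φ • L.presheaf.stalkSpecializes h t) :
        Cyc.secFibre L (genericPoint X)) = φ' • (Submodule.Quotient.mk
          ((L.presheaf.stalkSpecializes h) (Classical.choose hex)) :
            Cyc.secFibre L (genericPoint X)) := by
    refine ⟨φ * (X.presheaf.stalkSpecializes h u)⁻¹, ?_⟩
    rw [← Submodule.Quotient.mk_smul, secFibre_mk_eq_iff, hspec, smul_smul, mul_assoc,
      inv_mul_cancel₀ hsu, mul_one]
  unfold Cyc.secOrdAt
  rw [dif_pos hex, dif_pos hφex]
  have hφ' := Classical.choose_spec hφex
  generalize Classical.choose hφex = φ'' at hφ' ⊢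
  rw [← Submodule.Quotient.mk_smul, secFibre_mk_eq_iff, hspec, smul_smul] at hφ'
  have h2 : φ = φ'' * X.presheaf.stalkSpecializes h u := by
    have h3 : (φ - φ'' * X.presheaf.stalkSpecializes h u) •
        L.presheaf.stalkSpecializes h t = 0 := by
      rw [sub_smul, ← hφ', sub_self]
    rcases smul_eq_zero.mp h3 with h4 | h4
    · exact sub_eq_zero.mp h4
    · exact absurd h4 hne
  have h5 : X.residue (genericPoint X) φ =
      algebraMap (Cyc.LocQuot x (genericPoint X) h) (X.residueField (genericPoint X))
        (algebraMap (X.presheaf.stalk x) (Cyc.LocQuot x (genericPoint X) h) u) *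
        X.residue (genericPoint X) φ'' := by
    rw [h2, map_mul, mul_comm]
    rfl
  rw [h5]
  unfold Cyc.ordAt
  exact (cycOrdFrac_unit_mul _ (hunit.map _) _).symm

/-- The order function `Cyc.ordAt` at the generic point of an integral locally Noetherian scheme
is Mathlib's `Scheme.ord`. -/
theorem ordAt_residue_eq_ord [IsLocallyNoetherian X] (hx : Order.coheight x = 1)
    (f : X.functionField) :
    Cyc.ordAt x (genericPoint X) h (X.residue (genericPoint X) f) = Scheme.ord f x := by
  haveI : Ring.KrullDimLE 1 (X.presheaf.stalk x) := krullDimLE_of_coheight_le hx.le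
  have hb := bijective_algebraMap_locQuot x h
  haveI : IsNoetherianRing (Cyc.LocQuot x (genericPoint X) h) := inferInstance
  haveI : (RingHom.ker (Cyc.specMap x (genericPoint X) h)).IsPrime := RingHom.ker_isPrime _
  haveI : IsDomain (Cyc.LocQuot x (genericPoint X) h) := Ideal.Quotient.isDomain _
  haveI : Ring.KrullDimLE 1 (Cyc.LocQuot x (genericPoint X) h) := by
    rw [Ring.krullDimLE_iff, ← ringKrullDim_eq_of_ringEquiv (RingEquiv.ofBijective _ hb)]
    exact Ring.krullDimLE_iff.mp inferInstance
  haveI := isFractionRing_locQuot x h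
  have hcond : IsNoetherianRing (Cyc.LocQuot x (genericPoint X) h) ∧
      Ring.KrullDimLE 1 (Cyc.LocQuot x (genericPoint X) h) ∧
      Nontrivial (Cyc.LocQuot x (genericPoint X) h) ∧
      IsFractionRing (Cyc.LocQuot x (genericPoint X) h) (X.residueField (genericPoint X)) :=
    ⟨inferInstance, inferInstance, inferInstance, inferInstance⟩
  have key := ordFrac_map_of_bijective hb (X.residue (genericPoint X)).hom
    (fun r => (algebraMap_locQuot_residueField x h r).symm) f
  unfold Cyc.ordAt CycAlg.ordFrac
  rw [dif_pos hcond, Scheme.ord_eq_ordHom_of_coheight_eq_one hx]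
  change WithZero.recZeroCoe (motive := fun _ => ℤ) 0 (fun z => Multiplicative.toAdd z)
    (Ring.ordFrac (Cyc.LocQuot x (genericPoint X) h) ((X.residue (genericPoint X)).hom f)) = _
  rw [key]
  change _ = Multiplicative.toAdd
    ((Ring.ordFrac (X.presheaf.stalk x) f).unzeroD 1)
  generalize Ring.ordFrac (X.presheaf.stalk x) f = z
  induction z using WithZero.recZeroCoe with
  | zero => rfl
  | coe a => rfl

theorem secOrdAt_eq_ord [IsLocallyNoetherian X] (hx : Order.coheight x = 1) (L : X.Modules)
    (t : L.presheaf.stalk x) (ht : Submodule.span (X.presheaf.stalk x) {t} = ⊤)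
    (hann : ∀ a : X.presheaf.stalk x, a • t = 0 → a = 0)
    (hne : L.presheaf.stalkSpecializes h t ≠ 0) (φ : X.functionField) :
    Cyc.secOrdAt L (genericPoint X) x h
        (Submodule.Quotient.mk (φ • L.presheaf.stalkSpecializes h t)) = Scheme.ord φ x := by
  rw [secOrdAt_eq x h L t ht hann hne φ, ordAt_residue_eq_ord x h hx]

theorem stalkSpecializes_eq_algebraMap (a : X.presheaf.stalk x) :
    X.presheaf.stalkSpecializes h a = algebraMap (X.presheaf.stalk x) X.functionField a := rfl

omit [IsIntegral X] in
theorem coheight_eq_one_iff (x : X) :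
    Order.coheight x = 1 ↔ ringKrullDim (X.presheaf.stalk x) = 1 := by
  rw [ringKrullDim_stalk_eq_coheight]
  constructor
  · intro h
    rw [h]
    rfl
  · intro h
    exact_mod_cast h

/-- In a DVR, an element of the fraction field with non-negative order lies in the ring. -/
theorem exists_algebraMap_eq_of_one_le_ordFrac {A K : Type*} [CommRing A] [IsDomain A]
    [IsDiscreteValuationRing A] [Field K] [Algebra A K] [IsFractionRing A K] (x : K)
    (h : 1 ≤ Ring.ordFrac A x) : ∃ a : A, algebraMap A K a = x := by
  by_cases hx : x = 0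
  · exact ⟨0, by rw [hx, map_zero]⟩
  rw [Ring.ordFrac_eq_valuation_inv] at h
  apply IsDiscreteValuationRing.exists_lift_of_le_one
  have hv : (IsDiscreteValuationRing.maximalIdeal A).valuation K x ≠ 0 := by
    rwa [Ne, Valuation.zero_iff]
  rwa [one_le_inv₀ (zero_lt_iff.mpr hv)] at h

/-- A Noetherian integrally closed local domain of dimension one is a DVR. -/
theorem isDiscreteValuationRing_of_ringKrullDim_eq_one (A : Type*) [CommRing A] [IsDomain A]
    [IsNoetherianRing A] [IsLocalRing A] [IsIntegrallyClosed A] (h : ringKrullDim A = 1) :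
    IsDiscreteValuationRing A := by
  have hA : ¬ IsField A := by
    intro hf
    rw [ringKrullDim_eq_zero_of_isField hf] at h
    exact absurd h (by decide)
  haveI : Ring.KrullDimLE 1 A := (Ring.krullDimLE_iff).mpr h.le
  have htfae := (IsDiscreteValuationRing.TFAE A hA).out 3 0
  refine htfae.mp ⟨inferInstance, ?_⟩
  have hm : IsLocalRing.maximalIdeal A ≠ ⊥ := IsLocalRing.isField_iff_maximalIdeal_eq.not.mp hA
  refine ⟨IsLocalRing.maximalIdeal A, ⟨hm, inferInstance⟩, ?_⟩
  rintro P ⟨hP0, hP⟩
  have : P.IsMaximal := Ring.krullDimLE_one_iff_of_isPrime_bot.mp inferInstance P hP0 hP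
  exact IsLocalRing.eq_maximalIdeal this

/-- At a codimension one point whose local ring is a DVR, a nonzero rational function of
non-negative order is regular. -/
theorem exists_algebraMap_eq_of_ord_nonneg [IsLocallyNoetherian X] (hx : Order.coheight x = 1)
    [IsDiscreteValuationRing (X.presheaf.stalk x)] (f : X.functionField) (hf : f ≠ 0)
    (h0 : 0 ≤ Scheme.ord f x) :
    ∃ a : X.presheaf.stalk x, algebraMap (X.presheaf.stalk x) X.functionField a = f := by
  apply exists_algebraMap_eq_of_one_le_ordFrac
  have := (Scheme.le_ord_iff hx hf (n := 0)).mp h0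
  exact this

end Scheme

end Groth.Agent.Lib.Helper45.OrdGeneric
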