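import Mathlib
import Groth.Agent.H8.HullNormal
import Groth.Agent.Lib.Helper29.SerreNormal
import Groth.Agent.Lib.Helper45.OrdGeneric
import Groth.Prelude.Def_Pi1

/-!
# Hartogs' lemma at a point of a normal scheme

Shared library of helper45 (namespace `Groth.Agent.Lib.Helper45.Hartogs`).

* `coheight_fromSpecStalk`: `Spec O_{X,x} → X` preserves coheights.
* `asIdeal_eq_comap_of_fromSpecStalk`: a prime `q` of `O_{X,x}` is the preimage of the maximal ideal
  of the local ring at the corresponding generization of `x`.
* `exists_algebraMap_eq_of_forall_codim_one`: on a normal integral locally Noetherian scheme, a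
  rational function lying in the local rings of all codimension one generizations of `x` lies in
  `O_{X,x}`.
-/

set_option autoImplicit false
set_option linter.style.haveILetI false
universe u
open CategoryTheory CategoryTheory.Limits AlgebraicGeometry TopologicalSpace

namespace Groth.Agent.Lib.Helper45.Hartogs

variable {X : Scheme.{u}}

theorem fromSpecStalk_specializes (x : X) (p : Spec (X.presheaf.stalk x)) :
    X.fromSpecStalk x p ⤳ x := by
  have : X.fromSpecStalk x p ∈ Set.range (X.fromSpecStalk x) := ⟨p, rfl⟩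
  rw [Scheme.range_fromSpecStalk] at this
  exact this

theorem coheight_fromSpecStalk (x : X) (p : Spec (X.presheaf.stalk x)) :
    Order.coheight (X.fromSpecStalk x p) = Order.coheight p := by
  symm
  have hind : Topology.IsInducing (X.fromSpecStalk x) :=
    (X.fromSpecStalk x).isEmbedding.isInducing
  refine Order.coheight_eq_of_strictMono (fun p => X.fromSpecStalk x p) ?_ ?_ p
  · intro a b hab
    refine lt_of_le_not_ge ?_ ?_
    · exact Scheme.le_iff_specializes.mpr
        ((Scheme.le_iff_specializes.mp hab.le).map (X.fromSpecStalk x).continuous)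
    · intro hge
      exact hab.not_ge (Scheme.le_iff_specializes.mpr
        (hind.specializes_iff.mp (Scheme.le_iff_specializes.mp hge)))
  · intro a b hlt
    have hb : b ⤳ x :=
      (Scheme.le_iff_specializes.mp hlt.le).trans (fromSpecStalk_specializes x a)
    obtain ⟨a', rfl⟩ : b ∈ Set.range (X.fromSpecStalk x) := by
      rw [Scheme.range_fromSpecStalk]
      exact hb
    refine ⟨a', lt_of_le_not_ge ?_ ?_, rfl⟩
    · exact Scheme.le_iff_specializes.mpr
        (hind.specializes_iff.mp (Scheme.le_iff_specializes.mp hlt.le))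
    · intro hge
      exact hlt.not_ge (Scheme.le_iff_specializes.mpr
        ((Scheme.le_iff_specializes.mp hge).map (X.fromSpecStalk x).continuous))

theorem asIdeal_eq_comap_of_fromSpecStalk (x : X) (p : Spec (X.presheaf.stalk x)) :
    p.asIdeal = Ideal.comap (X.presheaf.stalkSpecializes (fromSpecStalk_specializes x p)).hom
      (IsLocalRing.maximalIdeal (X.presheaf.stalk (X.fromSpecStalk x p))) := by
  have h := fromSpecStalk_specializes x p
  have h1 := Scheme.SpecMap_stalkSpecializes_fromSpecStalk h
  have h2 : (Spec.map (X.presheaf.stalkSpecializes h) ≫ X.fromSpecStalk x)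
      (IsLocalRing.closedPoint _) =
      (X.fromSpecStalk (X.fromSpecStalk x p)) (IsLocalRing.closedPoint _) := by rw [h1]
  rw [Scheme.Hom.comp_apply, Scheme.fromSpecStalk_closedPoint] at h2
  have h3 := (X.fromSpecStalk x).isEmbedding.injective h2
  conv_lhs => rw [← h3]
  rfl

/-- An integrally closed domain is a normal ring. -/
theorem isNormalRing_of_isIntegrallyClosed (R : Type u) [CommRing R] [IsDomain R]
    [IsIntegrallyClosed R] : EGA4.IsNormalRing R := by
  intro p hp
  have hle : p.primeCompl ≤ nonZeroDivisors R := by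
    intro x hx
    apply mem_nonZeroDivisors_of_ne_zero
    rintro rfl
    exact hx p.zero_mem
  have hd : IsDomain (Localization.AtPrime p) :=
    IsLocalization.isDomain_localization hle
  exact ⟨hd, isIntegrallyClosed_of_isLocalization _ p.primeCompl hle⟩

variable [IsIntegral X] [IsLocallyNoetherian X]

/-- **Hartogs' lemma at a point.** -/
theorem exists_algebraMap_eq_of_forall_codim_one (hX : Pi1.IsNormalScheme X) (x : X)
    (f : X.functionField)
    (hf : ∀ y : X, Order.coheight y = 1 → y ⤳ x →
      ∃ α : X.presheaf.stalk y, algebraMap (X.presheaf.stalk y) X.functionField α = f) :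
    ∃ a : X.presheaf.stalk x, algebraMap (X.presheaf.stalk x) X.functionField a = f := by
  haveI : IsIntegrallyClosed (X.presheaf.stalk x) := (hX x).2
  have hS2 : LocCoh.HasSk 2 (X.presheaf.stalk x) (X.presheaf.stalk x) :=
    Groth.Agent.Lib.Helper29.hasSk_two_of_isNormalRing _
      (isNormalRing_of_isIntegrallyClosed _)
  refine Groth.Agent.H8.HullNormal.mem_of_forall_height_one (X.presheaf.stalk x) hS2
    X.functionField f ?_
  intro q hq hq1
  let p : Spec (X.presheaf.stalk x) := ⟨q, hq⟩
  have hyx := fromSpecStalk_specializes x p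
  have hcy : Order.coheight (X.fromSpecStalk x p) = 1 := by
    rw [coheight_fromSpecStalk, ← idealHeight_eq_coheight]
    exact hq1
  obtain ⟨α, hα⟩ := hf _ hcy hyx
  have hq_eq := asIdeal_eq_comap_of_fromSpecStalk x p
  obtain ⟨_, ⟨U, hU : IsAffineOpen U, rfl⟩, hxU, -⟩ :=
    X.isBasis_affineOpens.exists_subset_of_mem_open (Set.mem_univ x) isOpen_univ
  have hyU : X.fromSpecStalk x p ∈ U := hyx.mem_open U.isOpen hxU
  haveI : Nonempty U := ⟨⟨x, hxU⟩⟩
  let _ : Algebra Γ(X, U) (X.presheaf.stalk (X.fromSpecStalk x p)) :=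
    (X.presheaf.germ U _ hyU).hom.toAlgebra
  have hloc : IsLocalization.AtPrime (X.presheaf.stalk (X.fromSpecStalk x p))
      (hU.primeIdealOf ⟨_, hyU⟩).asIdeal := hU.isLocalization_stalk ⟨_, hyU⟩
  obtain ⟨⟨c₀, t₀⟩, hct⟩ := IsLocalization.surj (hU.primeIdealOf ⟨_, hyU⟩).asIdeal.primeCompl α
  have hct' : α * X.presheaf.germ U _ hyU t₀.1 = X.presheaf.germ U _ hyU c₀ := hct
  refine ⟨X.presheaf.germ U x hxU t₀.1, ?_, X.presheaf.germ U x hxU c₀, ?_⟩
  · have hu : IsUnit (X.presheaf.germ U _ hyU t₀.1) :=
      IsLocalization.map_units (X.presheaf.stalk (X.fromSpecStalk x p)) t₀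
    intro hmem
    have hmem' : X.presheaf.germ U x hxU t₀.1 ∈ p.asIdeal := hmem
    rw [hq_eq, Ideal.mem_comap] at hmem'
    have h4 : (X.presheaf.stalkSpecializes hyx).hom (X.presheaf.germ U x hxU t₀.1) =
        X.presheaf.germ U _ hyU t₀.1 :=
      TopCat.Presheaf.germ_stalkSpecializes_apply _ _ _ _
    rw [h4] at hmem'
    exact (IsLocalRing.mem_maximalIdeal _).mp hmem' hu
  · rw [Scheme.algebraMap_germ_eq_germToFunctionField, Scheme.algebraMap_germ_eq_germToFunctionField,
      ← Scheme.algebraMap_germ_eq_germToFunctionField (X := X) hyU, ← hct', map_mul, hα,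
      Scheme.algebraMap_germ_eq_germToFunctionField, mul_comm]

end Groth.Agent.Lib.Helper45.Hartogs
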