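import Mathlib
import Groth.Agent.Lib.Helper45.InvBasis
import Groth.Agent.Lib.Helper45.OrdGeneric

/-!
# Orders of rational sections of invertible modules

Shared library of helper45 (namespace `Groth.Agent.Lib.Helper45.InvOrd`).

* `germ_basis_span`, `germ_basis_ann`: the germ of a local basis generates the stalk and has zero
  annihilator (these two are due to helper97, `MeroLib3`, restated here to keep imports light).
* `secOrdAt_eq_ord_of_isBasisOn`: if `τ` is a basis of `L` over `W ∋ x` and `σ = φ • τ_η`, then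
  `secOrdAt L η x (mk σ) = Scheme.ord φ x` at points of codimension one.
-/

set_option autoImplicit false
set_option linter.style.haveILetI false
universe u
open CategoryTheory CategoryTheory.Limits AlgebraicGeometry TopologicalSpace

namespace Groth.Agent.Lib.Helper45.InvOrd

open Groth.Agent.Lib.Helper45 Groth.Agent.Lib.Helper49

variable {X : Scheme.{u}} {L : X.Modules}

theorem germ_mres {V W : X.Opens} (h : V ≤ W) (x : X) (hx : x ∈ V) (m : Γ(L, W)) :
    L.presheaf.germ V x hx (mres L h m) = L.presheaf.germ W x (h hx) m :=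
  TopCat.Presheaf.germ_res_apply L.presheaf (homOfLE h) x hx m

theorem germ_fres {V W : X.Opens} (h : V ≤ W) (x : X) (hx : x ∈ V) (r : Γ(X, W)) :
    X.presheaf.germ V x hx (fres h r) = X.presheaf.germ W x (h hx) r :=
  TopCat.Presheaf.germ_res_apply X.presheaf (homOfLE h) x hx r

/-- The germ of a local basis has zero annihilator. -/
theorem germ_basis_ann {W : X.Opens} {τ : Γ(L, W)} (hτ : IsBasisOn L W τ) (x : X)
    (hx : x ∈ W) (ρ : X.presheaf.stalk x) (h : ρ • L.presheaf.germ W x hx τ = 0) : ρ = 0 := by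
  obtain ⟨N, hxN, r, hr⟩ := TopCat.Presheaf.exists_germ_eq X.presheaf ρ
  have hx' : x ∈ N ⊓ W := ⟨hxN, hx⟩
  have e : L.presheaf.germ (N ⊓ W) x hx'
      (fres (inf_le_left : N ⊓ W ≤ N) r • mres L (inf_le_right : N ⊓ W ≤ W) τ) =
      L.presheaf.germ (N ⊓ W) x hx' 0 := by
    rw [Mero.germ_smul, germ_fres, germ_mres, hr, h, map_zero]
  obtain ⟨N', hxN', iU, iV, hUV⟩ := TopCat.Presheaf.germ_eq L.presheaf (U := N ⊓ W)
    (V := N ⊓ W) x hx' hx' _ _ e
  have h1 : mres L iU.le
      (fres (inf_le_left : N ⊓ W ≤ N) r • mres L (inf_le_right : N ⊓ W ≤ W) τ) = 0 := by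
    have h0 : mres L iU.le
        (fres (inf_le_left : N ⊓ W ≤ N) r • mres L (inf_le_right : N ⊓ W ≤ W) τ) =
        mres L iU.le 0 := by
      have hiV : iV = iU := Subsingleton.elim _ _
      rw [hiV] at hUV
      exact hUV
    rw [h0, map_zero]
  rw [mres_smul, mres_mres, fres_fres] at h1
  have h2 : fres (iU.le.trans inf_le_left) r = 0 :=
    (hτ.mono (iU.le.trans inf_le_right)).eq_of_smul_eq (by rw [h1, zero_smul])
  rw [← hr, ← germ_fres (iU.le.trans inf_le_left) x hxN' r, h2, map_zero]

/-- The germ of a local basis generates the stalk. -/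
theorem germ_basis_span {W : X.Opens} {τ : Γ(L, W)} (hτ : IsBasisOn L W τ) (x : X)
    (hx : x ∈ W) : Submodule.span (X.presheaf.stalk x) {L.presheaf.germ W x hx τ} = ⊤ := by
  rw [eq_top_iff]
  intro μ _
  obtain ⟨N, hxN, m, hm⟩ := TopCat.Presheaf.exists_germ_eq L.presheaf μ
  have hx' : x ∈ N ⊓ W := ⟨hxN, hx⟩
  obtain ⟨r, hr⟩ := (hτ.mono (inf_le_right : N ⊓ W ≤ W)).exists_eq_smul (mres L inf_le_left m)
  refine Submodule.mem_span_singleton.mpr ⟨X.presheaf.germ (N ⊓ W) x hx' r, ?_⟩
  rw [← hm, ← germ_mres (inf_le_left : N ⊓ W ≤ N) x hx' m, ← hr, Mero.germ_smul, germ_mres]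

variable [IsIntegral X] [IsLocallyNoetherian X]

/-- The order of a rational section of `L` at a codimension one point of an open where `L` has a
basis `τ`: it is the order of the coefficient with respect to `τ`. -/
theorem secOrdAt_eq_ord_of_isBasisOn {W : X.Opens} {τ : Γ(L, W)} (hτ : IsBasisOn L W τ) (x : X)
    (hx : x ∈ W) (hcx : Order.coheight x = 1) (h : genericPoint X ⤳ x)
    (φ : X.functionField) (hη : genericPoint X ∈ W) :
    Cyc.secOrdAt L (genericPoint X) x h
        (Submodule.Quotient.mk (φ • L.presheaf.germ W (genericPoint X) hη τ)) =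
      Scheme.ord φ x := by
  have hspec : L.presheaf.stalkSpecializes h (L.presheaf.germ W x hx τ) =
      L.presheaf.germ W (genericPoint X) hη τ :=
    TopCat.Presheaf.germ_stalkSpecializes_apply _ _ _ _
  have hne : L.presheaf.stalkSpecializes h (L.presheaf.germ W x hx τ) ≠ 0 := by
    rw [hspec]
    intro h0
    have h1 : (1 : X.presheaf.stalk (genericPoint X)) = 0 :=
      germ_basis_ann hτ _ hη 1 (by rw [h0, smul_zero])
    exact one_ne_zero h1
  have := OrdGeneric.secOrdAt_eq_ord x h hcx L (L.presheaf.germ W x hx τ)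
    (germ_basis_span hτ x hx) (germ_basis_ann hτ x hx) hne φ
  rw [hspec] at this
  exact this

end Groth.Agent.Lib.Helper45.InvOrd
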