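import Mathlib
import Groth.Agent.Lib.Helper45.RefHullStalk
import Groth.Agent.Lib.Helper45.ReflexiveAlg
import Groth.Agent.Lib.Helper12.QuasiFlat

/-!
# The map `F ⟶ F^**` at points of codimension one

Shared library of helper45 (namespace `Groth.Agent.Lib.Helper45.BidualDVR`).

* `dual_eval_surjective_of_pid`: over a PID, `M → M**` is surjective for finite `M`.
* `isPrincipalIdealRing_of_ringKrullDim_eq_one`: a Noetherian integrally closed local domain of
  dimension one is a PID (DVR).
* `stalkMapₗ_bidualMap_surjective`: for coherent `F` the stalk map of `F ⟶ F^**` at `x` is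
  surjective when `O_{X,x}` is a PID.
* `isReflexive_stalk_ddual`: the stalks of `F^**` are reflexive.
-/

set_option autoImplicit false
set_option linter.style.haveILetI false
universe u
open CategoryTheory CategoryTheory.Limits AlgebraicGeometry TopologicalSpace

namespace Groth.Agent.Lib.Helper45.BidualDVR

open Groth.Agent.Lib.Helper45 Groth.Agent.Lib.Helper45.RefHullCoh
  Groth.Agent.Lib.Helper45.RefHullHom Groth.Agent.Lib.Helper45.RefHullStalk

/-- Over a principal ideal domain, the evaluation map `M → M**` is surjective for every finite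
module `M`. -/
theorem dual_eval_surjective_of_pid (A : Type*) [CommRing A] [IsDomain A] [IsPrincipalIdealRing A]
    (M : Type*) [AddCommGroup M] [Module A M] [Module.Finite A M] :
    Function.Surjective (Module.Dual.eval A M) := by
  intro α
  let T := Submodule.torsion A M
  haveI : Module.Free A (M ⧸ T) := Module.free_of_finite_type_torsion_free'
  haveI : Module.IsReflexive A (M ⧸ T) := inferInstance
  let α' : Module.Dual A (Module.Dual A (M ⧸ T)) := α.comp (LinearMap.dualMap T.mkQ)
  obtain ⟨mbar, hm⟩ := (Module.bijective_dual_eval A (M ⧸ T)).2 α'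
  obtain ⟨m, rfl⟩ := T.mkQ_surjective mbar
  refine ⟨m, ?_⟩
  ext θ
  have hθ : T ≤ LinearMap.ker θ := by
    intro t ht
    obtain ⟨a, ha⟩ := (Submodule.mem_torsion_iff t).mp ht
    have h1 : (a : A) * θ t = 0 := by
      rw [← smul_eq_mul, ← map_smul]
      have : (a : A) • t = 0 := ha
      rw [this, map_zero]
    rcases mul_eq_zero.mp h1 with h | h
    · exact absurd h (nonZeroDivisors.ne_zero a.2)
    · exact h
  have h2 : θ = LinearMap.dualMap T.mkQ (T.liftQ θ hθ) := by
    ext v
    simp
  have h3 := LinearMap.congr_fun hm (T.liftQ θ hθ)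
  rw [Module.Dual.eval_apply] at h3 ⊢
  rw [h2]
  simpa [α'] using h3

/-- A Noetherian integrally closed local domain of dimension one is a principal ideal ring. -/
theorem isPrincipalIdealRing_of_ringKrullDim_eq_one (A : Type*) [CommRing A] [IsDomain A]
    [IsNoetherianRing A] [IsLocalRing A] [IsIntegrallyClosed A] (h : ringKrullDim A = 1) :
    IsPrincipalIdealRing A := by
  have hA : ¬ IsField A := by
    intro hf
    rw [ringKrullDim_eq_zero_of_isField hf] at h
    exact absurd h (by decide)
  haveI : Ring.KrullDimLE 1 A := (Ring.krullDimLE_iff).mpr h.le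
  have htfae := (IsDiscreteValuationRing.TFAE A hA).out 3 0
  have hdvr : IsDiscreteValuationRing A := by
    refine htfae.mp ⟨inferInstance, ?_⟩
    have hm : IsLocalRing.maximalIdeal A ≠ ⊥ := IsLocalRing.isField_iff_maximalIdeal_eq.not.mp hA
    refine ⟨IsLocalRing.maximalIdeal A, ⟨hm, inferInstance⟩, ?_⟩
    rintro P ⟨hP0, hP⟩
    have : P.IsMaximal := Ring.krullDimLE_one_iff_of_isPrime_bot.mp inferInstance P hP0 hP
    exact IsLocalRing.eq_maximalIdeal this
  infer_instance

variable {X : Scheme.{u}} [IsLocallyNoetherian X] (F : X.Modules)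

/-- The stalk of `F^**` as the algebraic double dual of the stalk of `F`. -/
noncomputable def ddualStalkEquiv (hF : Coh.IsCoh F) (x : X) :
    (RefHull.ddual F).presheaf.stalk x ≃ₗ[X.presheaf.stalk x]
      Module.Dual (X.presheaf.stalk x) (Module.Dual (X.presheaf.stalk x) (F.presheaf.stalk x)) :=
  (LinearEquiv.ofBijective (RefHull.evalStalk (RefHull.dual F) (Coh.structureModule X) x)
    (evalStalk_bijective_of_isFP _ _ (isFP_of_isCoh _ (isCoh_dual F hF)) x)).trans
    (LinearEquiv.arrowCongr (dualStalkEquiv F hF x) (unitStalkEquiv x))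

theorem ddualStalkEquiv_stalkMapₗ_bidualMap (hF : Coh.IsCoh F) (x : X) (v : F.presheaf.stalk x) :
    ddualStalkEquiv F hF x (RefHull.stalkMapₗ (RefHull.bidualMap F) x v) =
      Module.Dual.eval (X.presheaf.stalk x) (F.presheaf.stalk x) v := by
  rw [← arrowCongr_bidualAt F hF x v, ← evalStalk_comp_stalkMapₗ_bidualMap F x v]
  rfl

/-- At a point whose local ring is a principal ideal domain, `F_x → (F^**)_x` is surjective. -/
theorem stalkMapₗ_bidualMap_surjective (hF : Coh.IsCoh F) (x : X) [IsDomain (X.presheaf.stalk x)]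
    [IsPrincipalIdealRing (X.presheaf.stalk x)] :
    Function.Surjective (RefHull.stalkMapₗ (RefHull.bidualMap F) x) := by
  haveI : Module.Finite (X.presheaf.stalk x) (F.presheaf.stalk x) :=
    Groth.Agent.Lib.Helper12.QuasiFlat.finite_stalk_of_isCoh F hF x
  intro ζ
  obtain ⟨v, hv⟩ := dual_eval_surjective_of_pid (X.presheaf.stalk x) (F.presheaf.stalk x)
    (ddualStalkEquiv F hF x ζ)
  refine ⟨v, (ddualStalkEquiv F hF x).injective ?_⟩
  rw [ddualStalkEquiv_stalkMapₗ_bidualMap, hv]

/-- The stalks of `F^**` are reflexive (at points where the local ring is a domain). -/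
theorem isReflexive_stalk_ddual (hF : Coh.IsCoh F) (x : X) [IsDomain (X.presheaf.stalk x)] :
    Module.IsReflexive (X.presheaf.stalk x) ((RefHull.ddual F).presheaf.stalk x) := by
  haveI : Module.Finite (X.presheaf.stalk x) ((RefHull.dual F).presheaf.stalk x) :=
    Groth.Agent.Lib.Helper12.QuasiFlat.finite_stalk_of_isCoh _ (isCoh_dual F hF) x
  haveI := Groth.Agent.Lib.Helper45.ReflexiveAlg.isReflexive_dual (X.presheaf.stalk x)
    ((RefHull.dual F).presheaf.stalk x)
  exact Module.equiv (dualStalkEquiv (RefHull.dual F) (isCoh_dual F hF) x).symm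

end Groth.Agent.Lib.Helper45.BidualDVR
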