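import Mathlib
import Groth.Prelude.Def_Pi1
import Groth.Agent.Lib.Helper45.OrdGeneric
import Groth.Agent.Lib.Helper45.Rank1Invertible
import Groth.Agent.Lib.Helper45.HomExtend
import Groth.Agent.Lib.Helper45.BidualDVR

/-!
# Rank one reflexive modules at points of codimension one

Shared library of helper45 (namespace `Groth.Agent.Lib.Helper45.Ref1Codim1`).

* `stalkMapₗ_comp`, `stalkMapₗ_id`, `stalkMapₗ_bijective_of_iso`.
* `hom_ext_of_stalkMapₗ_genericPoint`: morphisms into a torsion free quasi-coherent module on an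
  integral scheme are determined by their generic stalk map.
* `exists_smul_stalkSpecializes_eq`: a generator of `L_x` generates the generic stalk.
* `exists_generator_stalk_of_isRef1`: on a normal scheme, a rank one reflexive module has free
  stalks of rank one at the points of codimension one.
-/

set_option autoImplicit false
set_option linter.style.haveILetI false
universe u
open CategoryTheory CategoryTheory.Limits AlgebraicGeometry TopologicalSpace

namespace Groth.Agent.Lib.Helper45.Ref1Codim1

open Groth.Agent.Lib.Helper45 Groth.Agent.Lib.Helper45.HomExtend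

section General

variable {X : Scheme.{u}}

theorem stalkMapₗ_comp {F G H : X.Modules} (φ : F ⟶ G) (ψ : G ⟶ H) (x : X) :
    RefHull.stalkMapₗ (φ ≫ ψ) x = (RefHull.stalkMapₗ ψ x).comp (RefHull.stalkMapₗ φ x) := by
  ext γ
  obtain ⟨U, hxU, m, rfl⟩ := TopCat.Presheaf.exists_germ_eq F.presheaf γ
  rw [LinearMap.comp_apply, RefHull.stalkMapₗ_germ, RefHull.stalkMapₗ_germ,
    RefHull.stalkMapₗ_germ]
  rfl

theorem stalkMapₗ_id (F : X.Modules) (x : X) :
    RefHull.stalkMapₗ (𝟙 F) x = LinearMap.id := by
  ext γ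
  obtain ⟨U, hxU, m, rfl⟩ := TopCat.Presheaf.exists_germ_eq F.presheaf γ
  rw [RefHull.stalkMapₗ_germ]
  rfl

theorem stalkMapₗ_bijective_of_iso {F G : X.Modules} (e : F ≅ G) (x : X) :
    Function.Bijective (RefHull.stalkMapₗ e.hom x) := by
  have h1 : (RefHull.stalkMapₗ e.inv x).comp (RefHull.stalkMapₗ e.hom x) = LinearMap.id := by
    rw [← stalkMapₗ_comp, e.hom_inv_id, stalkMapₗ_id]
  have h2 : (RefHull.stalkMapₗ e.hom x).comp (RefHull.stalkMapₗ e.inv x) = LinearMap.id := by
    rw [← stalkMapₗ_comp, e.inv_hom_id, stalkMapₗ_id]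
  refine ⟨?_, ?_⟩
  · intro a b hab
    have := congrArg (RefHull.stalkMapₗ e.inv x) hab
    rwa [← LinearMap.comp_apply, ← LinearMap.comp_apply, h1] at this
  · intro b
    exact ⟨RefHull.stalkMapₗ e.inv x b, by rw [← LinearMap.comp_apply, h2]; rfl⟩

theorem exists_generator_of_linearEquiv {A M : Type*} [CommRing A] [AddCommGroup M] [Module A M]
    (e : M ≃ₗ[A] A) :
    ∃ t : M, Submodule.span A {t} = ⊤ ∧ ∀ a : A, a • t = 0 → a = 0 := by
  refine ⟨e.symm 1, ?_, ?_⟩
  · rw [eq_top_iff]
    intro m _
    refine Submodule.mem_span_singleton.mpr ⟨e m, ?_⟩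
    rw [← map_smul, smul_eq_mul, mul_one, LinearEquiv.symm_apply_apply]
  · intro a ha
    rw [← map_smul, smul_eq_mul, mul_one] at ha
    simpa using ha

end General

section Integral

variable {X : Scheme.{u}} [IsIntegral X] [IsLocallyNoetherian X]

/-- Morphisms into a torsion free quasi-coherent module are determined by their generic stalk
map. -/
theorem hom_ext_of_stalkMapₗ_genericPoint {F H : X.Modules} [H.IsQuasicoherent]
    (hH : TorSh.IsTorsionFree H) (φ₁ φ₂ : F ⟶ H)
    (h : RefHull.stalkMapₗ φ₁ (genericPoint X) = RefHull.stalkMapₗ φ₂ (genericPoint X)) :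
    φ₁ = φ₂ := by
  refine Scheme.Modules.hom_ext φ₁ φ₂ (fun V => ?_)
  ext e
  change φ₁.app V e = φ₂.app V e
  by_cases hV : genericPoint X ∈ V
  · rw [← sub_eq_zero]
    apply section_eq_zero_of_germ_genericPoint H hH _ hV
    rw [map_sub, ← RefHull.stalkMapₗ_germ, ← RefHull.stalkMapₗ_germ, h, sub_self]
  · have hVe : ∀ y, y ∉ V := fun y hy => hV ((genericPoint_specializes y).mem_open V.isOpen hy)
    exact section_ext_germ H V _ _ (fun y hy => absurd hy (hVe y))

omit [IsLocallyNoetherian X] in
/-- A generator of the stalk at `x` generates the generic stalk. -/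
theorem exists_smul_stalkSpecializes_eq (L : X.Modules) [L.IsQuasicoherent] (x : X)
    (t : L.presheaf.stalk x) (ht : Submodule.span (X.presheaf.stalk x) {t} = ⊤)
    (γ' : L.presheaf.stalk (genericPoint X)) :
    ∃ φ : X.presheaf.stalk (genericPoint X),
      γ' = φ • L.presheaf.stalkSpecializes (genericPoint_specializes x) t := by
  letI : Field (X.presheaf.stalk (genericPoint X)) := inferInstanceAs (Field X.functionField)
  obtain ⟨c, hc, γ, hγ⟩ :=
    exists_isUnit_smul_eq_stalkSpecializes L (genericPoint_specializes x) γ'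
  obtain ⟨a, ha⟩ : ∃ a : X.presheaf.stalk x, a • t = γ :=
    Submodule.mem_span_singleton.mp (by rw [ht]; exact Submodule.mem_top)
  refine ⟨c⁻¹ * X.presheaf.stalkSpecializes (genericPoint_specializes x) a, ?_⟩
  rw [mul_smul, ← stalkSpecializes_smul, ha, ← hγ, smul_smul, inv_mul_cancel₀ hc.ne_zero,
    one_smul]

omit [IsIntegral X] in
theorem isTorsionFree_of_isReflexive (F : X.Modules) (hF : Coh.IsCoh F)
    (hr : RefHull.IsReflexive F) : TorSh.IsTorsionFree F := fun x => by
  haveI : Module.IsReflexive (X.presheaf.stalk x) (F.presheaf.stalk x) :=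
    (Groth.Agent.Lib.Helper45.RefHullStalk.isReflexive_iff_forall_isReflexiveAt F hF).mp hr x
  infer_instance

/-- On a normal scheme, a rank one reflexive module has free stalks of rank one at the points of
codimension one. -/
theorem exists_generator_stalk_of_isRef1 (hX : Pi1.IsNormalScheme X) (F : X.Modules)
    (hF : RefHull.IsRef1 F) (x : X) (hx : Order.coheight x = 1) :
    ∃ t : F.presheaf.stalk x, Submodule.span (X.presheaf.stalk x) {t} = ⊤ ∧
      (∀ a : X.presheaf.stalk x, a • t = 0 → a = 0) ∧
      F.presheaf.stalkSpecializes (genericPoint_specializes x) t ≠ 0 := by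
  obtain ⟨hcoh, hrefl, hgen⟩ := hF
  haveI : F.IsQuasicoherent := hcoh.1
  haveI : IsIntegrallyClosed (X.presheaf.stalk x) := (hX x).2
  have hdim : ringKrullDim (X.presheaf.stalk x) = 1 := (OrdGeneric.coheight_eq_one_iff x).mp hx
  haveI : IsPrincipalIdealRing (X.presheaf.stalk x) :=
    BidualDVR.isPrincipalIdealRing_of_ringKrullDim_eq_one _ hdim
  haveI : Module.IsReflexive (X.presheaf.stalk x) (F.presheaf.stalk x) :=
    (Groth.Agent.Lib.Helper45.RefHullStalk.isReflexive_iff_forall_isReflexiveAt F hcoh).mp hrefl x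
  obtain ⟨n₀, hn₀, hrank⟩ := Rank1Invertible.exists_rank_one_stalk F hgen x
  obtain ⟨e⟩ := ReflexiveUFD.nonempty_linearEquiv_self_of_isReflexive_rank_one
    (A := X.presheaf.stalk x) (F.presheaf.stalk x) n₀ hn₀ hrank
  obtain ⟨t, ht, hann⟩ := exists_generator_of_linearEquiv e
  refine ⟨t, ht, hann, ?_⟩
  intro h0
  have htf := isTorsionFree_of_isReflexive F hcoh hrefl
  have ht0 : t = 0 := stalkSpecializes_eq_zero F htf x t h0
  have h1 : (1 : X.presheaf.stalk x) = 0 := hann 1 (by rw [ht0, smul_zero])
  exact one_ne_zero h1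

omit [IsLocallyNoetherian X] in
/-- A nonzero element of the generic stalk of a generically invertible module generates it. -/
theorem exists_smul_eq_of_ne_zero (L : X.Modules) (hgen : RefHull.GenInvertible L)
    (σ : L.presheaf.stalk (genericPoint X)) (hσ : σ ≠ 0) (a : L.presheaf.stalk (genericPoint X)) :
    ∃ c : X.presheaf.stalk (genericPoint X), a = c • σ := by
  letI : Field (X.presheaf.stalk (genericPoint X)) := inferInstanceAs (Field X.functionField)
  obtain ⟨g, hg0, hg⟩ := Rank1Invertible.exists_generator_ne_zero_genericPoint L hgen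
  obtain ⟨c₀, hc₀⟩ := hg σ
  have hc₀ne : c₀ ≠ 0 := by
    rintro rfl
    rw [zero_smul] at hc₀
    exact hσ hc₀
  obtain ⟨c, hc⟩ := hg a
  refine ⟨c * c₀⁻¹, ?_⟩
  rw [hc₀, smul_smul, mul_assoc, inv_mul_cancel₀ hc₀ne, mul_one, hc]

omit [IsLocallyNoetherian X] in
/-- The zero-dimensional points of an integral scheme: only the generic point. -/
theorem eq_genericPoint_of_ringKrullDim_le_one_of_ne_one (x : X)
    (hx : ringKrullDim (X.presheaf.stalk x) ≤ 1) (hx1 : ringKrullDim (X.presheaf.stalk x) ≠ 1) :
    x = genericPoint X := by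
  have hx0 : ringKrullDim (X.presheaf.stalk x) ≤ 0 := by
    rw [ringKrullDim_stalk_eq_coheight] at hx hx1 ⊢
    have hx' : Order.coheight x ≤ 1 := by exact_mod_cast hx
    have hx1' : Order.coheight x ≠ 1 := fun h => hx1 (by rw [h]; rfl)
    have : Order.coheight x = 0 := by
      rcases lt_or_eq_of_le hx' with h | h
      · exact Order.lt_one_iff.mp h
      · exact absurd h hx1'
    rw [this]
    rfl
  haveI : Ring.KrullDimLE 0 (X.presheaf.stalk x) := (Ring.krullDimLE_iff).mpr hx0
  have hfx : IsField (X.presheaf.stalk x) := Ring.KrullDimLE.isField_of_isDomain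
  exact Rank1Section.eq_genericPoint_of_isField x hfx

omit [IsIntegral X] [IsLocallyNoetherian X] in
theorem stalkSpecializes_self (Z : X.Modules) (y : X) (h : y ⤳ y) (ζ : Z.presheaf.stalk y) :
    Z.presheaf.stalkSpecializes h ζ = ζ := by
  have := TopCat.Presheaf.stalkSpecializes_refl (F := Z.presheaf) y
  exact congrArg (fun f => f.hom ζ) this

/-- **Morphisms from orders.**  On a normal integral locally Noetherian scheme, let `L`, `M` be
rank one reflexive modules with nonzero rational sections `σL`, `σM`, and `f` a nonzero rational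
function with `ord_{x,L}(σL) = ord_{x,M}(σM) + ord_x(f)` at all points of codimension one.  Then
there is a morphism `L ⟶ M` sending `σL` to `f • σM` at the generic point. -/
theorem exists_hom_of_secOrdAt_eq (hX : Pi1.IsNormalScheme X) (L M : X.Modules)
    (hL : RefHull.IsRef1 L) (hM : RefHull.IsRef1 M)
    (σL : L.presheaf.stalk (genericPoint X)) (σM : M.presheaf.stalk (genericPoint X))
    (hσL : σL ≠ 0) (hσM : σM ≠ 0) (f : X.functionField) (hf : f ≠ 0)
    (hord : ∀ x : X, Order.coheight x = 1 →
      Cyc.secOrdAt L (genericPoint X) x (genericPoint_specializes x)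
          (Submodule.Quotient.mk σL) =
        Cyc.secOrdAt M (genericPoint X) x (genericPoint_specializes x)
          (Submodule.Quotient.mk σM) + Scheme.ord f x) :
    ∃ ψ : L ⟶ M, RefHull.stalkMapₗ ψ (genericPoint X) σL = f • σM := by
  classical
  letI : Field (X.presheaf.stalk (genericPoint X)) := inferInstanceAs (Field X.functionField)
  haveI : L.IsQuasicoherent := hL.1.1
  haveI : M.IsQuasicoherent := hM.1.1
  have hgenL := exists_smul_eq_of_ne_zero L hL.2.2 σL hσL
  have hinjL : Function.Injective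
      (LinearMap.toSpanSingleton (X.presheaf.stalk (genericPoint X)) _ σL) := by
    intro a b hab
    rw [LinearMap.toSpanSingleton_apply, LinearMap.toSpanSingleton_apply] at hab
    have h1 : (a - b) • σL = 0 := by rw [sub_smul, hab, sub_self]
    rcases smul_eq_zero.mp h1 with h2 | h2
    · exact sub_eq_zero.mp h2
    · exact absurd h2 hσL
  let eL : X.presheaf.stalk (genericPoint X) ≃ₗ[X.presheaf.stalk (genericPoint X)]
      L.presheaf.stalk (genericPoint X) :=
    LinearEquiv.ofBijective (LinearMap.toSpanSingleton _ _ σL)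
      ⟨hinjL, fun a => by
        obtain ⟨c, hc⟩ := hgenL a
        exact ⟨c, by rw [LinearMap.toSpanSingleton_apply, hc]⟩⟩
  let T : L.presheaf.stalk (genericPoint X) →ₗ[X.presheaf.stalk (genericPoint X)]
      M.presheaf.stalk (genericPoint X) :=
    (LinearMap.toSpanSingleton _ _ (f • σM)).comp eL.symm.toLinearMap
  have hT1 : ∀ c : X.presheaf.stalk (genericPoint X), T (c • σL) = c • f • σM := by
    intro c
    have h1 : eL.symm (c • σL) = c := by
      rw [LinearEquiv.symm_apply_eq]
      rfl
    change LinearMap.toSpanSingleton _ _ (f • σM) (eL.symm (c • σL)) = _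
    rw [h1, LinearMap.toSpanSingleton_apply]
  have hMr : ∀ x : X, Module.IsReflexive (X.presheaf.stalk x) (M.presheaf.stalk x) :=
    (Groth.Agent.Lib.Helper45.RefHullStalk.isReflexive_iff_forall_isReflexiveAt M hM.1).mp hM.2.1
  suffices hT : ∀ x : X, ringKrullDim (X.presheaf.stalk x) ≤ 1 → ∀ γ : L.presheaf.stalk x,
      ∃ ζ : M.presheaf.stalk x, M.presheaf.stalkSpecializes (genericPoint_specializes x) ζ =
        T (L.presheaf.stalkSpecializes (genericPoint_specializes x) γ) by
    obtain ⟨ψ, hψ⟩ := exists_hom_of_codim_one L M hL.1 hM.1 hMr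
      (fun x hx => by
        haveI := (hX x).2
        exact Groth.Agent.Lib.Helper45.RefHullDepth.two_le_depth_of_isIntegrallyClosed _ hx) T hT
    refine ⟨ψ, ?_⟩
    rw [hψ]
    have := hT1 1
    rwa [one_smul, one_smul] at this
  -- compatibility at the points of dimension ≤ 1
  intro x hx γ
  by_cases hx1 : ringKrullDim (X.presheaf.stalk x) = 1
  · have hcx : Order.coheight x = 1 := (OrdGeneric.coheight_eq_one_iff x).mpr hx1
    haveI : IsIntegrallyClosed (X.presheaf.stalk x) := (hX x).2
    haveI : IsDiscreteValuationRing (X.presheaf.stalk x) :=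
      OrdGeneric.isDiscreteValuationRing_of_ringKrullDim_eq_one _ hx1
    obtain ⟨tL, htL, hannL, hneL⟩ := exists_generator_stalk_of_isRef1 hX L hL x hcx
    obtain ⟨tM, htM, hannM, hneM⟩ := exists_generator_stalk_of_isRef1 hX M hM x hcx
    obtain ⟨φL, hφL⟩ := exists_smul_stalkSpecializes_eq L x tL htL σL
    obtain ⟨φM, hφM⟩ := exists_smul_stalkSpecializes_eq M x tM htM σM
    have hφL0 : φL ≠ 0 := by
      rintro rfl
      rw [zero_smul] at hφL
      exact hσL hφL
    have hφM0 : φM ≠ 0 := by
      rintro rfl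
      rw [zero_smul] at hφM
      exact hσM hφM
    have hordx := hord x hcx
    rw [hφL, hφM, OrdGeneric.secOrdAt_eq_ord x _ hcx L tL htL hannL hneL φL,
      OrdGeneric.secOrdAt_eq_ord x _ hcx M tM htM hannM hneM φM] at hordx
    -- the transition function is regular at `x`
    have hw0 : φL⁻¹ * f * φM ≠ 0 := mul_ne_zero (mul_ne_zero (inv_ne_zero hφL0) hf) hφM0
    have hordw : Scheme.ord (X := X) (φL⁻¹ * f * φM) x = 0 := by
      have h1 : Scheme.ord (X := X) (φL * (φL⁻¹ * f * φM)) x =
          Scheme.ord (X := X) φL x + Scheme.ord (X := X) (φL⁻¹ * f * φM) x :=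
        Scheme.ord_mul hφL0 hw0
      have h2 : φL * (φL⁻¹ * f * φM) = φM * f := by
        field_simp
      rw [h2, Scheme.ord_mul hφM0 hf] at h1
      omega
    obtain ⟨u, hu⟩ := OrdGeneric.exists_algebraMap_eq_of_ord_nonneg x hcx (φL⁻¹ * f * φM) hw0
      hordw.ge
    obtain ⟨a, ha⟩ : ∃ a : X.presheaf.stalk x, a • tL = γ :=
      Submodule.mem_span_singleton.mp (by rw [htL]; exact Submodule.mem_top)
    refine ⟨(a * u) • tM, ?_⟩
    have hspecL : L.presheaf.stalkSpecializes (genericPoint_specializes x) tL = φL⁻¹ • σL := by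
      rw [hφL, smul_smul, inv_mul_cancel₀ hφL0, one_smul]
    rw [← ha, stalkSpecializes_smul, stalkSpecializes_smul, hspecL, smul_smul, hT1, map_mul,
      OrdGeneric.stalkSpecializes_eq_algebraMap x _ u, hu, hφM, smul_smul, smul_smul]
    congr 1
    ring
  · have hxη := eq_genericPoint_of_ringKrullDim_le_one_of_ne_one x hx hx1
    subst hxη
    refine ⟨T γ, ?_⟩
    rw [stalkSpecializes_self, stalkSpecializes_self]

end Integral

end Groth.Agent.Lib.Helper45.Ref1Codim1
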