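import Mathlib
import Groth.Agent.Lib.Helper45.InvOrd
import Groth.Agent.Lib.Helper45.Ref1Codim1
import Groth.Agent.Lib.Helper11.TensorBasis
import Groth.Agent.Lib.Helper11.TensorQCoh

/-!
# Reflexive tensor products of rank one reflexive modules

Shared library of helper45 (namespace `Groth.Agent.Lib.Helper45.Ref1Tensor`).

* `exists_isBasisOn_of_stalk_equiv`: a coherent module with stalk free of rank one at `x` has a
  basis on a neighbourhood of `x`.
* `nonempty_stalk_equiv_of_isRef1`: rank one reflexive modules on a normal scheme have free stalks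
  of rank one at the points of dimension `≤ 1`.
* `germ_tm_eq`: germs of tensors of sections in terms of local bases.
* `exists_section_ddual_tensor`: the reflexive hull of `F ⊗ G` has a rational section whose orders
  are the sums of the orders of given rational sections of `F` and `G`.
-/

set_option autoImplicit false
set_option linter.style.haveILetI false
universe u
open CategoryTheory CategoryTheory.Limits AlgebraicGeometry TopologicalSpace

namespace Groth.Agent.Lib.Helper45.Ref1Tensor

open Groth.Agent.Lib.Helper45 Groth.Agent.Lib.Helper49 Groth.Agent.Lib.Helper11.GenLocus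
  Groth.Agent.Lib.Helper45.HomExtend

section Spread

variable {X : Scheme.{u}} [IsLocallyNoetherian X]

attribute [local instance] stalkModuleSections sectionsBasicOpenModule

/-- A coherent module whose stalk at `x` is free of rank one has a basis near `x`. -/
theorem exists_isBasisOn_of_stalk_equiv (F : X.Modules) (hF : Coh.IsCoh F) (x : X)
    (e : F.presheaf.stalk x ≃ₗ[X.presheaf.stalk x] X.presheaf.stalk x) :
    ∃ (W : X.Opens) (_ : x ∈ W) (τ : Γ(F, W)), IsBasisOn F W τ := by
  haveI : F.IsQuasicoherent := hF.1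
  obtain ⟨_, ⟨W, hW : IsAffineOpen W, rfl⟩, hxW, -⟩ :=
    X.isBasis_affineOpens.exists_subset_of_mem_open (Set.mem_univ x) isOpen_univ
  obtain ⟨xW, rfl⟩ : ∃ xW : W, (xW : X) = x := ⟨⟨x, hxW⟩, rfl⟩
  haveI : IsNoetherianRing Γ(X, W) := IsLocallyNoetherian.component_noetherian ⟨W, hW⟩
  haveI : Module.Finite Γ(X, W) Γ(F, W) := finite_sections_of_isCoh hW F hF
  haveI : Module.FinitePresentation Γ(X, W) Γ(F, W) := Module.finitePresentation_of_finite _ _
  haveI := isLocalizedModule_germₗ hW F xW
  haveI := hW.isLocalization_stalk xW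
  let b : Module.Basis Unit (X.presheaf.stalk (xW : X)) (F.presheaf.stalk (xW : X)) :=
    Module.Basis.ofEquivFun (e.trans (LinearEquiv.funUnique Unit (X.presheaf.stalk (xW : X))
      (X.presheaf.stalk (xW : X))).symm)
  obtain ⟨r, hr, b', -⟩ := Module.FinitePresentation.exists_basis_localizedModule_powers
    (hW.primeIdealOf xW).asIdeal.primeCompl (germₗ F xW) (X.presheaf.stalk (xW : X)) b
  have hx : (xW : X) ∈ X.basicOpen r := (mem_basicOpen_iff_not_mem_primeIdealOf hW xW r).mpr hr
  haveI := hW.isLocalization_basicOpen r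
  haveI := isLocalizedModule_restrictBasicOpenₗ hW F r
  obtain ⟨e'⟩ := Rank1Invertible.nonempty_linearEquiv_self_of_basis_unit r Γ(X, X.basicOpen r)
    (restrictBasicOpenₗ F r) b'
  obtain ⟨φ⟩ := nonempty_restrict_iso_structureModule (hW.basicOpen r) F e'
  obtain ⟨τ, hτ⟩ := exists_isBasisOn_of_iso φ
  exact ⟨X.basicOpen r, hx, τ, hτ⟩

/-- The stalk map of `M ⟶ M^**` is bijective where the stalk of `M` is free of rank one. -/
theorem stalkMapₗ_bidualMap_bijective_of_equiv (M : X.Modules) (hM : Coh.IsCoh M) (x : X)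
    (e : M.presheaf.stalk x ≃ₗ[X.presheaf.stalk x] X.presheaf.stalk x) :
    Function.Bijective (RefHull.stalkMapₗ (RefHull.bidualMap M) x) := by
  refine (Groth.Agent.Lib.Helper45.RefHullStalk.stalkMap_bidualMap_bijective_iff M hM x).mpr ?_
  change Module.IsReflexive (X.presheaf.stalk x) (M.presheaf.stalk x)
  exact Module.equiv e.symm

end Spread

section Basis

variable {X : Scheme.{u}}

/-- The stalk of a module with a local basis is free of rank one. -/
theorem nonempty_stalk_equiv_of_isBasisOn {M : X.Modules} {W : X.Opens} {τ : Γ(M, W)}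
    (hτ : IsBasisOn M W τ) (x : X) (hx : x ∈ W) :
    Nonempty (M.presheaf.stalk x ≃ₗ[X.presheaf.stalk x] X.presheaf.stalk x) := by
  have hinj : Function.Injective
      (LinearMap.toSpanSingleton (X.presheaf.stalk x) _ (M.presheaf.germ W x hx τ)) := by
    intro a b hab
    rw [LinearMap.toSpanSingleton_apply, LinearMap.toSpanSingleton_apply] at hab
    have h1 : (a - b) • M.presheaf.germ W x hx τ = 0 := by rw [sub_smul, hab, sub_self]
    exact sub_eq_zero.mp (InvOrd.germ_basis_ann hτ x hx _ h1)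
  have hsurj : Function.Surjective
      (LinearMap.toSpanSingleton (X.presheaf.stalk x) _ (M.presheaf.germ W x hx τ)) := by
    intro μ
    obtain ⟨a, ha⟩ : ∃ a : X.presheaf.stalk x, a • M.presheaf.germ W x hx τ = μ :=
      Submodule.mem_span_singleton.mp (by
        rw [InvOrd.germ_basis_span hτ x hx]
        exact Submodule.mem_top)
    exact ⟨a, by rw [LinearMap.toSpanSingleton_apply, ha]⟩
  exact ⟨(LinearEquiv.ofBijective _ ⟨hinj, hsurj⟩).symm⟩

/-- Germs of tensors of sections in terms of local bases. -/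
theorem germ_tm_eq (F G : X.Modules) {UF UG W : X.Opens} (y : X) (hyUF : y ∈ UF) (hyUG : y ∈ UG)
    (hyW : y ∈ W) (mF : Γ(F, UF)) (mG : Γ(G, UG)) {τF : Γ(F, W)} {τG : Γ(G, W)}
    (hτF : IsBasisOn F W τF) (hτG : IsBasisOn G W τG) :
    ∃ φF φG : X.presheaf.stalk y,
      F.presheaf.germ UF y hyUF mF = φF • F.presheaf.germ W y hyW τF ∧
      G.presheaf.germ UG y hyUG mG = φG • G.presheaf.germ W y hyW τG ∧
      (CohB1.tensorMod F G).presheaf.germ (UF ⊓ UG) y ⟨hyUF, hyUG⟩
          (tm F G (UF ⊓ UG) (mres F inf_le_left mF) (mres G inf_le_right mG)) =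
        (φF * φG) • (CohB1.tensorMod F G).presheaf.germ W y hyW (tm F G W τF τG) := by
  have hyO : y ∈ (UF ⊓ UG) ⊓ W := ⟨⟨hyUF, hyUG⟩, hyW⟩
  have hOW : (UF ⊓ UG) ⊓ W ≤ W := inf_le_right
  have hOU : (UF ⊓ UG) ⊓ W ≤ UF ⊓ UG := inf_le_left
  have hOUF : (UF ⊓ UG) ⊓ W ≤ UF := hOU.trans inf_le_left
  have hOUG : (UF ⊓ UG) ⊓ W ≤ UG := hOU.trans inf_le_right
  obtain ⟨rF, hrF⟩ := (hτF.mono hOW).exists_eq_smul (mres F hOUF mF)
  obtain ⟨rG, hrG⟩ := (hτG.mono hOW).exists_eq_smul (mres G hOUG mG)
  refine ⟨X.presheaf.germ _ y hyO rF, X.presheaf.germ _ y hyO rG, ?_, ?_, ?_⟩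
  · rw [← InvOrd.germ_mres hOUF _ hyO mF, ← hrF, Mero.germ_smul, InvOrd.germ_mres]
  · rw [← InvOrd.germ_mres hOUG _ hyO mG, ← hrG, Mero.germ_smul, InvOrd.germ_mres]
  · rw [← InvOrd.germ_mres hOU _ hyO, tm_res, mres_mres, mres_mres,
      ← hrF, ← hrG, tm_smul_left, tm_smul_right, smul_smul, ← tm_res, Mero.germ_smul,
      InvOrd.germ_mres, map_mul]

end Basis

section Normal

variable {X : Scheme.{u}} [IsIntegral X] [IsLocallyNoetherian X]

/-- On a normal scheme, a rank one reflexive module has free stalks of rank one at the points of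
dimension at most one. -/
theorem nonempty_stalk_equiv_of_isRef1 (hX : Pi1.IsNormalScheme X) (F : X.Modules)
    (hF : RefHull.IsRef1 F) (x : X) (hx : ringKrullDim (X.presheaf.stalk x) ≤ 1) :
    Nonempty (F.presheaf.stalk x ≃ₗ[X.presheaf.stalk x] X.presheaf.stalk x) := by
  obtain ⟨hcoh, hrefl, hgen⟩ := hF
  haveI : F.IsQuasicoherent := hcoh.1
  by_cases hx1 : ringKrullDim (X.presheaf.stalk x) = 1
  · haveI : IsIntegrallyClosed (X.presheaf.stalk x) := (hX x).2
    haveI : IsPrincipalIdealRing (X.presheaf.stalk x) :=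
      BidualDVR.isPrincipalIdealRing_of_ringKrullDim_eq_one _ hx1
    haveI : Module.IsReflexive (X.presheaf.stalk x) (F.presheaf.stalk x) :=
      (Groth.Agent.Lib.Helper45.RefHullStalk.isReflexive_iff_forall_isReflexiveAt F hcoh).mp
        hrefl x
    obtain ⟨n₀, hn₀, hrank⟩ := Rank1Invertible.exists_rank_one_stalk F hgen x
    exact ReflexiveUFD.nonempty_linearEquiv_self_of_isReflexive_rank_one
      (A := X.presheaf.stalk x) (F.presheaf.stalk x) n₀ hn₀ hrank
  · have hxη := Ref1Codim1.eq_genericPoint_of_ringKrullDim_le_one_of_ne_one x hx hx1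
    subst hxη
    letI : Field (X.presheaf.stalk (genericPoint X)) := inferInstanceAs (Field X.functionField)
    obtain ⟨g, hg0, hg⟩ := Rank1Invertible.exists_generator_ne_zero_genericPoint F hgen
    have hinj : Function.Injective
        (LinearMap.toSpanSingleton (X.presheaf.stalk (genericPoint X)) _ g) := by
      intro a b hab
      rw [LinearMap.toSpanSingleton_apply, LinearMap.toSpanSingleton_apply] at hab
      have h1 : (a - b) • g = 0 := by rw [sub_smul, hab, sub_self]
      rcases smul_eq_zero.mp h1 with h2 | h2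
      · exact sub_eq_zero.mp h2
      · exact absurd h2 hg0
    have hsurj : Function.Surjective
        (LinearMap.toSpanSingleton (X.presheaf.stalk (genericPoint X)) _ g) := by
      intro μ
      obtain ⟨c, hc⟩ := hg μ
      exact ⟨c, by rw [LinearMap.toSpanSingleton_apply, hc]⟩
    exact ⟨(LinearEquiv.ofBijective _ ⟨hinj, hsurj⟩).symm⟩

/-- Local bases of a rank one reflexive module near the points of dimension at most one. -/
theorem exists_isBasisOn_of_isRef1 (hX : Pi1.IsNormalScheme X) (F : X.Modules)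
    (hF : RefHull.IsRef1 F) (x : X) (hx : ringKrullDim (X.presheaf.stalk x) ≤ 1) :
    ∃ (W : X.Opens) (_ : x ∈ W) (τ : Γ(F, W)), IsBasisOn F W τ := by
  obtain ⟨e⟩ := nonempty_stalk_equiv_of_isRef1 hX F hF x hx
  exact exists_isBasisOn_of_stalk_equiv F hF.1 x e

omit [IsIntegral X] [IsLocallyNoetherian X] in
theorem isCoh_tensorMod (F G : X.Modules) (hF : Coh.IsCoh F) (hG : Coh.IsCoh G) :
    Coh.IsCoh (CohB1.tensorMod F G) := by
  haveI : F.IsQuasicoherent := hF.1
  haveI : G.IsQuasicoherent := hG.1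
  obtain ⟨h1, h2⟩ := Groth.Agent.Lib.Helper11.TildeTensor.isQuasicoherent_tensorMod F G
  exact ⟨h1, h2 hF.2 hG.2⟩

/-- **Additivity of divisors under the reflexive tensor product.** -/
theorem exists_section_ddual_tensor (hX : Pi1.IsNormalScheme X) (F G : X.Modules)
    (hF : RefHull.IsRef1 F) (hG : RefHull.IsRef1 G)
    (σF : F.presheaf.stalk (genericPoint X)) (σG : G.presheaf.stalk (genericPoint X))
    (hσF : σF ≠ 0) (hσG : σG ≠ 0) :
    ∃ w₀ : (RefHull.ddual (CohB1.tensorMod F G)).presheaf.stalk (genericPoint X), w₀ ≠ 0 ∧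
      ∀ x : X, Order.coheight x = 1 →
        Cyc.secOrdAt (RefHull.ddual (CohB1.tensorMod F G)) (genericPoint X) x
            (genericPoint_specializes x) (Submodule.Quotient.mk w₀) =
          Cyc.secOrdAt F (genericPoint X) x (genericPoint_specializes x)
              (Submodule.Quotient.mk σF) +
            Cyc.secOrdAt G (genericPoint X) x (genericPoint_specializes x)
              (Submodule.Quotient.mk σG) := by
  classical
  letI : Field (X.presheaf.stalk (genericPoint X)) := inferInstanceAs (Field X.functionField)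
  have hMcoh := isCoh_tensorMod F G hF.1 hG.1
  obtain ⟨UF, hηUF, mF, rfl⟩ := TopCat.Presheaf.exists_germ_eq F.presheaf σF
  obtain ⟨UG, hηUG, mG, rfl⟩ := TopCat.Presheaf.exists_germ_eq G.presheaf σG
  have hηU : genericPoint X ∈ UF ⊓ UG := ⟨hηUF, hηUG⟩
  let β := RefHull.bidualMap (CohB1.tensorMod F G)
  let m : Γ(CohB1.tensorMod F G, UF ⊓ UG) :=
    tm F G (UF ⊓ UG) (mres F inf_le_left mF) (mres G inf_le_right mG)
  -- the local picture at points of dimension ≤ 1
  have core : ∀ x : X, ringKrullDim (X.presheaf.stalk x) ≤ 1 →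
      ∃ (W : X.Opens) (hxW : x ∈ W) (hηW : genericPoint X ∈ W) (τF : Γ(F, W)) (τG : Γ(G, W))
        (_ : IsBasisOn F W τF) (_ : IsBasisOn G W τG)
        (φF φG : X.presheaf.stalk (genericPoint X)),
        F.presheaf.germ UF (genericPoint X) hηUF mF =
          φF • F.presheaf.germ W (genericPoint X) hηW τF ∧
        G.presheaf.germ UG (genericPoint X) hηUG mG =
          φG • G.presheaf.germ W (genericPoint X) hηW τG ∧
        RefHull.stalkMapₗ β (genericPoint X)
            ((CohB1.tensorMod F G).presheaf.germ (UF ⊓ UG) (genericPoint X) hηU m) =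
          (φF * φG) • (RefHull.ddual (CohB1.tensorMod F G)).presheaf.stalkSpecializes
            (genericPoint_specializes x)
            (RefHull.stalkMapₗ β x ((CohB1.tensorMod F G).presheaf.germ W x hxW
              (tm F G W τF τG))) ∧
        Submodule.span (X.presheaf.stalk x) {RefHull.stalkMapₗ β x
          ((CohB1.tensorMod F G).presheaf.germ W x hxW (tm F G W τF τG))} = ⊤ ∧
        (∀ a : X.presheaf.stalk x, a • RefHull.stalkMapₗ β x
          ((CohB1.tensorMod F G).presheaf.germ W x hxW (tm F G W τF τG)) = 0 → a = 0) ∧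
        (RefHull.ddual (CohB1.tensorMod F G)).presheaf.stalkSpecializes
          (genericPoint_specializes x) (RefHull.stalkMapₗ β x
            ((CohB1.tensorMod F G).presheaf.germ W x hxW (tm F G W τF τG))) ≠ 0 := by
    intro x hx
    obtain ⟨WF, hxWF, τF, hτF⟩ := exists_isBasisOn_of_isRef1 hX F hF x hx
    obtain ⟨WG, hxWG, τG, hτG⟩ := exists_isBasisOn_of_isRef1 hX G hG x hx
    have hτF' := hτF.mono (inf_le_left : WF ⊓ WG ≤ WF)
    have hτG' := hτG.mono (inf_le_right : WF ⊓ WG ≤ WG)
    have hxW : x ∈ WF ⊓ WG := ⟨hxWF, hxWG⟩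
    have hηW : genericPoint X ∈ WF ⊓ WG :=
      (genericPoint_specializes x).mem_open (WF ⊓ WG).isOpen hxW
    have hτM := isBasisOn_tm hτF' hτG'
    obtain ⟨φF, φG, h1, h2, h3⟩ := germ_tm_eq F G (genericPoint X) hηUF hηUG hηW mF mG hτF' hτG'
    obtain ⟨ex⟩ := nonempty_stalk_equiv_of_isBasisOn hτM x hxW
    obtain ⟨eη⟩ := nonempty_stalk_equiv_of_isBasisOn hτM (genericPoint X) hηW
    have hbx := stalkMapₗ_bidualMap_bijective_of_equiv _ hMcoh x ex
    have hbη := stalkMapₗ_bidualMap_bijective_of_equiv _ hMcoh (genericPoint X) eη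
    have hspec : (RefHull.ddual (CohB1.tensorMod F G)).presheaf.stalkSpecializes
        (genericPoint_specializes x) (RefHull.stalkMapₗ β x
          ((CohB1.tensorMod F G).presheaf.germ (WF ⊓ WG) x hxW (tm F G (WF ⊓ WG) (mres F inf_le_left τF) (mres G inf_le_right τG)))) =
        RefHull.stalkMapₗ β (genericPoint X)
          ((CohB1.tensorMod F G).presheaf.germ (WF ⊓ WG) (genericPoint X) hηW
            (tm F G (WF ⊓ WG) (mres F inf_le_left τF) (mres G inf_le_right τG))) := by
      rw [← stalkMapₗ_stalkSpecializes, TopCat.Presheaf.germ_stalkSpecializes_apply]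
    refine ⟨WF ⊓ WG, hxW, hηW, _, _, hτF', hτG', φF, φG, h1, h2, ?_, ?_, ?_, ?_⟩
    · rw [hspec, ← map_smul]
      exact congrArg _ h3
    · rw [eq_top_iff]
      intro μ _
      obtain ⟨μ', rfl⟩ := hbx.2 μ
      obtain ⟨a, ha⟩ : ∃ a : X.presheaf.stalk x,
          a • (CohB1.tensorMod F G).presheaf.germ (WF ⊓ WG) x hxW (tm F G (WF ⊓ WG) (mres F inf_le_left τF) (mres G inf_le_right τG)) = μ' :=
        Submodule.mem_span_singleton.mp (by
          rw [InvOrd.germ_basis_span hτM x hxW]
          exact Submodule.mem_top)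
      exact Submodule.mem_span_singleton.mpr ⟨a, by rw [← ha, map_smul]⟩
    · intro a ha
      rw [← map_smul] at ha
      exact InvOrd.germ_basis_ann hτM x hxW a (hbx.1 (ha.trans (map_zero _).symm))
    · rw [hspec]
      intro h0
      have h4 := hbη.1 (h0.trans (map_zero _).symm)
      have h5 : (1 : X.presheaf.stalk (genericPoint X)) = 0 :=
        InvOrd.germ_basis_ann hτM _ hηW 1 (by rw [h4, smul_zero])
      exact one_ne_zero h5
  refine ⟨RefHull.stalkMapₗ β (genericPoint X)
    ((CohB1.tensorMod F G).presheaf.germ (UF ⊓ UG) (genericPoint X) hηU m), ?_, ?_⟩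
  · have hη1 : ringKrullDim (X.presheaf.stalk (genericPoint X)) ≤ 1 := by
      rw [ringKrullDim_eq_zero_of_isField OrdGeneric.isField_stalk_genericPoint']
      exact zero_le_one
    obtain ⟨W, hxW, hηW, τF, τG, hτF, hτG, φF, φG, h1, h2, h3, -, -, hne⟩ :=
      core (genericPoint X) hη1
    rw [h3]
    have hφF : φF ≠ 0 := by
      rintro rfl
      rw [zero_smul] at h1
      exact hσF h1
    have hφG : φG ≠ 0 := by
      rintro rfl
      rw [zero_smul] at h2
      exact hσG h2
    exact smul_ne_zero (mul_ne_zero hφF hφG) hne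
  · intro x hcx
    have hx1 : ringKrullDim (X.presheaf.stalk x) ≤ 1 :=
      ((OrdGeneric.coheight_eq_one_iff x).mp hcx).le
    obtain ⟨W, hxW, hηW, τF, τG, hτF, hτG, φF, φG, h1, h2, h3, hspan, hann, hne⟩ := core x hx1
    have hφF : φF ≠ 0 := by
      rintro rfl
      rw [zero_smul] at h1
      exact hσF h1
    have hφG : φG ≠ 0 := by
      rintro rfl
      rw [zero_smul] at h2
      exact hσG h2
    rw [h1, h2, h3,
      InvOrd.secOrdAt_eq_ord_of_isBasisOn hτF x hxW hcx _ φF hηW,
      InvOrd.secOrdAt_eq_ord_of_isBasisOn hτG x hxW hcx _ φG hηW,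
      OrdGeneric.secOrdAt_eq_ord x _ hcx _ _ hspan hann hne (φF * φG)]
    exact Scheme.ord_mul hφF hφG

end Normal

end Groth.Agent.Lib.Helper45.Ref1Tensor
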