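import Mathlib
import Groth.Agent.Lib.Helper45.Ref1Tensor

/-!
# Closure properties of rank one reflexive modules and divisors of duals

Shared library of helper45 (namespace `Groth.Agent.Lib.Helper45.Ref1Dual`).

* `genInvertible_of_stalk_equiv`, `isReflexive_ddual`, `isReflexive_dual`,
  `isRef1_structureModule`, `isRef1_dual`, `isRef1_ddual_tensor`.
* `dualStalkEquiv_stalkSpecializes`: the identification `(F^*)_x ≃ (F_x)^*` is compatible with
  specialization.
* `exists_section_dual`: the dual of a rank one reflexive module has a rational section whose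
  orders are the negatives of those of a given rational section.
-/

set_option autoImplicit false
set_option linter.style.haveILetI false
universe u
open CategoryTheory CategoryTheory.Limits AlgebraicGeometry TopologicalSpace

namespace Groth.Agent.Lib.Helper45.Ref1Dual

open Groth.Agent.Lib.Helper45 Groth.Agent.Lib.Helper49 Groth.Agent.Lib.Helper11.GenLocus
  Groth.Agent.Lib.Helper45.HomExtend Groth.Agent.Lib.Helper45.RefHullStalk
  Groth.Agent.Lib.Helper45.RefHullCoh Groth.Agent.Lib.Helper45.RefHullHom

variable {X : Scheme.{u}} [IsIntegral X] [IsLocallyNoetherian X]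

/-- A coherent module whose generic stalk is free of rank one is generically invertible. -/
theorem genInvertible_of_stalk_equiv (M : X.Modules) (hM : Coh.IsCoh M)
    (e : M.presheaf.stalk (genericPoint X) ≃ₗ[X.presheaf.stalk (genericPoint X)]
      X.presheaf.stalk (genericPoint X)) : RefHull.GenInvertible M := by
  haveI : M.IsQuasicoherent := hM.1
  obtain ⟨W, hηW, τ, hτ⟩ := Ref1Tensor.exists_isBasisOn_of_stalk_equiv M hM (genericPoint X) e
  obtain ⟨_, ⟨W', hW' : IsAffineOpen W', rfl⟩, hηW', hW'W⟩ :=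
    X.isBasis_affineOpens.exists_subset_of_mem_open hηW W.isOpen
  have hle : W' ≤ W := hW'W
  obtain ⟨φ⟩ := (hτ.mono hle).nonempty_iso hW'
  exact ⟨W', W'.isOpen.dense ⟨genericPoint X, hηW'⟩,
    isInvertible_of_iso φ.symm (isInvertible_structureModule _)⟩

theorem isReflexive_ddual (M : X.Modules) (hM : Coh.IsCoh M) :
    RefHull.IsReflexive (RefHull.ddual M) :=
  (isReflexive_iff_forall_isReflexiveAt (RefHull.ddual M) (isCoh_ddual M hM)).mpr
    (fun x => BidualDVR.isReflexive_stalk_ddual M hM x)

theorem isReflexive_dual (F : X.Modules) (hF : Coh.IsCoh F) :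
    RefHull.IsReflexive (RefHull.dual F) := by
  refine (isReflexive_iff_forall_isReflexiveAt (RefHull.dual F) (isCoh_dual F hF)).mpr
    (fun x => ?_)
  haveI : Module.Finite (X.presheaf.stalk x) (F.presheaf.stalk x) :=
    Groth.Agent.Lib.Helper12.QuasiFlat.finite_stalk_of_isCoh F hF x
  haveI := ReflexiveAlg.isReflexive_dual (X.presheaf.stalk x) (F.presheaf.stalk x)
  exact Module.equiv (dualStalkEquiv F hF x).symm

theorem isRef1_structureModule : RefHull.IsRef1 (Coh.structureModule X) := by
  refine ⟨isCoh_structureModule X, ?_, ?_⟩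
  · refine (isReflexive_iff_forall_isReflexiveAt _ (isCoh_structureModule X)).mpr (fun x => ?_)
    exact Module.equiv (unitStalkEquiv x).symm
  · exact genInvertible_of_stalk_equiv _ (isCoh_structureModule X) (unitStalkEquiv _)

theorem isRef1_dual (F : X.Modules) (hF : RefHull.IsRef1 F) (hX : Pi1.IsNormalScheme X) :
    RefHull.IsRef1 (RefHull.dual F) := by
  refine ⟨isCoh_dual F hF.1, isReflexive_dual F hF.1, ?_⟩
  have hη1 : ringKrullDim (X.presheaf.stalk (genericPoint X)) ≤ 1 := by
    rw [ringKrullDim_eq_zero_of_isField OrdGeneric.isField_stalk_genericPoint']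
    exact zero_le_one
  obtain ⟨e⟩ := Ref1Tensor.nonempty_stalk_equiv_of_isRef1 hX F hF (genericPoint X) hη1
  refine genInvertible_of_stalk_equiv _ (isCoh_dual F hF.1) ?_
  exact (dualStalkEquiv F hF.1 (genericPoint X)).trans
    ((LinearEquiv.arrowCongr e (LinearEquiv.refl _ _)).trans
      (LinearMap.ringLmapEquivSelf (X.presheaf.stalk (genericPoint X))
        (X.presheaf.stalk (genericPoint X)) (X.presheaf.stalk (genericPoint X))))

theorem isRef1_ddual_tensor (hX : Pi1.IsNormalScheme X) (F G : X.Modules)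
    (hF : RefHull.IsRef1 F) (hG : RefHull.IsRef1 G) :
    RefHull.IsRef1 (RefHull.ddual (CohB1.tensorMod F G)) := by
  have hM := Ref1Tensor.isCoh_tensorMod F G hF.1 hG.1
  refine ⟨isCoh_ddual _ hM, isReflexive_ddual _ hM, ?_⟩
  have hη1 : ringKrullDim (X.presheaf.stalk (genericPoint X)) ≤ 1 := by
    rw [ringKrullDim_eq_zero_of_isField OrdGeneric.isField_stalk_genericPoint']
    exact zero_le_one
  obtain ⟨WF, hηWF, τF, hτF⟩ := Ref1Tensor.exists_isBasisOn_of_isRef1 hX F hF _ hη1
  obtain ⟨WG, hηWG, τG, hτG⟩ := Ref1Tensor.exists_isBasisOn_of_isRef1 hX G hG _ hη1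
  have hτM := isBasisOn_tm (hτF.mono (inf_le_left : WF ⊓ WG ≤ WF))
    (hτG.mono (inf_le_right : WF ⊓ WG ≤ WG))
  obtain ⟨e⟩ := Ref1Tensor.nonempty_stalk_equiv_of_isBasisOn hτM (genericPoint X) ⟨hηWF, hηWG⟩
  have hb := Ref1Tensor.stalkMapₗ_bidualMap_bijective_of_equiv _ hM (genericPoint X) e
  exact genInvertible_of_stalk_equiv _ (isCoh_ddual _ hM)
    ((LinearEquiv.ofBijective _ hb).symm.trans e)

omit [IsIntegral X] [IsLocallyNoetherian X] in
theorem stalkSpecializes_oneGerm {x' x : X} (h : x' ⤳ x) :
    (Coh.structureModule X).presheaf.stalkSpecializes h (oneGerm x) = oneGerm x' :=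
  TopCat.Presheaf.germ_stalkSpecializes_apply _ _ _ _

omit [IsIntegral X] [IsLocallyNoetherian X] in
theorem unitStalkEquiv_symm_apply (x : X) (a : X.presheaf.stalk x) :
    (unitStalkEquiv x).symm a = a • oneGerm x := rfl

omit [IsIntegral X] [IsLocallyNoetherian X] in
theorem unitStalkEquiv_stalkSpecializes {x' x : X} (h : x' ⤳ x)
    (z : (Coh.structureModule X).presheaf.stalk x) :
    unitStalkEquiv x' ((Coh.structureModule X).presheaf.stalkSpecializes h z) =
      X.presheaf.stalkSpecializes h (unitStalkEquiv x z) := by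
  obtain ⟨a, rfl⟩ := (unitStalkEquiv x).symm.surjective z
  rw [LinearEquiv.apply_symm_apply, unitStalkEquiv_symm_apply, stalkSpecializes_smul,
    stalkSpecializes_oneGerm, ← unitStalkEquiv_symm_apply, LinearEquiv.apply_symm_apply]

omit [IsIntegral X] in
/-- The identification of the stalk of the dual with the dual of the stalk is compatible with
specialization. -/
theorem dualStalkEquiv_stalkSpecializes (F : X.Modules) (hF : Coh.IsCoh F) {x' x : X}
    (h : x' ⤳ x) (θ : (RefHull.dual F).presheaf.stalk x) (γ : F.presheaf.stalk x) :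
    dualStalkEquiv F hF x' ((RefHull.dual F).presheaf.stalkSpecializes h θ)
        (F.presheaf.stalkSpecializes h γ) =
      X.presheaf.stalkSpecializes h (dualStalkEquiv F hF x θ γ) := by
  obtain ⟨W, hxW, g, rfl⟩ := TopCat.Presheaf.exists_germ_eq (RefHull.dual F).presheaf θ
  rw [TopCat.Presheaf.germ_stalkSpecializes_apply, dualStalkEquiv_apply, dualStalkEquiv_apply,
    RefHull.evalStalk_germ, RefHull.evalStalk_germ, homSh_apply_stalkSpecializes g h hxW γ,
    unitStalkEquiv_stalkSpecializes]

/-- **Divisor of the dual.**  The dual of a rank one reflexive module has a rational section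
whose orders are the negatives of the orders of a given rational section. -/
theorem exists_section_dual (hX : Pi1.IsNormalScheme X) (P : X.Modules) (hP : RefHull.IsRef1 P)
    (σ : P.presheaf.stalk (genericPoint X)) (hσ : σ ≠ 0) :
    ∃ σ' : (RefHull.dual P).presheaf.stalk (genericPoint X), σ' ≠ 0 ∧
      ∀ x : X, Order.coheight x = 1 →
        Cyc.secOrdAt (RefHull.dual P) (genericPoint X) x (genericPoint_specializes x)
            (Submodule.Quotient.mk σ') =
          - Cyc.secOrdAt P (genericPoint X) x (genericPoint_specializes x)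
            (Submodule.Quotient.mk σ) := by
  classical
  letI : Field (X.presheaf.stalk (genericPoint X)) := inferInstanceAs (Field X.functionField)
  haveI : P.IsQuasicoherent := hP.1.1
  have hgen := Ref1Codim1.exists_smul_eq_of_ne_zero P hP.2.2 σ hσ
  -- the functional on the generic stalk with value `1` at `σ`
  have hinj : Function.Injective
      (LinearMap.toSpanSingleton (X.presheaf.stalk (genericPoint X)) _ σ) := by
    intro a b hab
    rw [LinearMap.toSpanSingleton_apply, LinearMap.toSpanSingleton_apply] at hab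
    have h1 : (a - b) • σ = 0 := by rw [sub_smul, hab, sub_self]
    rcases smul_eq_zero.mp h1 with h2 | h2
    · exact sub_eq_zero.mp h2
    · exact absurd h2 hσ
  let eP : X.presheaf.stalk (genericPoint X) ≃ₗ[X.presheaf.stalk (genericPoint X)]
      P.presheaf.stalk (genericPoint X) :=
    LinearEquiv.ofBijective (LinearMap.toSpanSingleton _ _ σ)
      ⟨hinj, fun a => by
        obtain ⟨c, hc⟩ := hgen a
        exact ⟨c, by rw [LinearMap.toSpanSingleton_apply, hc]⟩⟩
  have heP : eP.symm σ = 1 := by
    rw [LinearEquiv.symm_apply_eq]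
    change σ = LinearMap.toSpanSingleton _ _ σ 1
    rw [LinearMap.toSpanSingleton_apply, one_smul]
  let D := dualStalkEquiv P hP.1 (genericPoint X)
  let σ' : (RefHull.dual P).presheaf.stalk (genericPoint X) := D.symm eP.symm.toLinearMap
  have hσ'1 : D σ' σ = 1 := by
    change D (D.symm eP.symm.toLinearMap) σ = 1
    rw [LinearEquiv.apply_symm_apply]
    exact heP
  refine ⟨σ', ?_, ?_⟩
  · intro h0
    rw [h0, map_zero, LinearMap.zero_apply] at hσ'1
    exact zero_ne_one hσ'1
  intro x hcx
  obtain ⟨t, ht, hann, hne⟩ := Ref1Codim1.exists_generator_stalk_of_isRef1 hX P hP x hcx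
  obtain ⟨φ, hφ⟩ := Ref1Codim1.exists_smul_stalkSpecializes_eq P x t ht σ
  have hφ0 : φ ≠ 0 := by
    rintro rfl
    rw [zero_smul] at hφ
    exact hσ hφ
  -- the dual generator at `x`
  have hinjx : Function.Injective (LinearMap.toSpanSingleton (X.presheaf.stalk x) _ t) := by
    intro a b hab
    rw [LinearMap.toSpanSingleton_apply, LinearMap.toSpanSingleton_apply] at hab
    have h1 : (a - b) • t = 0 := by rw [sub_smul, hab, sub_self]
    exact sub_eq_zero.mp (hann _ h1)
  let ex : X.presheaf.stalk x ≃ₗ[X.presheaf.stalk x] P.presheaf.stalk x :=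
    LinearEquiv.ofBijective (LinearMap.toSpanSingleton _ _ t)
      ⟨hinjx, fun a => by
        obtain ⟨c, hc⟩ : ∃ c : X.presheaf.stalk x, c • t = a :=
          Submodule.mem_span_singleton.mp (by rw [ht]; exact Submodule.mem_top)
        exact ⟨c, by rw [LinearMap.toSpanSingleton_apply, hc]⟩⟩
  have hex : ex.symm t = 1 := by
    rw [LinearEquiv.symm_apply_eq]
    change t = LinearMap.toSpanSingleton _ _ t 1
    rw [LinearMap.toSpanSingleton_apply, one_smul]
  let Θ : (RefHull.dual P).presheaf.stalk x ≃ₗ[X.presheaf.stalk x] X.presheaf.stalk x :=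
    (dualStalkEquiv P hP.1 x).trans
      ((LinearEquiv.arrowCongr ex.symm (LinearEquiv.refl _ _)).trans
        (LinearMap.ringLmapEquivSelf (X.presheaf.stalk x) (X.presheaf.stalk x)
          (X.presheaf.stalk x)))
  have hΘ : ∀ θ, Θ θ = dualStalkEquiv P hP.1 x θ t := by
    intro θ
    change (LinearEquiv.arrowCongr ex.symm (LinearEquiv.refl _ _)
      (dualStalkEquiv P hP.1 x θ)) 1 = _
    rw [LinearEquiv.arrowCongr_apply, LinearEquiv.symm_symm, LinearEquiv.refl_apply]
    congr 1
    change LinearMap.toSpanSingleton _ _ t 1 = t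
    rw [LinearMap.toSpanSingleton_apply, one_smul]
  obtain ⟨θ, hθspan, hθann⟩ := Ref1Codim1.exists_generator_of_linearEquiv Θ
  -- normalise: `Θ θ` is a unit, so we may use `θ₁ = Θ⁻¹ 1`
  let θ₁ := Θ.symm 1
  have hθ₁t : dualStalkEquiv P hP.1 x θ₁ t = 1 := by
    rw [← hΘ]
    exact LinearEquiv.apply_symm_apply Θ 1
  have hθ₁span : Submodule.span (X.presheaf.stalk x) {θ₁} = ⊤ := by
    rw [eq_top_iff]
    intro m _
    refine Submodule.mem_span_singleton.mpr ⟨Θ m, ?_⟩
    change Θ m • Θ.symm 1 = m
    rw [← map_smul, smul_eq_mul, mul_one, LinearEquiv.symm_apply_apply]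
  have hθ₁ann : ∀ a : X.presheaf.stalk x, a • θ₁ = 0 → a = 0 := by
    intro a ha
    change a • Θ.symm 1 = 0 at ha
    rw [← map_smul, smul_eq_mul, mul_one] at ha
    simpa using ha
  have hspec1 : D ((RefHull.dual P).presheaf.stalkSpecializes (genericPoint_specializes x) θ₁)
      (P.presheaf.stalkSpecializes (genericPoint_specializes x) t) = 1 := by
    rw [dualStalkEquiv_stalkSpecializes, hθ₁t, map_one]
  have hθ₁ne : (RefHull.dual P).presheaf.stalkSpecializes (genericPoint_specializes x) θ₁ ≠ 0 := by
    intro h0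
    rw [h0, map_zero, LinearMap.zero_apply] at hspec1
    exact zero_ne_one hspec1
  -- `σ' = φ⁻¹ • spec θ₁`
  have hσ' : σ' = φ⁻¹ • (RefHull.dual P).presheaf.stalkSpecializes
      (genericPoint_specializes x) θ₁ := by
    have key : D (φ⁻¹ • (RefHull.dual P).presheaf.stalkSpecializes
        (genericPoint_specializes x) θ₁) σ = 1 := by
      rw [map_smul, LinearMap.smul_apply]
      conv_lhs => rw [hφ]
      rw [map_smul, hspec1, smul_eq_mul, smul_eq_mul, mul_one, inv_mul_cancel₀ hφ0]
    apply D.injective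
    apply LinearMap.ext
    intro a
    obtain ⟨c, rfl⟩ := hgen a
    rw [map_smul, map_smul, hσ'1, key]
  have h1 := OrdGeneric.secOrdAt_eq_ord x (genericPoint_specializes x) hcx P t ht hann hne φ
  have h2 := OrdGeneric.secOrdAt_eq_ord x (genericPoint_specializes x) hcx (RefHull.dual P) θ₁
    hθ₁span hθ₁ann hθ₁ne φ⁻¹
  rw [← hφ] at h1
  rw [← hσ'] at h2
  rw [h1, h2]
  have h3 : Scheme.ord (X := X) (φ * φ⁻¹) x =
      Scheme.ord (X := X) φ x + Scheme.ord (X := X) φ⁻¹ x :=
    Scheme.ord_mul hφ0 (inv_ne_zero hφ0)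
  have h4 : Scheme.ord (X := X) (φ * φ⁻¹) x = 0 := by
    rw [mul_inv_cancel₀ hφ0]
    have h5 : Scheme.ord (X := X) (1 * 1) x =
        Scheme.ord (X := X) 1 x + Scheme.ord (X := X) 1 x :=
      Scheme.ord_mul one_ne_zero one_ne_zero
    rw [one_mul] at h5
    omega
  omega

end Groth.Agent.Lib.Helper45.Ref1Dual
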