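import Mathlib
import Groth.Agent.Lib.Helper45.Ref1Dual
import Groth.Agent.S16086

/-!
# Divisors of rank one reflexive modules: bookkeeping for the class group

Shared library of helper45 (namespace `Groth.Agent.Lib.Helper45.Ref1Group`).

* `cl_eq_iff`: `PicF.cl F = PicF.cl G ↔ Nonempty (F ≅ G)`.
* `LinEq d d'`: linear equivalence of integer valued functions on the points of codimension one.
* `HasDiv P d`: `P` is rank one reflexive and has a nonzero rational section with orders `d`.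
* `iso_iff_linEq`, `HasDiv.tensor`, `HasDiv.dual`, `hasDiv_structureModule`.
-/

set_option autoImplicit false
set_option linter.style.haveILetI false
universe u
open CategoryTheory CategoryTheory.Limits AlgebraicGeometry TopologicalSpace

namespace Groth.Agent.Lib.Helper45.Ref1Group

open Groth.Agent.Lib.Helper45 Groth.Agent.Lib.Helper49 Groth.Agent.Lib.Helper11.GenLocus

theorem cl_eq_iff {Y : Scheme.{u}} (F G : Y.Modules) :
    PicF.cl F = PicF.cl G ↔ Nonempty (F ≅ G) := by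
  constructor
  · intro h
    have h' := Quot.eqvGen_exact h
    clear h
    induction h' with
    | rel a b hab => exact hab
    | refl a => exact ⟨Iso.refl a⟩
    | symm a b _ ih => exact ⟨ih.some.symm⟩
    | trans a b c _ _ ih1 ih2 => exact ⟨ih1.some ≪≫ ih2.some⟩
  · intro h
    exact Quot.sound h

variable {X : Scheme.{u}} [IsIntegral X] [IsLocallyNoetherian X]

theorem ord_one (x : X) : Scheme.ord (X := X) (1 : X.functionField) x = 0 := by
  have h5 : Scheme.ord (X := X) (1 * 1) x =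
      Scheme.ord (X := X) 1 x + Scheme.ord (X := X) 1 x :=
    Scheme.ord_mul one_ne_zero one_ne_zero
  rw [one_mul] at h5
  omega

theorem ord_inv (f : X.functionField) (hf : f ≠ 0) (x : X) :
    Scheme.ord (X := X) f⁻¹ x = - Scheme.ord (X := X) f x := by
  have h3 : Scheme.ord (X := X) (f * f⁻¹) x =
      Scheme.ord (X := X) f x + Scheme.ord (X := X) f⁻¹ x :=
    Scheme.ord_mul hf (inv_ne_zero hf)
  rw [mul_inv_cancel₀ hf, ord_one] at h3
  omega

/-- Linear equivalence of integer valued functions on the points of codimension one. -/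
def LinEq (d d' : X → ℤ) : Prop :=
  ∃ f : X.functionField, f ≠ 0 ∧ ∀ x : X, Order.coheight x = 1 → d x = d' x + Scheme.ord f x

theorem LinEq.of_eq {d d' : X → ℤ} (h : ∀ x : X, Order.coheight x = 1 → d x = d' x) :
    LinEq d d' :=
  ⟨1, one_ne_zero, fun x hx => by rw [ord_one, add_zero, h x hx]⟩

theorem LinEq.refl (d : X → ℤ) : LinEq d d := LinEq.of_eq fun _ _ => rfl

theorem LinEq.symm {d d' : X → ℤ} (h : LinEq d d') : LinEq d' d := by
  obtain ⟨f, hf, h⟩ := h
  exact ⟨f⁻¹, inv_ne_zero hf, fun x hx => by rw [ord_inv f hf, h x hx]; ring⟩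

theorem LinEq.trans {d d' d'' : X → ℤ} (h : LinEq d d') (h' : LinEq d' d'') : LinEq d d'' := by
  obtain ⟨f, hf, h⟩ := h
  obtain ⟨g, hg, h'⟩ := h'
  exact ⟨g * f, mul_ne_zero hg hf, fun x hx => by
    rw [Scheme.ord_mul hg hf, h x hx, h' x hx]; ring⟩

theorem LinEq.add {d₁ d₁' d₂ d₂' : X → ℤ} (h₁ : LinEq d₁ d₁') (h₂ : LinEq d₂ d₂') :
    LinEq (d₁ + d₂) (d₁' + d₂') := by
  obtain ⟨f, hf, h₁⟩ := h₁
  obtain ⟨g, hg, h₂⟩ := h₂
  exact ⟨f * g, mul_ne_zero hf hg, fun x hx => by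
    rw [Scheme.ord_mul hf hg, Pi.add_apply, Pi.add_apply, h₁ x hx, h₂ x hx]; ring⟩

theorem LinEq.neg {d d' : X → ℤ} (h : LinEq d d') : LinEq (-d) (-d') := by
  obtain ⟨f, hf, h⟩ := h
  exact ⟨f⁻¹, inv_ne_zero hf, fun x hx => by
    rw [ord_inv f hf, Pi.neg_apply, Pi.neg_apply, h x hx]; ring⟩

/-- `P` is rank one reflexive and has a nonzero rational section with orders `d`. -/
def HasDiv (P : X.Modules) (d : X → ℤ) : Prop :=
  RefHull.IsRef1 P ∧ ∃ σ : P.presheaf.stalk (genericPoint X), σ ≠ 0 ∧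
    ∀ x : X, Order.coheight x = 1 →
      Cyc.secOrdAt P (genericPoint X) x (genericPoint_specializes x)
        (Submodule.Quotient.mk σ) = d x

omit [IsLocallyNoetherian X] in
theorem exists_hasDiv (P : X.Modules) (hP : RefHull.IsRef1 P) : ∃ d : X → ℤ, HasDiv P d := by
  obtain ⟨g, hg0, -⟩ := Rank1Invertible.exists_generator_ne_zero_genericPoint P hP.2.2
  exact ⟨fun x => Cyc.secOrdAt P (genericPoint X) x (genericPoint_specializes x)
    (Submodule.Quotient.mk g), hP, g, hg0, fun _ _ => rfl⟩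

theorem iso_iff_linEq (hX : Pi1.IsNormalScheme X) {P Q : X.Modules} {d d' : X → ℤ}
    (hP : HasDiv P d) (hQ : HasDiv Q d') : Nonempty (P ≅ Q) ↔ LinEq d d' := by
  obtain ⟨hP1, σP, hσP, hdP⟩ := hP
  obtain ⟨hQ1, σQ, hσQ, hdQ⟩ := hQ
  have hsP : (Submodule.Quotient.mk σP : Cyc.secFibre P (genericPoint X)) ≠ 0 := fun h0 =>
    hσP ((OrdGeneric.secFibre_mk_eq_iff P σP 0).mp h0)
  have hsQ : (Submodule.Quotient.mk σQ : Cyc.secFibre Q (genericPoint X)) ≠ 0 := fun h0 =>
    hσQ ((OrdGeneric.secFibre_mk_eq_iff Q σQ 0).mp h0)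
  rw [Groth.Agent.S16086.result X hX P Q hP1 hQ1 _ hsP _ hsQ]
  constructor
  · rintro ⟨f, hf, h⟩
    exact ⟨f, hf, fun x hx => by rw [← hdP x hx, ← hdQ x hx]; exact h x hx⟩
  · rintro ⟨f, hf, h⟩
    exact ⟨f, hf, fun x hx => by
      have := h x hx
      rw [← hdP x hx, ← hdQ x hx] at this
      exact this⟩

theorem HasDiv.tensor (hX : Pi1.IsNormalScheme X) {P Q : X.Modules} {d d' : X → ℤ}
    (hP : HasDiv P d) (hQ : HasDiv Q d') :
    HasDiv (RefHull.ddual (CohB1.tensorMod P Q)) (d + d') := by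
  obtain ⟨hP1, σP, hσP, hdP⟩ := hP
  obtain ⟨hQ1, σQ, hσQ, hdQ⟩ := hQ
  obtain ⟨w₀, hw₀, hw⟩ := Ref1Tensor.exists_section_ddual_tensor hX P Q hP1 hQ1 σP σQ hσP hσQ
  exact ⟨Ref1Dual.isRef1_ddual_tensor hX P Q hP1 hQ1, w₀, hw₀, fun x hx => by
    rw [hw x hx, hdP x hx, hdQ x hx]; rfl⟩

theorem HasDiv.dual (hX : Pi1.IsNormalScheme X) {P : X.Modules} {d : X → ℤ}
    (hP : HasDiv P d) : HasDiv (RefHull.dual P) (-d) := by
  obtain ⟨hP1, σP, hσP, hdP⟩ := hP
  obtain ⟨σ', hσ', h⟩ := Ref1Dual.exists_section_dual hX P hP1 σP hσP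
  exact ⟨Ref1Dual.isRef1_dual P hP1 hX, σ', hσ', fun x hx => by
    rw [h x hx, hdP x hx]; rfl⟩

theorem hasDiv_structureModule : HasDiv (Coh.structureModule X) (0 : X → ℤ) := by
  refine ⟨Ref1Dual.isRef1_structureModule, RefHullStalk.oneGerm (genericPoint X), ?_, ?_⟩
  · intro h0
    have h1 : (1 : X.presheaf.stalk (genericPoint X)) = 0 :=
      InvOrd.germ_basis_ann (isBasisOn_one (X := X) ⊤) (genericPoint X) trivial 1
        (by rw [one_smul]; exact h0)
    exact one_ne_zero h1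
  · intro x hx
    have := InvOrd.secOrdAt_eq_ord_of_isBasisOn (isBasisOn_one (X := X) ⊤) x trivial hx
      (genericPoint_specializes x) 1 trivial
    rw [one_smul, ord_one] at this
    exact this

/-- Rank one reflexive modules with linearly equivalent divisors have the same class. -/
theorem cl_eq_of_linEq (hX : Pi1.IsNormalScheme X) {P Q : X.Modules} {d d' : X → ℤ}
    (hP : HasDiv P d) (hQ : HasDiv Q d') (h : LinEq d d') : PicF.cl P = PicF.cl Q :=
  (cl_eq_iff P Q).mpr ((iso_iff_linEq hX hP hQ).mpr h)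

/-- A rank one reflexive module in the class of a module with divisor `d` has a divisor linearly
equivalent to `d`. -/
theorem exists_hasDiv_of_cl_eq (hX : Pi1.IsNormalScheme X) {P Q : X.Modules} {d : X → ℤ}
    (hP : HasDiv P d) (hQ : RefHull.IsRef1 Q) (h : PicF.cl Q = PicF.cl P) :
    ∃ d' : X → ℤ, HasDiv Q d' ∧ LinEq d' d := by
  obtain ⟨d', hd'⟩ := exists_hasDiv Q hQ
  exact ⟨d', hd', (iso_iff_linEq hX hd' hP).mp ((cl_eq_iff Q P).mp h)⟩

end Groth.Agent.Lib.Helper45.Ref1Group
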