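import Mathlib
import Groth.Agent.Lib.Helper45.Ref1Group
import Groth.Agent.Lib.Helper11.GlobalGen

/-!
# Invertible modules are rank one reflexive

Shared library of helper45 (namespace `Groth.Agent.Lib.Helper45.InvRef1`).

* `isRef1_of_isInvertible`: an invertible module on an integral locally Noetherian scheme is rank
  one reflexive.
* `isInvertible_of_stalk_equiv`: a coherent module all of whose stalks are free of rank one is
  invertible.
-/

set_option autoImplicit false
set_option linter.style.haveILetI false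
universe u
open CategoryTheory CategoryTheory.Limits AlgebraicGeometry TopologicalSpace

namespace Groth.Agent.Lib.Helper45.InvRef1

open Groth.Agent.Lib.Helper45 Groth.Agent.Lib.Helper49 Groth.Agent.Lib.Helper45.RefHullStalk

variable {X : Scheme.{u}}

theorem isCoh_of_isInvertible (L : X.Modules) (hL : PicF.IsInvertible L) : Coh.IsCoh L :=
  ⟨isQuasicoherent_of_isInvertible hL,
    Groth.Agent.Lib.Helper11.GenLocus.isFiniteType_of_isInvertible hL⟩

/-- A quasi-coherent module with local bases at all points is invertible. -/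
theorem isInvertible_of_forall_isBasisOn (F : X.Modules) [F.IsQuasicoherent]
    (h : ∀ x : X, ∃ (W : X.Opens) (_ : x ∈ W) (τ : Γ(F, W)), IsBasisOn F W τ) :
    PicF.IsInvertible F := by
  intro x
  obtain ⟨W, hxW, τ, hτ⟩ := h x
  obtain ⟨_, ⟨W', hW' : IsAffineOpen W', rfl⟩, hxW', hW'W⟩ :=
    X.isBasis_affineOpens.exists_subset_of_mem_open hxW W.isOpen
  have hle : W' ≤ W := hW'W
  obtain ⟨φ⟩ := (hτ.mono hle).nonempty_iso hW'
  exact ⟨W', hxW', ⟨φ⟩⟩

variable [IsIntegral X] [IsLocallyNoetherian X]

theorem isRef1_of_isInvertible (L : X.Modules) (hL : PicF.IsInvertible L) :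
    RefHull.IsRef1 L := by
  have hcoh := isCoh_of_isInvertible L hL
  refine ⟨hcoh, ?_, ?_⟩
  · refine (isReflexive_iff_forall_isReflexiveAt L hcoh).mpr fun x => ?_
    obtain ⟨W, hxW, τ, hτ⟩ := exists_isBasisOn_of_isInvertible hL x
    obtain ⟨e⟩ := Ref1Tensor.nonempty_stalk_equiv_of_isBasisOn hτ x hxW
    exact Module.equiv e.symm
  · obtain ⟨W, hxW, τ, hτ⟩ := exists_isBasisOn_of_isInvertible hL (genericPoint X)
    obtain ⟨e⟩ := Ref1Tensor.nonempty_stalk_equiv_of_isBasisOn hτ _ hxW
    exact Ref1Dual.genInvertible_of_stalk_equiv L hcoh e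

omit [IsIntegral X] in
/-- A coherent module all of whose stalks are free of rank one is invertible. -/
theorem isInvertible_of_stalk_equiv (F : X.Modules) (hF : Coh.IsCoh F)
    (h : ∀ x : X, Nonempty (F.presheaf.stalk x ≃ₗ[X.presheaf.stalk x] X.presheaf.stalk x)) :
    PicF.IsInvertible F := by
  haveI : F.IsQuasicoherent := hF.1
  refine isInvertible_of_forall_isBasisOn F fun x => ?_
  obtain ⟨e⟩ := h x
  exact Ref1Tensor.exists_isBasisOn_of_stalk_equiv F hF x e

end Groth.Agent.Lib.Helper45.InvRef1
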