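import Mathlib
import Groth.Agent.Lib.Helper45.IdealModSections

/-!
# The ideal sheaf of an effective Weil divisor

Shared library of helper45 (namespace `Groth.Agent.Lib.Helper45.DivIdeal`).

For a function `E : X → ℕ` with locally finite support, `divIdeal E hE` is the quasi-coherent
ideal sheaf whose sections over an affine open `U` are the functions `a` with
`a_x ∈ 𝔪_x ^ E x` for all `x ∈ U`.
-/

set_option autoImplicit false
set_option linter.style.haveILetI false
universe u
open CategoryTheory CategoryTheory.Limits AlgebraicGeometry TopologicalSpace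

namespace Groth.Agent.Lib.Helper45.DivIdeal

variable {X : Scheme.{u}}

/-- The functions on `U` whose germ at each `x ∈ U` lies in `𝔪_x ^ E x`. -/
noncomputable def ptIdeal (E : X → ℕ) (U : X.Opens) : Ideal Γ(X, U) :=
  ⨅ x : U, Ideal.comap (X.presheaf.germ U x.1 x.2).hom
    ((IsLocalRing.maximalIdeal (X.presheaf.stalk x.1)) ^ E x.1)

theorem mem_ptIdeal (E : X → ℕ) (U : X.Opens) (a : Γ(X, U)) :
    a ∈ ptIdeal E U ↔ ∀ (x : X) (hx : x ∈ U),
      X.presheaf.germ U x hx a ∈ (IsLocalRing.maximalIdeal (X.presheaf.stalk x)) ^ E x := by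
  simp only [ptIdeal, Ideal.mem_iInf, Ideal.mem_comap, Subtype.forall]

theorem map_ptIdeal_basicOpen (E : X → ℕ) (hE : LocallyFiniteSupport E) (U : X.affineOpens)
    (f : Γ(X, U)) :
    (ptIdeal E U.1).map (X.presheaf.map (homOfLE <| X.basicOpen_le f).op).hom =
      ptIdeal E (X.basicOpen f) := by
  classical
  have halg : (X.presheaf.map (homOfLE (X.basicOpen_le f)).op).hom = algebraMap _ _ := rfl
  have inst := U.2.isLocalization_basicOpen f
  rw [halg]
  have hfin : ((U.1 : Set X) ∩ Function.support E).Finite :=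
    hE.finite_inter_support_of_isCompact U.2.isCompact
  obtain ⟨m, hm⟩ : ∃ m : ℕ, ∀ x ∈ U.1, E x ≤ m := by
    refine ⟨hfin.toFinset.sup E, fun x hx => ?_⟩
    by_cases h0 : E x = 0
    · rw [h0]; exact Nat.zero_le _
    · exact Finset.le_sup (f := E) (hfin.mem_toFinset.mpr ⟨hx, h0⟩)
  have hgerm : ∀ (x : X) (hx : x ∈ X.basicOpen f) (a : Γ(X, U.1)),
      X.presheaf.germ (X.basicOpen f) x hx (algebraMap Γ(X, U.1) Γ(X, X.basicOpen f) a) =
        X.presheaf.germ U.1 x (X.basicOpen_le f hx) a := fun x hx a =>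
    TopCat.Presheaf.germ_res_apply X.presheaf (homOfLE (X.basicOpen_le f)) x hx a
  ext b
  obtain ⟨a, s, rfl⟩ := IsLocalization.exists_mk'_eq (.powers f) b
  rw [IsLocalization.mk'_mem_map_algebraMap_iff, mem_ptIdeal]
  have hspec : ∀ (x : X) (hx : x ∈ X.basicOpen f),
      X.presheaf.germ (X.basicOpen f) x hx (IsLocalization.mk' Γ(X, X.basicOpen f) a s) *
        X.presheaf.germ U.1 x (X.basicOpen_le f hx) (s : Γ(X, U.1)) =
        X.presheaf.germ U.1 x (X.basicOpen_le f hx) a := by
    intro x hx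
    have h3 := IsLocalization.mk'_spec Γ(X, X.basicOpen f) a s
    have h4 := congrArg (X.presheaf.germ (X.basicOpen f) x hx) h3
    rw [map_mul, hgerm, hgerm] at h4
    exact h4
  have hunit : ∀ (x : X) (hx : x ∈ X.basicOpen f),
      IsUnit (X.presheaf.germ U.1 x (X.basicOpen_le f hx) f) := fun x hx =>
    (X.mem_basicOpen f x (X.basicOpen_le f hx)).mp hx
  constructor
  · rintro ⟨_, ⟨n, rfl⟩, hn⟩ x hx
    rw [mem_ptIdeal] at hn
    have h1 := hn x (X.basicOpen_le f hx)
    rw [map_mul, map_pow] at h1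
    have h2 := (Ideal.unit_mul_mem_iff_mem _ ((hunit x hx).pow n)).mp h1
    obtain ⟨k, hk⟩ := s.2
    have hus : IsUnit (X.presheaf.germ U.1 x (X.basicOpen_le f hx) (s : Γ(X, U.1))) := by
      rw [← hk, map_pow]
      exact (hunit x hx).pow k
    rw [← hspec x hx] at h2
    exact (Ideal.mul_unit_mem_iff_mem _ hus).mp h2
  · intro h
    refine ⟨f ^ m, ⟨m, rfl⟩, ?_⟩
    rw [mem_ptIdeal]
    intro x hx
    rw [map_mul, map_pow]
    by_cases hxf : x ∈ X.basicOpen f
    · apply Ideal.mul_mem_left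
      rw [← hspec x hxf]
      exact Ideal.mul_mem_right _ _ (h x hxf)
    · apply Ideal.mul_mem_right
      have hnu : X.presheaf.germ U.1 x hx f ∈
          IsLocalRing.maximalIdeal (X.presheaf.stalk x) := by
        rw [IsLocalRing.mem_maximalIdeal, mem_nonunits_iff]
        intro hu
        exact hxf ((X.mem_basicOpen f x hx).mpr hu)
      exact Ideal.pow_le_pow_right (hm x hx) (Ideal.pow_mem_pow hnu m)

/-- The ideal sheaf of the effective divisor `E`. -/
noncomputable def divIdeal (E : X → ℕ) (hE : LocallyFiniteSupport E) : X.IdealSheafData where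
  ideal U := ptIdeal E U.1
  map_ideal_basicOpen U f := map_ptIdeal_basicOpen E hE U f

theorem mem_divIdeal (E : X → ℕ) (hE : LocallyFiniteSupport E) (U : X.affineOpens)
    (a : Γ(X, U.1)) :
    a ∈ (divIdeal E hE).ideal U ↔ ∀ (x : X) (hx : x ∈ U.1),
      X.presheaf.germ U.1 x hx a ∈ (IsLocalRing.maximalIdeal (X.presheaf.stalk x)) ^ E x :=
  mem_ptIdeal E U.1 a

end Groth.Agent.Lib.Helper45.DivIdeal
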