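import Mathlib
import Groth.Agent.Lib.Helper45.DivIdeal
import Groth.Agent.Lib.Helper45.Ref1Group
import Groth.Agent.Lib.Helper11.IdealGen

/-!
# The ideal module of an effective Weil divisor and its divisor

Shared library of helper45 (namespace `Groth.Agent.Lib.Helper45.DivIdealMod`).

* `stalkMapₗ_injective_of_app_injective`: a morphism injective on sections is injective on stalks.
* `mem_pow_of_stalkMapₗ_eq`, `exists_stalk_of_mem_pow`: the stalk of the ideal module of `divIdeal E`
  at a point `x` of codimension at most one is `𝔪_x ^ E x`.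
* `hasDiv_ddual_idealMod`: on a normal integral locally Noetherian scheme the reflexive hull of the
  ideal module of `divIdeal E` is rank one reflexive with divisor `-E`.
* `exists_hasDiv`: every Weil divisor is the divisor of a rational section of a rank one
  reflexive module.
-/

set_option autoImplicit false
set_option linter.style.haveILetI false
universe u
open CategoryTheory CategoryTheory.Limits AlgebraicGeometry TopologicalSpace

namespace Groth.Agent.Lib.Helper45.DivIdealMod

open Groth.Agent.Lib.Helper45 Groth.Agent.Lib.Helper49 Groth.Agent.Lib.Helper45.RefHullStalk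
  Groth.Agent.Lib.Helper45.DivIdeal Groth.Agent.Lib.Helper45.HomExtend

section Algebra

theorem ordFrac_pow_irreducible {A K : Type*} [CommRing A] [IsDomain A]
    [IsDiscreteValuationRing A] [Field K] [Algebra A K] [IsFractionRing A K] {ϖ : A}
    (hϖ : Irreducible ϖ) (n : ℕ) :
    Ring.ordFrac A (algebraMap A K (ϖ ^ n)) = WithZero.exp (n : ℤ) := by
  rw [map_pow, map_pow, Ring.ordFrac_irreducible hϖ, ← WithZero.exp_nsmul]
  simp

theorem nonempty_linearEquiv_of_generator {A M : Type*} [CommRing A] [AddCommGroup M]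
    [Module A M] (t : M) (ht : Submodule.span A {t} = ⊤) (hann : ∀ a : A, a • t = 0 → a = 0) :
    Nonempty (M ≃ₗ[A] A) := by
  have hinj : Function.Injective (LinearMap.toSpanSingleton A M t) := by
    intro a b hab
    rw [LinearMap.toSpanSingleton_apply, LinearMap.toSpanSingleton_apply] at hab
    have h1 : (a - b) • t = 0 := by rw [sub_smul, hab, sub_self]
    exact sub_eq_zero.mp (hann _ h1)
  have hsurj : Function.Surjective (LinearMap.toSpanSingleton A M t) := by
    intro μ
    obtain ⟨c, hc⟩ := Submodule.mem_span_singleton.mp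
      (show μ ∈ Submodule.span A {t} by rw [ht]; exact Submodule.mem_top)
    exact ⟨c, by rw [LinearMap.toSpanSingleton_apply, hc]⟩
  exact ⟨(LinearEquiv.ofBijective _ ⟨hinj, hsurj⟩).symm⟩

end Algebra

section General

variable {X : Scheme.{u}}

theorem stalkMapₗ_injective_of_app_injective {F G : X.Modules} (φ : F ⟶ G)
    (h : ∀ U : X.Opens, Function.Injective (φ.app U)) (x : X) :
    Function.Injective (RefHull.stalkMapₗ φ x) := by
  rw [injective_iff_map_eq_zero]
  intro t ht
  obtain ⟨V, hxV, s, rfl⟩ := TopCat.Presheaf.exists_germ_eq F.presheaf t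
  rw [RefHull.stalkMapₗ_germ] at ht
  obtain ⟨W, hxW, i, _, e⟩ := TopCat.Presheaf.germ_eq G.presheaf x hxV hxV (φ.app V s) 0
    (by rw [ht, map_zero])
  rw [map_zero] at e
  have hnat : φ.app W (F.presheaf.map i.op s) = G.presheaf.map i.op (φ.app V s) :=
    congrArg (fun g => g.hom s) (φ.mapPresheaf.naturality i.op)
  have h0 : F.presheaf.map i.op s = 0 := h W ((hnat.trans e).trans (map_zero _).symm)
  rw [← TopCat.Presheaf.germ_res_apply F.presheaf i x hxW s, h0, map_zero]

theorem smul_oneGerm_injective (x : X) (a b : X.presheaf.stalk x)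
    (h : a • oneGerm x = b • oneGerm x) : a = b :=
  (unitStalkMap_bijective x).1 (by
    rw [unitStalkMap, LinearMap.toSpanSingleton_apply, LinearMap.toSpanSingleton_apply]
    exact h)

theorem exists_eq_smul_oneGerm (x : X) (z : (Coh.structureModule X).presheaf.stalk x) :
    ∃ a : X.presheaf.stalk x, z = a • oneGerm x := by
  obtain ⟨a, ha⟩ := (unitStalkMap_bijective x).2 z
  exact ⟨a, by rw [← ha, unitStalkMap, LinearMap.toSpanSingleton_apply]⟩

end General

section Div

variable {X : Scheme.{u}} (E : X → ℕ) (hE : LocallyFiniteSupport E)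

theorem stalkMapₗ_idealModι_injective (x : X) :
    Function.Injective (RefHull.stalkMapₗ (ClSub.idealModι (divIdeal E hE)) x) :=
  stalkMapₗ_injective_of_app_injective _ (fun U => idealModι_app_injective _ U) x

/-- Germs of sections of the ideal module lie in `𝔪_x ^ E x`. -/
theorem mem_pow_of_stalkMapₗ_eq (x : X)
    (t : (ClSub.idealMod (divIdeal E hE)).presheaf.stalk x) (v : X.presheaf.stalk x)
    (h : RefHull.stalkMapₗ (ClSub.idealModι (divIdeal E hE)) x t = v • oneGerm x) :
    v ∈ IsLocalRing.maximalIdeal (X.presheaf.stalk x) ^ E x := by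
  obtain ⟨V, hxV, s, rfl⟩ := TopCat.Presheaf.exists_germ_eq _ t
  obtain ⟨_, ⟨V', hV' : IsAffineOpen V', rfl⟩, hxV', hV'V⟩ :=
    X.isBasis_affineOpens.exists_subset_of_mem_open hxV V.isOpen
  have hle : V' ≤ V := hV'V
  have hgerm : (ClSub.idealMod (divIdeal E hE)).presheaf.germ V' x hxV'
      ((ClSub.idealMod (divIdeal E hE)).presheaf.map (homOfLE hle).op s) =
      (ClSub.idealMod (divIdeal E hE)).presheaf.germ V x hxV s :=
    TopCat.Presheaf.germ_res_apply _ (homOfLE hle) x hxV' s
  rw [← hgerm, RefHull.stalkMapₗ_germ] at h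
  have hmem := idealModι_app_mem (divIdeal E hE) ⟨V', hV'⟩
    ((ClSub.idealMod (divIdeal E hE)).presheaf.map (homOfLE hle).op s)
  generalize (ClSub.idealMod (divIdeal E hE)).presheaf.map (homOfLE hle).op s = s' at h hmem
  have h2 : X.presheaf.germ V' x hxV'
      (show Γ(X, V') from (ClSub.idealModι (divIdeal E hE)).app V' s') = v := by
    apply smul_oneGerm_injective
    rw [germ_smul_oneGerm]
    exact h
  rw [← h2]
  exact (mem_divIdeal E hE ⟨V', hV'⟩ _).mp hmem x hxV'

/-- Elements of `𝔪_x ^ E x` are germs of sections of the ideal module, at points of codimension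
at most one. -/
theorem exists_stalk_of_mem_pow (hE0 : ∀ y : X, E y ≠ 0 → Order.coheight y = 1) (x : X)
    (hx : Order.coheight x ≤ 1) (v : X.presheaf.stalk x)
    (hv : v ∈ IsLocalRing.maximalIdeal (X.presheaf.stalk x) ^ E x) :
    ∃ t : (ClSub.idealMod (divIdeal E hE)).presheaf.stalk x,
      RefHull.stalkMapₗ (ClSub.idealModι (divIdeal E hE)) x t = v • oneGerm x := by
  classical
  obtain ⟨V, hxV, a, rfl⟩ := TopCat.Presheaf.exists_germ_eq X.presheaf v
  obtain ⟨_, ⟨V₁, hV₁ : IsAffineOpen V₁, rfl⟩, hxV₁, hV₁V⟩ :=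
    X.isBasis_affineOpens.exists_subset_of_mem_open hxV V.isOpen
  have hfin : ((V₁ : Set X) ∩ Function.support E).Finite :=
    hE.finite_inter_support_of_isCompact hV₁.isCompact
  set T : Set X := ((V₁ : Set X) ∩ Function.support E) \ {x} with hT
  have hTfin : T.Finite := hfin.subset Set.sdiff_subset
  set C : Set X := ⋃ y ∈ T, closure {y} with hC
  have hCclosed : IsClosed C := hTfin.isClosed_biUnion fun y _ => isClosed_closure
  have hxC : x ∉ C := by
    intro hxC
    obtain ⟨y, hyT, hxy⟩ := Set.mem_iUnion₂.mp hxC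
    have hspec : y ⤳ x := specializes_iff_mem_closure.mpr hxy
    have hle : x ≤ y := Scheme.le_iff_specializes.mpr hspec
    have hne : x ≠ y := fun h => hyT.2 (h ▸ rfl)
    have hlt : x < y := by
      refine lt_of_le_not_ge hle fun hge => hne ?_
      exact ((Scheme.le_iff_specializes.mp hge).antisymm hspec).eq
    have h1 := Order.coheight_add_one_le hlt
    rw [hE0 y hyT.1.2] at h1
    have h2 := h1.trans hx
    exact absurd h2 (by decide)
  obtain ⟨_, ⟨W, hW : IsAffineOpen W, rfl⟩, hxW, hWsub⟩ :=
    X.isBasis_affineOpens.exists_subset_of_mem_open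
      (show x ∈ (V₁ : Set X) ∩ Cᶜ from ⟨hxV₁, hxC⟩)
      (V₁.isOpen.inter hCclosed.isOpen_compl)
  have hWV : W ≤ V := fun y hy => hV₁V (hWsub hy).1
  have hgerm : ∀ (y : X) (hy : y ∈ W),
      X.presheaf.germ W y hy (X.presheaf.map (homOfLE hWV).op a) =
        X.presheaf.germ V y (hWV hy) a := fun y hy =>
    TopCat.Presheaf.germ_res_apply X.presheaf (homOfLE hWV) y hy a
  have hmem : X.presheaf.map (homOfLE hWV).op a ∈ (divIdeal E hE).ideal ⟨W, hW⟩ := by
    rw [mem_divIdeal]
    intro y hy
    by_cases hEy : E y = 0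
    · rw [hEy, pow_zero, Ideal.one_eq_top]
      exact Submodule.mem_top
    · by_cases hyx : y = x
      · subst hyx
        rw [hgerm]
        exact hv
      · exfalso
        have hyT : y ∈ T := ⟨⟨(hWsub hy).1, hEy⟩, hyx⟩
        exact (hWsub hy).2 (Set.mem_iUnion₂.mpr ⟨y, hyT, subset_closure rfl⟩)
  obtain ⟨s, hs⟩ := (mem_ideal_iff_exists_section (divIdeal E hE) ⟨W, hW⟩ _).mp hmem
  refine ⟨(ClSub.idealMod (divIdeal E hE)).presheaf.germ W x hxW s, ?_⟩
  rw [RefHull.stalkMapₗ_germ, ← hgerm x hxW, germ_smul_oneGerm]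
  exact congrArg _ hs

end Div

section Normal

variable {X : Scheme.{u}} [IsIntegral X] [IsLocallyNoetherian X]

theorem exists_generator_pow (hX : Pi1.IsNormalScheme X) (x : X) (hx : Order.coheight x = 1)
    (n : ℕ) :
    ∃ g : X.presheaf.stalk x, g ≠ 0 ∧
      IsLocalRing.maximalIdeal (X.presheaf.stalk x) ^ n = Ideal.span {g} ∧
      Scheme.ord (algebraMap (X.presheaf.stalk x) X.functionField g) x = n := by
  haveI : IsIntegrallyClosed (X.presheaf.stalk x) := (hX x).2
  haveI : IsDiscreteValuationRing (X.presheaf.stalk x) :=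
    OrdGeneric.isDiscreteValuationRing_of_ringKrullDim_eq_one _
      ((OrdGeneric.coheight_eq_one_iff x).mp hx)
  obtain ⟨ϖ, hϖ⟩ := IsDiscreteValuationRing.exists_irreducible (X.presheaf.stalk x)
  refine ⟨ϖ ^ n, pow_ne_zero n hϖ.ne_zero, ?_, ?_⟩
  · rw [hϖ.maximalIdeal_eq, Ideal.span_singleton_pow]
  · have hne : algebraMap (X.presheaf.stalk x) X.functionField (ϖ ^ n) ≠ 0 := by
      rw [Ne, map_eq_zero_iff _ (IsFractionRing.injective _ _)]
      exact pow_ne_zero n hϖ.ne_zero
    rw [Scheme.ord_eq_iff hx hne]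
    haveI : Ring.KrullDimLE 1 (X.presheaf.stalk x) := krullDimLE_of_coheight_le hx.le
    change Ring.ordFrac (X.presheaf.stalk x) _ = _
    rw [ordFrac_pow_irreducible hϖ n, WithZero.exp_eq_coe_ofAdd]

variable (E : X → ℕ) (hE : LocallyFiniteSupport E)

theorem exists_generator (hX : Pi1.IsNormalScheme X)
    (hE0 : ∀ y : X, E y ≠ 0 → Order.coheight y = 1) (x : X) :
    ∃ g : X.presheaf.stalk x, g ≠ 0 ∧
      IsLocalRing.maximalIdeal (X.presheaf.stalk x) ^ E x = Ideal.span {g} ∧
      (Order.coheight x = 1 →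
        Scheme.ord (algebraMap (X.presheaf.stalk x) X.functionField g) x = E x) := by
  by_cases h1 : Order.coheight x = 1
  · obtain ⟨g, hg0, hg, hord⟩ := exists_generator_pow hX x h1 (E x)
    exact ⟨g, hg0, hg, fun _ => hord⟩
  · have h0 : E x = 0 := by
      by_contra h
      exact h1 (hE0 x h)
    exact ⟨1, one_ne_zero, by rw [h0, pow_zero, Ideal.one_eq_top, Ideal.span_singleton_one],
      fun h => absurd h h1⟩

/-- The stalk of the ideal module at a point of codimension at most one is free of rank one, on a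
generator mapping to a generator `g` of `𝔪_x ^ E x`. -/
theorem exists_stalk_generator (hX : Pi1.IsNormalScheme X)
    (hE0 : ∀ y : X, E y ≠ 0 → Order.coheight y = 1) (x : X) (hx : Order.coheight x ≤ 1) :
    ∃ (g : X.presheaf.stalk x) (t : (ClSub.idealMod (divIdeal E hE)).presheaf.stalk x),
      g ≠ 0 ∧ RefHull.stalkMapₗ (ClSub.idealModι (divIdeal E hE)) x t = g • oneGerm x ∧
      Submodule.span (X.presheaf.stalk x) {t} = ⊤ ∧
      (∀ a : X.presheaf.stalk x, a • t = 0 → a = 0) ∧
      (Order.coheight x = 1 →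
        Scheme.ord (algebraMap (X.presheaf.stalk x) X.functionField g) x = E x) := by
  obtain ⟨g, hg0, hg, hord⟩ := exists_generator E hX hE0 x
  obtain ⟨t, ht⟩ := exists_stalk_of_mem_pow E hE hE0 x hx g
    (by rw [hg]; exact Ideal.mem_span_singleton_self g)
  refine ⟨g, t, hg0, ht, ?_, ?_, hord⟩
  · rw [eq_top_iff]
    intro t' _
    obtain ⟨v, hv⟩ := exists_eq_smul_oneGerm x
      (RefHull.stalkMapₗ (ClSub.idealModι (divIdeal E hE)) x t')
    have hvmem := mem_pow_of_stalkMapₗ_eq E hE x t' v hv
    rw [hg] at hvmem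
    obtain ⟨c, hc⟩ := Ideal.mem_span_singleton'.mp hvmem
    refine Submodule.mem_span_singleton.mpr ⟨c, ?_⟩
    apply stalkMapₗ_idealModι_injective E hE x
    rw [map_smul, ht, hv, smul_smul, hc]
  · intro a ha
    have h1 : (a * g) • oneGerm x = (0 : X.presheaf.stalk x) • oneGerm x := by
      rw [zero_smul, mul_smul, ← ht, ← map_smul, ha, map_zero]
    have h2 := smul_oneGerm_injective x _ _ h1
    rcases mul_eq_zero.mp h2 with h3 | h3
    · exact h3
    · exact absurd h3 hg0

omit [IsLocallyNoetherian X] in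
theorem coheight_genericPoint : Order.coheight (genericPoint X) = 0 := by
  rw [Order.coheight_eq_zero]
  intro b _
  exact Scheme.le_iff_specializes.mpr (genericPoint_specializes b)

omit [IsIntegral X] in
theorem isCoh_idealMod : Coh.IsCoh (ClSub.idealMod (divIdeal E hE)) := by
  refine ⟨inferInstance, Groth.Agent.Lib.Helper11.IdealGen.isFiniteType_idealMod _ fun U => ?_⟩
  haveI : IsNoetherianRing Γ(X, U.1) := IsLocallyNoetherian.component_noetherian U
  exact (isNoetherianRing_iff_ideal_fg _).mp inferInstance _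

/-- **The divisor of the reflexive hull of the ideal of an effective Weil divisor `E` is `-E`.** -/
theorem hasDiv_ddual_idealMod (hX : Pi1.IsNormalScheme X)
    (hE0 : ∀ y : X, E y ≠ 0 → Order.coheight y = 1) :
    Ref1Group.HasDiv (RefHull.ddual (ClSub.idealMod (divIdeal E hE)))
      (fun x => -(E x : ℤ)) := by
  classical
  letI : Field (X.presheaf.stalk (genericPoint X)) := inferInstanceAs (Field X.functionField)
  have hJ := isCoh_idealMod E hE
  have hη1 : Order.coheight (genericPoint X) ≤ 1 := by
    rw [coheight_genericPoint]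
    exact zero_le
  -- stalk equivalences at the points of codimension at most one
  have hequiv : ∀ x : X, Order.coheight x ≤ 1 →
      Nonempty ((ClSub.idealMod (divIdeal E hE)).presheaf.stalk x ≃ₗ[X.presheaf.stalk x]
        X.presheaf.stalk x) := by
    intro x hx
    obtain ⟨g, t, -, -, hspan, hann, -⟩ := exists_stalk_generator E hE hX hE0 x hx
    exact nonempty_linearEquiv_of_generator t hspan hann
  have hbij : ∀ x : X, Order.coheight x ≤ 1 → Function.Bijective
      (RefHull.stalkMapₗ (RefHull.bidualMap (ClSub.idealMod (divIdeal E hE))) x) := by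
    intro x hx
    obtain ⟨e⟩ := hequiv x hx
    exact Ref1Tensor.stalkMapₗ_bidualMap_bijective_of_equiv _ hJ x e
  -- rank one reflexive
  have hRef1 : RefHull.IsRef1 (RefHull.ddual (ClSub.idealMod (divIdeal E hE))) := by
    obtain ⟨e⟩ := hequiv (genericPoint X) hη1
    exact ⟨isCoh_ddual _ hJ, Ref1Dual.isReflexive_ddual _ hJ,
      Ref1Dual.genInvertible_of_stalk_equiv _ (isCoh_ddual _ hJ)
        ((LinearEquiv.ofBijective _ (hbij (genericPoint X) hη1)).symm.trans e)⟩
  -- the rational section `1`
  have hEη : E (genericPoint X) = 0 := by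
    by_contra h
    have := hE0 _ h
    rw [coheight_genericPoint] at this
    exact zero_ne_one this
  obtain ⟨σ, hσ⟩ := exists_stalk_of_mem_pow E hE hE0 (genericPoint X) hη1 1
    (by rw [hEη, pow_zero, Ideal.one_eq_top]; exact Submodule.mem_top)
  have hone_ne : oneGerm (genericPoint X) ≠ 0 := by
    intro h0
    have h1 : (1 : X.presheaf.stalk (genericPoint X)) = 0 :=
      smul_oneGerm_injective _ _ _ (by rw [one_smul, zero_smul, h0])
    exact one_ne_zero h1
  have hιinj := stalkMapₗ_idealModι_injective E hE (genericPoint X)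
  have hσ0 : σ ≠ 0 := by
    rintro rfl
    rw [map_zero, one_smul] at hσ
    exact hone_ne hσ.symm
  refine ⟨hRef1, RefHull.stalkMapₗ (RefHull.bidualMap _) (genericPoint X) σ, ?_, ?_⟩
  · intro h0
    exact hσ0 ((hbij _ hη1).1 (h0.trans (map_zero _).symm))
  · intro x hx
    have hsp := genericPoint_specializes x
    obtain ⟨g, t, hg0, ht, hspan, hann, hord⟩ := exists_stalk_generator E hE hX hE0 x hx.le
    have hgK : algebraMap (X.presheaf.stalk x) X.functionField g ≠ 0 := by
      rw [Ne, map_eq_zero_iff _ (IsFractionRing.injective _ _)]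
      exact hg0
    -- the image of the specialization of `t`
    have hιspec : RefHull.stalkMapₗ (ClSub.idealModι (divIdeal E hE)) (genericPoint X)
        ((ClSub.idealMod (divIdeal E hE)).presheaf.stalkSpecializes hsp t) =
        algebraMap (X.presheaf.stalk x) X.functionField g • oneGerm (genericPoint X) := by
      rw [stalkMapₗ_stalkSpecializes, ht, stalkSpecializes_smul,
        Ref1Dual.stalkSpecializes_oneGerm]
      rfl
    have hσeq : σ = (algebraMap (X.presheaf.stalk x) X.functionField g)⁻¹ •
        (ClSub.idealMod (divIdeal E hE)).presheaf.stalkSpecializes hsp t := by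
      apply hιinj
      rw [map_smul, hιspec, hσ, smul_smul, inv_mul_cancel₀ hgK]
    have hspec_ne : (ClSub.idealMod (divIdeal E hE)).presheaf.stalkSpecializes hsp t ≠ 0 := by
      intro h0
      rw [h0, smul_zero] at hσeq
      exact hσ0 hσeq
    -- the generator of the stalk of the reflexive hull
    have hspan' : Submodule.span (X.presheaf.stalk x)
        {RefHull.stalkMapₗ (RefHull.bidualMap (ClSub.idealMod (divIdeal E hE))) x t} = ⊤ := by
      rw [eq_top_iff]
      intro w _
      obtain ⟨t', rfl⟩ := (hbij x hx.le).2 w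
      obtain ⟨c, rfl⟩ := Submodule.mem_span_singleton.mp
        (show t' ∈ Submodule.span (X.presheaf.stalk x) {t} by rw [hspan]; exact Submodule.mem_top)
      rw [map_smul]
      exact Submodule.smul_mem _ _ (Submodule.mem_span_singleton_self _)
    have hann' : ∀ a : X.presheaf.stalk x,
        a • RefHull.stalkMapₗ (RefHull.bidualMap (ClSub.idealMod (divIdeal E hE))) x t = 0 →
          a = 0 := by
      intro a ha
      rw [← map_smul] at ha
      exact hann a ((hbij x hx.le).1 (ha.trans (map_zero _).symm))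
    have hspec' : (RefHull.ddual (ClSub.idealMod (divIdeal E hE))).presheaf.stalkSpecializes hsp
        (RefHull.stalkMapₗ (RefHull.bidualMap (ClSub.idealMod (divIdeal E hE))) x t) =
        RefHull.stalkMapₗ (RefHull.bidualMap (ClSub.idealMod (divIdeal E hE))) (genericPoint X)
          ((ClSub.idealMod (divIdeal E hE)).presheaf.stalkSpecializes hsp t) :=
      (stalkMapₗ_stalkSpecializes _ hsp t).symm
    have hne' : (RefHull.ddual (ClSub.idealMod (divIdeal E hE))).presheaf.stalkSpecializes hsp
        (RefHull.stalkMapₗ (RefHull.bidualMap (ClSub.idealMod (divIdeal E hE))) x t) ≠ 0 := by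
      rw [hspec']
      intro h0
      exact hspec_ne ((hbij _ hη1).1 (h0.trans (map_zero _).symm))
    have key := OrdGeneric.secOrdAt_eq_ord x hsp hx
      (RefHull.ddual (ClSub.idealMod (divIdeal E hE))) _ hspan' hann' hne'
      (algebraMap (X.presheaf.stalk x) X.functionField g)⁻¹
    rw [hspec', ← map_smul, ← hσeq] at key
    rw [key, Ref1Group.ord_inv _ hgK, hord hx]

/-- **Every Weil divisor is the divisor of a rational section of a rank one reflexive module.** -/
theorem exists_hasDiv (hX : Pi1.IsNormalScheme X) (D : X → ℤ) (hD : LocallyFiniteSupport D)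
    (hD0 : ∀ x : X, Order.coheight x ≠ 1 → D x = 0) :
    ∃ F : X.Modules, Ref1Group.HasDiv F D := by
  have hlf : ∀ (E : X → ℕ), (∀ x, D x = 0 → E x = 0) → LocallyFiniteSupport E := by
    intro E hED z
    obtain ⟨t, ht, hfin⟩ := hD z
    refine ⟨t, ht, hfin.subset (Set.inter_subset_inter_right _ fun x hx => ?_)⟩
    intro h0
    exact hx (hED x h0)
  have hE0 : ∀ (E : X → ℕ), (∀ x, D x = 0 → E x = 0) →
      ∀ y : X, E y ≠ 0 → Order.coheight y = 1 := by
    intro E hED y hy
    by_contra h1
    exact hy (hED y (hD0 y h1))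
  have h₁ : ∀ x, D x = 0 → (D x).toNat = 0 := fun x h => by rw [h]; rfl
  have h₂ : ∀ x, D x = 0 → (-D x).toNat = 0 := fun x h => by rw [h]; rfl
  have hA := hasDiv_ddual_idealMod (fun x => (D x).toNat) (hlf _ h₁) hX (hE0 _ h₁)
  have hB := hasDiv_ddual_idealMod (fun x => (-D x).toNat) (hlf _ h₂) hX (hE0 _ h₂)
  have hF := Ref1Group.HasDiv.tensor hX (Ref1Group.HasDiv.dual hX hA) hB
  have hfun : (-(fun x : X => -(((D x).toNat : ℕ) : ℤ)) + fun x : X => -(((-D x).toNat : ℕ) : ℤ))
      = D := by
    funext x
    simp only [Pi.add_apply, Pi.neg_apply, neg_neg]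
    omega
  rw [hfun] at hF
  exact ⟨_, hF⟩

end Normal

end Groth.Agent.Lib.Helper45.DivIdealMod
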