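import Mathlib
import Groth.Agent.Lib.Helper45.Ref1Tensor
import Groth.Agent.Lib.Helper45.InvOrd
import Groth.Agent.H8.OrdLocFinite

/-!
# Local finiteness of the divisor of a rational section of a rank one reflexive module

Shared library of helper45 (namespace `Groth.Agent.Lib.Helper45.DivLocFinite`).

* `finite_ord_ne_zero_inter_compact`: a nonzero rational function has only finitely many zeros and
  poles of codimension one on a quasi-compact set.
* `secOrd_locallyFinite`: the divisor of a nonzero rational section of a rank one reflexive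
  module on a normal integral locally Noetherian scheme has locally finite support.
-/

set_option autoImplicit false
set_option linter.style.haveILetI false
universe u
open CategoryTheory CategoryTheory.Limits AlgebraicGeometry TopologicalSpace

namespace Groth.Agent.Lib.Helper45.DivLocFinite

open Groth.Agent.Lib.Helper45 Groth.Agent.Lib.Helper49

variable {X : Scheme.{u}} [IsIntegral X] [IsLocallyNoetherian X]

theorem finite_ord_ne_zero_inter_compact (f : X.functionField) (hf : f ≠ 0) (W : Set X)
    (hW : IsCompact W) :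
    {x : X | x ∈ W ∧ Order.coheight x = 1 ∧ Scheme.ord f x ≠ 0}.Finite := by
  have hlf := Groth.Agent.H8.ord_ne_zero_locallyFinite X f hf
  have h1 := hlf.finite_nonempty_inter_compact hW
  refine (h1.image Subtype.val).subset ?_
  rintro x ⟨hxW, hc, ho⟩
  exact ⟨⟨x, hc, ho⟩, ⟨x, subset_closure rfl, hxW⟩, rfl⟩

/-- The divisor of a nonzero rational section of a rank one reflexive module has locally finite
support. -/
theorem secOrd_locallyFinite (hX : Pi1.IsNormalScheme X) (F : X.Modules)
    (hF : RefHull.IsRef1 F) (s : Cyc.secFibre F (genericPoint X)) (hs : s ≠ 0) (d : X → ℤ)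
    (hd0 : ∀ x : X, Order.coheight x ≠ 1 → d x = 0)
    (hd : ∀ x : X, Order.coheight x = 1 →
      d x = Cyc.secOrdAt F (genericPoint X) x (genericPoint_specializes x) s) (z : X) :
    ∃ t ∈ nhds z, (t ∩ Function.support d).Finite := by
  classical
  letI : Field (X.presheaf.stalk (genericPoint X)) := inferInstanceAs (Field X.functionField)
  obtain ⟨σ, rfl⟩ := OrdGeneric.secFibre_mk_surjective F s
  have hσ : σ ≠ 0 := by
    rintro rfl
    exact hs rfl
  -- an affine open neighbourhood
  obtain ⟨W, hW, hzW, -⟩ := (X.isBasis_affineOpens).exists_subset_of_mem_open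
    (Set.mem_univ z) isOpen_univ
  obtain ⟨W, rfl⟩ : ∃ W' : X.Opens, (W' : Set X) = W := by
    obtain ⟨W', hW', rfl⟩ := hW
    exact ⟨W', rfl⟩
  have hWaff : IsAffineOpen W := by
    obtain ⟨W', hW', hWW'⟩ := hW
    have : W' = W := SetLike.coe_injective hWW'
    exact this ▸ hW'
  haveI : IsNoetherianRing Γ(X, W) := IsLocallyNoetherian.component_noetherian ⟨W, hWaff⟩
  have hWnoeth : NoetherianSpace W := noetherianSpace_of_isAffineOpen W hWaff
  refine ⟨W, W.isOpen.mem_nhds hzW, ?_⟩
  -- the codimension one points of `W`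
  set S : Set X := {x | x ∈ W ∧ Order.coheight x = 1} with hS
  have hScomp : IsCompact S :=
    (noetherianSpace_set_iff (W : Set X)).mp hWnoeth S fun x hx => hx.1
  -- local bases
  have hbasis : ∀ x : X, Order.coheight x = 1 →
      ∃ (V : X.Opens) (_ : x ∈ V) (τ : Γ(F, V)), IsBasisOn F V τ := fun x hx =>
    Ref1Tensor.exists_isBasisOn_of_isRef1 hX F hF x
      ((OrdGeneric.coheight_eq_one_iff x).mp hx).le
  -- choose bases (using a dummy off the codimension one locus)
  have hbasis' : ∀ x : X, ∃ (V : X.Opens), (Order.coheight x = 1 → x ∈ V) ∧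
      ∃ (τ : Γ(F, V)), (Order.coheight x = 1 → IsBasisOn F V τ) := by
    intro x
    by_cases hx : Order.coheight x = 1
    · obtain ⟨V, hxV, τ, hτ⟩ := hbasis x hx
      exact ⟨V, fun _ => hxV, τ, fun _ => hτ⟩
    · exact ⟨⊥, fun h => absurd h hx, 0, fun h => absurd h hx⟩
  choose V hxV τ hτ using hbasis'
  obtain ⟨T, hTS, hcover⟩ := hScomp.elim_nhds_subcover (fun x => (V x : Set X))
    (fun x hx => (V x).isOpen.mem_nhds (hxV x hx.2))
  -- on each `V x`, the section is a multiple of the basis
  have hcoef : ∀ x : X, Order.coheight x = 1 → ∃ φ : X.functionField, φ ≠ 0 ∧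
      ∀ y : X, y ∈ V x → Order.coheight y = 1 → d y = Scheme.ord φ y := by
    intro x hx
    have hηV : genericPoint X ∈ V x :=
      (genericPoint_specializes x).mem_open (V x).isOpen (hxV x hx)
    have hgerm_ne : F.presheaf.germ (V x) (genericPoint X) hηV (τ x) ≠ 0 := by
      intro h0
      have h1 : (1 : X.presheaf.stalk (genericPoint X)) = 0 :=
        InvOrd.germ_basis_ann (hτ x hx) _ hηV 1 (by rw [h0, smul_zero])
      exact one_ne_zero h1
    obtain ⟨φ, hφ⟩ := Ref1Codim1.exists_smul_eq_of_ne_zero F hF.2.2 _ hgerm_ne σ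
    refine ⟨φ, ?_, ?_⟩
    · rintro rfl
      rw [zero_smul] at hφ
      exact hσ hφ
    · intro y hy hcy
      rw [hd y hcy, hφ]
      exact InvOrd.secOrdAt_eq_ord_of_isBasisOn (hτ x hx) y hy hcy _ φ hηV
  have hcoef' : ∀ x : X, ∃ φ : X.functionField, Order.coheight x = 1 → (φ ≠ 0 ∧
      ∀ y : X, y ∈ V x → Order.coheight y = 1 → d y = Scheme.ord φ y) := by
    intro x
    by_cases hx : Order.coheight x = 1
    · obtain ⟨φ, h1, h2⟩ := hcoef x hx
      exact ⟨φ, fun _ => ⟨h1, h2⟩⟩
    · exact ⟨0, fun h => absurd h hx⟩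
  choose φ hφ using hcoef'
  -- the support is contained in a finite union of finite sets
  have hfin : (⋃ x ∈ T, {y : X | y ∈ (W : Set X) ∧ Order.coheight y = 1 ∧
      Scheme.ord (φ x) y ≠ 0}).Finite := by
    refine T.finite_toSet.biUnion fun x hx => ?_
    exact finite_ord_ne_zero_inter_compact (φ x) (hφ x (hTS x hx).2).1 W hWaff.isCompact
  refine hfin.subset ?_
  rintro y ⟨hyW, hy⟩
  have hcy : Order.coheight y = 1 := by
    by_contra hne
    exact hy (hd0 y hne)
  obtain ⟨x, hxT, hyx⟩ := Set.mem_iUnion₂.mp (hcover ⟨hyW, hcy⟩)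
  refine Set.mem_iUnion₂.mpr ⟨x, hxT, hyW, hcy, ?_⟩
  rw [← (hφ x (hTS x hxT).2).2 y hyx hcy]
  exact hy

end Groth.Agent.Lib.Helper45.DivLocFinite
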