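import Mathlib
import Groth.Agent.Lib.Helper47.DVRRegular

/-!
# Finite modules over regular local rings of dimension at most one

Shared library of helper45 (namespace `Groth.Agent.Lib.Helper45.FreeOverDVR`).
-/

set_option autoImplicit false
set_option linter.style.haveILetI false
universe u

namespace Groth.Agent.Lib.Helper45.FreeOverDVR

open IsLocalRing

/-- A finite module over a regular local ring of dimension at most one, whose maximal ideal is not
an associated prime unless the ring is a field, is free. -/
theorem free_of_regular_dim_le_one (A : Type u) [CommRing A] [IsRegularLocalRing A]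
    (hdim : ringKrullDim A ≤ 1) (N : Type u) [AddCommGroup N] [Module A N] [Module.Finite A N]
    (h : IsAssociatedPrime (maximalIdeal A) N → ringKrullDim A = 0) : Module.Free A N := by
  haveI hdom : IsDomain A := Groth.Agent.Lib.Helper85.isDomain_of_isRegularLocalRing A
  by_cases h0 : ringKrullDim A = 0
  · haveI : Ring.KrullDimLE 0 A := (Ring.krullDimLE_iff).mpr (by rw [h0]; rfl)
    have hf : IsField A := Ring.KrullDimLE.isField_of_isDomain
    letI := hf.toField
    exact Module.Free.of_divisionRing A N
  · have h1 : ringKrullDim A = 1 := by
      obtain ⟨n, hn⟩ : ∃ n : ℕ∞, ringKrullDim A = n := by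
        have : ringKrullDim A ≠ ⊥ := ringKrullDim_ne_bot
        exact (WithBot.ne_bot_iff_exists.mp this).imp fun n hn => hn.symm
      rw [hn] at hdim h0 ⊢
      have hn1 : n ≤ 1 := by exact_mod_cast hdim
      have hn0 : n ≠ 0 := by exact_mod_cast h0
      have : n = 1 := le_antisymm hn1 (Order.one_le_iff_ne_zero.mpr hn0)
      rw [this]
      rfl
    obtain ⟨_, hdvr⟩ := (Groth.Agent.Lib.Helper47.exists_isDiscreteValuationRing_iff A).mpr
      ⟨inferInstance, h1⟩
    have hnot : ¬ IsAssociatedPrime (maximalIdeal A) N := fun ha => h0 (h ha)
    -- `N` is torsion free
    obtain ⟨t, ht⟩ := IsDiscreteValuationRing.exists_irreducible A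
    have hm : maximalIdeal A = Ideal.span {t} := ht.maximalIdeal_eq
    have htreg : ∀ n : N, t • n = 0 → n = 0 := by
      intro n hn
      by_contra hne
      apply hnot
      have hann : (⊥ : Submodule A N).colon {n} = maximalIdeal A := by
        apply le_antisymm
        · intro a ha
          rw [Submodule.mem_colon_singleton, Submodule.mem_bot] at ha
          by_contra hau
          have hu : IsUnit a := by
            by_contra hnu
            exact hau ((IsLocalRing.mem_maximalIdeal a).mpr hnu)
          exact hne (by simpa using (hu.smul_eq_zero).mp ha)
        · rw [hm, Ideal.span_le, Set.singleton_subset_iff]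
          change t ∈ (⊥ : Submodule A N).colon {n}
          rw [Submodule.mem_colon_singleton, Submodule.mem_bot]
          exact hn
      refine ⟨inferInstance, n, ?_⟩
      rw [hann]
      exact (Ideal.IsPrime.radical inferInstance).symm
    have htpow : ∀ (k : ℕ) (n : N), t ^ k • n = 0 → n = 0 := by
      intro k
      induction k with
      | zero => intro n hn; simpa using hn
      | succ k ih =>
        intro n hn
        rw [pow_succ, mul_smul] at hn
        exact htreg n (ih _ hn)
    haveI : Module.IsTorsionFree A N := by
      refine Module.IsTorsionFree.of_smul_eq_zero fun a n han => ?_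
      by_cases ha0 : a = 0
      · exact Or.inl ha0
      · right
        obtain ⟨k, u, hu⟩ := IsDiscreteValuationRing.eq_unit_mul_pow_irreducible ha0 ht
        rw [hu, mul_smul] at han
        exact htpow k n ((u.isUnit.smul_eq_zero).mp han)
    exact Module.free_of_finite_type_torsion_free'

end Groth.Agent.Lib.Helper45.FreeOverDVR
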