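import Mathlib

/-!
# Generic freeness (elementary form)

`exists_forall_smul_mem_of_finite`: a finite module all of whose elements are multiplied into a
submodule `W` by elements of a submonoid `S` is multiplied into `W` by a single `f ∈ S`.

`exists_generic_basis`: `M` a finite `A`-module, `K` a field which is a localization of `A` at `S`,
`g : M → N` a localization of `M` at `S`.  Then there are `m₁, …, m_r ∈ M` (`r = dim_K N`) whose
images are `K`-linearly independent and `f ∈ S` with `f M ⊆ ⟨m₁, …, m_r⟩`.
-/

set_option autoImplicit false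
universe u

namespace Groth.Agent.Lib.Helper45

theorem exists_forall_smul_mem_of_finite {A : Type*} [CommRing A] {M : Type*} [AddCommGroup M]
    [Module A M] [Module.Finite A M] (S : Submonoid A) (W : Submodule A M)
    (h : ∀ x : M, ∃ s ∈ S, s • x ∈ W) : ∃ f ∈ S, ∀ x : M, f • x ∈ W := by
  classical
  obtain ⟨G, hG⟩ := (Module.Finite.fg_top : (⊤ : Submodule A M).FG)
  choose s hs hsW using h
  refine ⟨∏ x ∈ G, s x, Submonoid.prod_mem S (fun x _ => hs x), ?_⟩
  have hle : Submodule.span A (G : Set M) ≤
      W.comap ((∏ x ∈ G, s x) • (LinearMap.id : M →ₗ[A] M)) := by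
    rw [Submodule.span_le]
    intro x hx
    have hx' : x ∈ G := hx
    rw [SetLike.mem_coe, Submodule.mem_comap]
    simp only [LinearMap.smul_apply, LinearMap.id_coe, id_eq]
    rw [← Finset.mul_prod_erase G s hx', mul_comm, mul_smul]
    exact W.smul_mem _ (hsW x)
  intro x
  have hx : x ∈ Submodule.span A (G : Set M) := by rw [hG]; trivial
  have := hle hx
  simpa using this

theorem exists_generic_basis {A : Type*} [CommRing A] (S : Submonoid A)
    (K : Type*) [Field K] [Algebra A K] [IsLocalization S K]
    {M : Type*} [AddCommGroup M] [Module A M] [Module.Finite A M]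
    {N : Type*} [AddCommGroup N] [Module A N] [Module K N] [IsScalarTower A K N]
    (g : M →ₗ[A] N) [IsLocalizedModule S g] :
    ∃ (m : Fin (Module.finrank K N) → M) (f : A), f ∈ S ∧
      LinearIndependent K (fun i => g (m i)) ∧
      ∀ x : M, f • x ∈ Submodule.span A (Set.range m) := by
  classical
  have : Module.Finite K N := Module.Finite.of_isLocalizedModule S g
  let b := Module.finBasis K N
  have hsurj : ∀ i, ∃ ms : M × S, ms.2 • b i = g ms.1 := fun i => IsLocalizedModule.surj S g (b i)
  choose ms hms using hsurj
  let m : Fin (Module.finrank K N) → M := fun i => (ms i).1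
  let w : Fin (Module.finrank K N) → Kˣ := fun i =>
    (IsLocalization.map_units K (ms i).2).unit
  have hgm : (fun i => g (m i)) = w • (b : Fin (Module.finrank K N) → N) := by
    funext i
    simp only [Pi.smul_apply', m]
    rw [← hms i, Units.smul_def, IsUnit.unit_spec, algebraMap_smul]
    rfl
  have hli : LinearIndependent K (fun i => g (m i)) := by
    rw [hgm]
    exact b.linearIndependent.units_smul w
  have hspan : Submodule.span K (Set.range (fun i => g (m i))) = ⊤ :=
    hli.span_eq_top_of_card_eq_finrank' (by simp)
  have key : ∀ x : M, ∃ s ∈ S, s • x ∈ Submodule.span A (Set.range m) := by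
    intro x
    have hx : g x ∈ Submodule.span K (Set.range (fun i => g (m i))) := by rw [hspan]; trivial
    obtain ⟨c, hc⟩ := (Submodule.mem_span_range_iff_exists_fun K).1 hx
    obtain ⟨d, hd⟩ := IsLocalization.exist_integer_multiples S Finset.univ c
    choose a ha using fun i => hd i (Finset.mem_univ i)
    have h1 : g ((d : A) • x) = g (∑ i, a i • m i) := by
      rw [map_smul, ← hc, Finset.smul_sum, map_sum]
      refine Finset.sum_congr rfl fun i _ => ?_
      rw [map_smul, ← algebraMap_smul K (a i) (g (m i)), ha i, smul_assoc]
    obtain ⟨t, ht⟩ := (IsLocalizedModule.eq_iff_exists S g).1 h1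
    refine ⟨t * d, S.mul_mem t.2 d.2, ?_⟩
    have : ((t : A) * (d : A)) • x = ∑ i, ((t : A) * a i) • m i := by
      rw [mul_smul]
      have := ht
      simp only [Submonoid.smul_def] at this
      rw [this, Finset.smul_sum]
      refine Finset.sum_congr rfl fun i _ => ?_
      rw [mul_smul]
    rw [this]
    exact Submodule.sum_mem _ fun i _ =>
      Submodule.smul_mem _ _ (Submodule.subset_span ⟨i, rfl⟩)
  obtain ⟨f, hfS, hf⟩ := exists_forall_smul_mem_of_finite S _ key
  exact ⟨m, f, hfS, hli, hf⟩

/-- Version of `exists_generic_basis` with `K` a commutative ring which is a field. -/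
theorem exists_generic_basis' {A : Type*} [CommRing A] (S : Submonoid A)
    (K : Type*) [CommRing K] (hK : IsField K) [Algebra A K] [IsLocalization S K]
    {M : Type*} [AddCommGroup M] [Module A M] [Module.Finite A M]
    {N : Type*} [AddCommGroup N] [Module A N] [Module K N] [IsScalarTower A K N]
    (g : M →ₗ[A] N) [IsLocalizedModule S g] :
    ∃ (m : Fin (Module.finrank K N) → M) (f : A), f ∈ S ∧
      LinearIndependent K (fun i => g (m i)) ∧
      ∀ x : M, f • x ∈ Submodule.span A (Set.range m) := by
  let _ := hK.toField
  exact exists_generic_basis S K g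

end Groth.Agent.Lib.Helper45
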