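import Mathlib
import Groth.Agent.Lib.Helper45.RefHullStalk

/-!
# Isolated points and associated points of duals

Shared library of helper45 (namespace `Groth.Agent.Lib.Helper45.IsolatedPoint`).

* `krullDimLE_zero_of_isAssociatedPrime_dual`: if the maximal ideal of a reduced Noetherian local
  ring `A` is associated to a dual module `Hom(M, A)` then `A` has dimension zero.
* `isOpen_singleton_of_isClosed_of_forall_specializes`: in a locally Noetherian scheme a closed
  point without proper generizations is open.
* `isOpen_singleton_of_isAssPoint_dual`: on a reduced locally Noetherian scheme, a closed point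
  which is an associated point of the dual of a coherent module is an open point.
-/

set_option autoImplicit false
set_option linter.style.haveILetI false
universe u
open CategoryTheory CategoryTheory.Limits AlgebraicGeometry TopologicalSpace Opposite

namespace Groth.Agent.Lib.Helper45.IsolatedPoint

theorem krullDimLE_zero_of_isAssociatedPrime_dual (A : Type u) [CommRing A] [IsLocalRing A]
    [IsNoetherianRing A] [IsReduced A] (M : Type u) [AddCommGroup M] [Module A M]
    (h : IsAssociatedPrime (IsLocalRing.maximalIdeal A) (Module.Dual A M)) :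
    Ring.KrullDimLE 0 A := by
  obtain ⟨_, φ, hφ⟩ := (isAssociatedPrime_iff (M := Module.Dual A M)).mp h
  have hφ0 : φ ≠ 0 := by
    rintro rfl
    have h1 : (1 : A) ∈ IsLocalRing.maximalIdeal A := by
      rw [hφ, Submodule.mem_colon_singleton]
      simp
    exact (Ideal.ne_top_iff_one _).mp (IsLocalRing.maximalIdeal.isMaximal A).ne_top h1
  obtain ⟨v, hv⟩ : ∃ v, φ v ≠ 0 := by
    by_contra hcon
    push Not at hcon
    exact hφ0 (LinearMap.ext hcon)
  have hma : ∀ b ∈ IsLocalRing.maximalIdeal A, b * φ v = 0 := by
    intro b hb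
    rw [hφ, Submodule.mem_colon_singleton] at hb
    have h1 : b • φ = 0 := by simpa using hb
    have h2 := congrArg (fun ψ : Module.Dual A M => ψ v) h1
    simpa [smul_eq_mul] using h2
  obtain ⟨p, hp, hap⟩ : ∃ p ∈ minimalPrimes A, φ v ∉ p := by
    by_contra hcon
    push Not at hcon
    have h1 : φ v ∈ nilradical A := by
      have h2 : φ v ∈ sInf ((⊥ : Ideal A).minimalPrimes) := by
        rw [Ideal.mem_sInf]
        intro p hp
        exact hcon p hp
      rw [Ideal.sInf_minimalPrimes] at h2
      exact h2
    rw [nilradical_eq_zero] at h1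
    exact hv h1
  have hpprime : p.IsPrime := hp.1.1
  have hmp : IsLocalRing.maximalIdeal A ≤ p := fun b hb =>
    (hpprime.mem_or_mem (by rw [hma b hb]; exact p.zero_mem)).resolve_right hap
  rw [Ring.krullDimLE_zero_iff]
  intro q hq
  have hqm : q ≤ IsLocalRing.maximalIdeal A := IsLocalRing.le_maximalIdeal hq.ne_top
  have hpq : p ≤ q := hp.2 ⟨hq, bot_le⟩ (hqm.trans hmp)
  have hqe : q = IsLocalRing.maximalIdeal A := le_antisymm hqm (hmp.trans hpq)
  rw [hqe]
  infer_instance

variable {X : Scheme.{u}} [IsLocallyNoetherian X]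

/-- In a locally Noetherian scheme a closed point without proper generizations is open. -/
theorem isOpen_singleton_of_isClosed_of_forall_specializes (x : X) (hx : IsClosed ({x} : Set X))
    (hgen : ∀ y : X, y ⤳ x → y = x) : IsOpen ({x} : Set X) := by
  obtain ⟨_, ⟨V, hV : IsAffineOpen V, rfl⟩, hxV, -⟩ :=
    X.isBasis_affineOpens.exists_subset_of_mem_open (Set.mem_univ x) isOpen_univ
  haveI : IsNoetherianRing Γ(X, V) := IsLocallyNoetherian.component_noetherian ⟨V, hV⟩
  haveI : NoetherianSpace (↑V : Scheme.{u}) := noetherianSpace_of_isAffineOpen V hV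
  have hinj : Function.Injective (Scheme.Opens.ι V) := (Scheme.Opens.ι V).isOpenEmbedding.injective
  obtain ⟨x', hx'⟩ : ∃ x' : (↑V : Scheme.{u}), (Scheme.Opens.ι V) x' = x := ⟨⟨x, hxV⟩, rfl⟩
  have hx'cl : IsClosed ({x'} : Set (↑V : Scheme.{u})) := by
    have : ({x'} : Set (↑V : Scheme.{u})) = (Scheme.Opens.ι V) ⁻¹' ({x} : Set X) := by
      ext y
      rw [Set.mem_singleton_iff, Set.mem_preimage, Set.mem_singleton_iff, ← hx']
      exact ⟨fun h => by rw [h], fun h => hinj h⟩
    rw [this]
    exact hx.preimage (Scheme.Opens.ι V).continuous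
  let S : Set (↑V : Scheme.{u}) :=
    ⋃ Z ∈ {Z ∈ irreducibleComponents (↑V : Scheme.{u}) | x' ∉ Z}, Z
  have hScl : IsClosed S := by
    refine Set.Finite.isClosed_biUnion ?_ (fun Z hZ => isClosed_of_mem_irreducibleComponents Z hZ.1)
    exact (NoetherianSpace.finite_irreducibleComponents (α := (↑V : Scheme.{u}))).subset
      fun Z hZ => hZ.1
  have hS : Sᶜ = {x'} := by
    ext y'
    rw [Set.mem_compl_iff, Set.mem_singleton_iff]
    constructor
    · intro hy'
      obtain ⟨Z, hZ, hyZ⟩ := exists_mem_irreducibleComponents_subset_of_isIrreducible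
        ({y'} : Set (↑V : Scheme.{u})) isIrreducible_singleton
      have hy'Z : y' ∈ Z := hyZ (Set.mem_singleton y')
      have hx'Z : x' ∈ Z := by
        by_contra hcon
        exact hy' (Set.mem_biUnion
          (show Z ∈ {Z ∈ irreducibleComponents (↑V : Scheme.{u}) | x' ∉ Z} from ⟨hZ, hcon⟩) hy'Z)
      obtain ⟨η, hη⟩ := QuasiSober.sober hZ.1 (isClosed_of_mem_irreducibleComponents Z hZ)
      have h1 : η ⤳ x' := by
        rw [specializes_iff_mem_closure, hη.def]
        exact hx'Z
      have h2 : (Scheme.Opens.ι V) η ⤳ x := by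
        rw [← hx']
        exact h1.map (Scheme.Opens.ι V).continuous
      have h3 : η = x' := hinj ((hgen _ h2).trans hx'.symm)
      have h4 : Z = {x'} := by
        rw [← hη.def, h3]
        exact hx'cl.closure_eq
      rw [h4] at hy'Z
      exact hy'Z
    · rintro rfl hmem
      obtain ⟨Z, hZ, hxZ⟩ := Set.mem_iUnion₂.mp hmem
      exact hZ.2 hxZ
  have hopen : IsOpen ({x'} : Set (↑V : Scheme.{u})) := by
    rw [← hS]
    exact hScl.isOpen_compl
  have : ({x} : Set X) = (Scheme.Opens.ι V) '' ({x'} : Set (↑V : Scheme.{u})) := by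
    rw [Set.image_singleton, hx']
  rw [this]
  exact (Scheme.Opens.ι V).isOpenEmbedding.isOpenMap _ hopen

/-- On a reduced locally Noetherian scheme, a closed point which is an associated point of the dual
of a coherent module is an open point. -/
theorem isOpen_singleton_of_isAssPoint_dual [AlgebraicGeometry.IsReduced X] (F : X.Modules)
    (hF : Coh.IsCoh F) (x : X) (hx : IsClosed ({x} : Set X))
    (hass : Curv2.IsAssPoint (RefHull.dual F) x) : IsOpen ({x} : Set X) := by
  have h1 : IsAssociatedPrime (IsLocalRing.maximalIdeal (X.presheaf.stalk x))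
      (Module.Dual (X.presheaf.stalk x) (F.presheaf.stalk x)) :=
    IsAssociatedPrime.map_of_injective
      (f := (Groth.Agent.Lib.Helper45.RefHullStalk.dualStalkEquiv F hF x).toLinearMap)
      (show IsAssociatedPrime _ _ from hass)
      (Groth.Agent.Lib.Helper45.RefHullStalk.dualStalkEquiv F hF x).injective
  haveI := krullDimLE_zero_of_isAssociatedPrime_dual _ _ h1
  have h2 : ringKrullDim (X.presheaf.stalk x) ≤ 0 := by
    have := (Ring.krullDimLE_iff (n := 0) (R := X.presheaf.stalk x)).mp inferInstance
    exact_mod_cast this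
  rw [ringKrullDim_stalk_eq_coheight] at h2
  have h3 : Order.coheight x = 0 := by
    have : Order.coheight x ≤ 0 := by exact_mod_cast h2
    exact le_antisymm this bot_le
  have h4 : IsMax x := Order.coheight_eq_zero.mp h3
  refine isOpen_singleton_of_isClosed_of_forall_specializes x hx fun y hy => ?_
  have h5 : x ≤ y := Scheme.le_iff_specializes.mpr hy
  have h6 : x ⤳ y := Scheme.le_iff_specializes.mp (h4 h5)
  exact (hy.antisymm h6).eq

end Groth.Agent.Lib.Helper45.IsolatedPoint
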