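import Mathlib
import Groth.Agent.Lib.Helper45.Hartogs
import Groth.Agent.Lib.Helper45.InvRef1
import Groth.Agent.Lib.Helper45.DivIdealMod

/-!
# Principal prime divisors on normal schemes

Shared library of helper45 (namespace `Groth.Agent.Lib.Helper45.LocFactorial`).

* `exists_generator_comap_maximalIdeal`: on a normal integral locally Noetherian scheme, if a
  rational function `φ` has order one along the codimension one point `ζ` and order zero along the
  other codimension one generizations of `x`, then the prime ideal of `ζ` in `O_{X,x}` is principal.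
-/

set_option autoImplicit false
set_option linter.style.haveILetI false
universe u
open CategoryTheory CategoryTheory.Limits AlgebraicGeometry TopologicalSpace

namespace Groth.Agent.Lib.Helper45.LocFactorial

open Groth.Agent.Lib.Helper45 Groth.Agent.Lib.Helper49

variable {X : Scheme.{u}} [IsIntegral X] [IsLocallyNoetherian X]

omit [IsLocallyNoetherian X] in
theorem algebraMap_stalkSpecializes {y x : X} (h : y ⤳ x) (a : X.presheaf.stalk x) :
    algebraMap (X.presheaf.stalk y) X.functionField (X.presheaf.stalkSpecializes h a) =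
      algebraMap (X.presheaf.stalk x) X.functionField a := by
  change (X.presheaf.stalkSpecializes (genericPoint_specializes y)).hom
      ((X.presheaf.stalkSpecializes h).hom a) =
    (X.presheaf.stalkSpecializes (genericPoint_specializes x)).hom a
  rw [← TopCat.Presheaf.stalkSpecializes_comp X.presheaf (genericPoint_specializes y) h]
  rfl

/-- In the DVR `O_{X,y}` at a codimension one point, the units are the elements of order zero. -/
theorem isUnit_iff_ord_eq_zero (hX : Pi1.IsNormalScheme X) {y : X} (hy : Order.coheight y = 1)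
    (a : X.presheaf.stalk y) (ha : a ≠ 0) :
    IsUnit a ↔ Scheme.ord (algebraMap (X.presheaf.stalk y) X.functionField a) y = 0 := by
  haveI : IsIntegrallyClosed (X.presheaf.stalk y) := (hX y).2
  haveI : IsDiscreteValuationRing (X.presheaf.stalk y) :=
    OrdGeneric.isDiscreteValuationRing_of_ringKrullDim_eq_one _
      ((OrdGeneric.coheight_eq_one_iff y).mp hy)
  have hne : algebraMap (X.presheaf.stalk y) X.functionField a ≠ 0 := by
    rw [Ne, map_eq_zero_iff _ (IsFractionRing.injective _ _)]
    exact ha
  rw [Scheme.ord_eq_iff hy hne]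
  haveI : Ring.KrullDimLE 1 (X.presheaf.stalk y) := krullDimLE_of_coheight_le hy.le
  exact Ring.isUnit_iff_ordFrac_one_of_isDiscreteValuationRing

theorem ord_algebraMap_nonneg {y : X} (hy : Order.coheight y = 1)
    (a : X.presheaf.stalk y) (ha : a ≠ 0) :
    0 ≤ Scheme.ord (algebraMap (X.presheaf.stalk y) X.functionField a) y := by
  have hne : algebraMap (X.presheaf.stalk y) X.functionField a ≠ 0 := by
    rw [Ne, map_eq_zero_iff _ (IsFractionRing.injective _ _)]
    exact ha
  rw [Scheme.le_ord_iff hy hne]
  haveI : Ring.KrullDimLE 1 (X.presheaf.stalk y) := krullDimLE_of_coheight_le hy.le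
  exact Ring.ordFrac_ge_one_of_ne_zero ha

/-- **Principal prime divisors.** -/
theorem exists_generator_comap_maximalIdeal (hX : Pi1.IsNormalScheme X) {ζ x : X}
    (hζ : Order.coheight ζ = 1) (h : ζ ⤳ x) (φ : X.functionField) (hφ : φ ≠ 0)
    (h1 : Scheme.ord φ ζ = 1)
    (h0 : ∀ y : X, Order.coheight y = 1 → y ⤳ x → y ≠ ζ → Scheme.ord φ y = 0) :
    ∃ t : X.presheaf.stalk x, t ≠ 0 ∧
      Ideal.comap (X.presheaf.stalkSpecializes h).hom
        (IsLocalRing.maximalIdeal (X.presheaf.stalk ζ)) = Ideal.span {t} := by
  classical
  have hDVR : ∀ y : X, Order.coheight y = 1 → IsDiscreteValuationRing (X.presheaf.stalk y) := by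
    intro y hy
    haveI : IsIntegrallyClosed (X.presheaf.stalk y) := (hX y).2
    exact OrdGeneric.isDiscreteValuationRing_of_ringKrullDim_eq_one _
      ((OrdGeneric.coheight_eq_one_iff y).mp hy)
  have hord_nonneg : ∀ y : X, Order.coheight y = 1 → y ⤳ x → 0 ≤ Scheme.ord φ y := by
    intro y hy hyx
    by_cases hyζ : y = ζ
    · rw [hyζ, h1]
      exact zero_le_one
    · rw [h0 y hy hyx hyζ]
  -- Step 1: `φ` is regular at `x`
  obtain ⟨t, ht⟩ := Hartogs.exists_algebraMap_eq_of_forall_codim_one hX x φ (fun y hy hyx => by
    haveI := hDVR y hy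
    exact OrdGeneric.exists_algebraMap_eq_of_ord_nonneg y hy φ hφ (hord_nonneg y hy hyx))
  have ht0 : t ≠ 0 := by
    rintro rfl
    rw [map_zero] at ht
    exact hφ ht.symm
  have hspec_ne : ∀ {y : X} (hyx : y ⤳ x) (b : X.presheaf.stalk x), b ≠ 0 →
      X.presheaf.stalkSpecializes hyx b ≠ 0 := by
    intro y hyx b hb h0'
    have h2 := algebraMap_stalkSpecializes hyx b
    rw [h0', map_zero] at h2
    exact hb ((map_eq_zero_iff _ (IsFractionRing.injective (X.presheaf.stalk x)
      X.functionField)).mp h2.symm)
  refine ⟨t, ht0, le_antisymm ?_ ?_⟩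
  · -- Step 3
    intro b hb
    rw [Ideal.mem_comap] at hb
    by_cases hb0 : b = 0
    · rw [hb0]
      exact Ideal.zero_mem _
    have hbK : algebraMap (X.presheaf.stalk x) X.functionField b ≠ 0 := by
      rw [Ne, map_eq_zero_iff _ (IsFractionRing.injective _ _)]
      exact hb0
    obtain ⟨c, hc⟩ := Hartogs.exists_algebraMap_eq_of_forall_codim_one hX x
      (algebraMap (X.presheaf.stalk x) X.functionField b * φ⁻¹) (fun y hy hyx => by
        by_cases hyζ : y = ζ
        · subst hyζ
          haveI := hDVR y hy
          apply OrdGeneric.exists_algebraMap_eq_of_ord_nonneg y hy _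
            (mul_ne_zero hbK (inv_ne_zero hφ))
          rw [Scheme.ord_mul hbK (inv_ne_zero hφ), Ref1Group.ord_inv φ hφ, h1]
          have hsb := hspec_ne h b hb0
          have hnu : ¬ IsUnit ((X.presheaf.stalkSpecializes h).hom b) :=
            (IsLocalRing.mem_maximalIdeal _).mp hb
          have h3 := ord_algebraMap_nonneg hy _ hsb
          have h4 := (isUnit_iff_ord_eq_zero hX hy _ hsb).not.mp hnu
          rw [algebraMap_stalkSpecializes] at h3 h4
          omega
        · have hst := hspec_ne hyx t ht0
          have hu : IsUnit (X.presheaf.stalkSpecializes hyx t) := by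
            rw [isUnit_iff_ord_eq_zero hX hy _ hst, algebraMap_stalkSpecializes, ht]
            exact h0 y hy hyx hyζ
          refine ⟨X.presheaf.stalkSpecializes hyx b * ↑hu.unit⁻¹, ?_⟩
          rw [map_mul, algebraMap_stalkSpecializes]
          congr 1
          have h5 : algebraMap (X.presheaf.stalk y) X.functionField
              ((↑hu.unit⁻¹ : X.presheaf.stalk y) * X.presheaf.stalkSpecializes hyx t) = 1 := by
            rw [IsUnit.val_inv_mul, map_one]
          rw [map_mul, algebraMap_stalkSpecializes, ht] at h5
          exact eq_inv_of_mul_eq_one_left h5)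
    have h6 : algebraMap (X.presheaf.stalk x) X.functionField (c * t) =
        algebraMap (X.presheaf.stalk x) X.functionField b := by
      rw [map_mul, hc, ht, mul_assoc, inv_mul_cancel₀ hφ, mul_one]
    have h7 := IsFractionRing.injective (X.presheaf.stalk x) X.functionField h6
    exact Ideal.mem_span_singleton'.mpr ⟨c, h7⟩
  · -- Step 2
    rw [Ideal.span_singleton_le_iff_mem, Ideal.mem_comap]
    have hst := hspec_ne h t ht0
    have hnu : ¬ IsUnit ((X.presheaf.stalkSpecializes h).hom t) := by
      intro hu
      have := (isUnit_iff_ord_eq_zero hX hζ _ hst).mp hu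
      rw [algebraMap_stalkSpecializes, ht, h1] at this
      exact one_ne_zero this
    exact (IsLocalRing.mem_maximalIdeal _).mpr hnu

end Groth.Agent.Lib.Helper45.LocFactorial
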