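import Groth.Agent.Lib.Helper45.NormGlue
import Mathlib.AlgebraicGeometry.Morphisms.FlatRank
import Mathlib.RingTheory.Localization.NormTrace
import Mathlib.RingTheory.Localization.Free
import Mathlib.LinearAlgebra.Charpoly.BaseChange

/-!
# Norms for finite locally free morphisms
-/

set_option autoImplicit false
universe u
open CategoryTheory AlgebraicGeometry TopologicalSpace Opposite

namespace Groth.Agent.Lib.Helper45

namespace NormFree

section Algebra

/-- In a finite free algebra, every element divides its norm. -/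
lemma dvd_algebraMap_norm {R S : Type*} [CommRing R] [CommRing S] [Algebra R S] [Module.Free R S]
    [Module.Finite R S] (s : S) : s ∣ algebraMap R S (Algebra.norm R s) := by
  set f := Algebra.lmul R S s with hf
  have h1 : Polynomial.aeval f f.charpoly = 0 := LinearMap.aeval_self_charpoly f
  have h2 : Polynomial.aeval s f.charpoly = 0 := by
    have : Polynomial.aeval f f.charpoly = Algebra.lmul R S (Polynomial.aeval s f.charpoly) := by
      rw [hf, Polynomial.aeval_algHom_apply]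
    rw [this] at h1
    have hinj : Function.Injective (Algebra.lmul R S) := Algebra.lmul_injective
    exact hinj (h1.trans (map_zero _).symm)
  have h3 : s ∣ algebraMap R S (f.charpoly.coeff 0) := by
    have h4 := Polynomial.X_mul_divX_add f.charpoly
    have h5 := congrArg (Polynomial.aeval s) h4
    rw [h2, map_add, map_mul, Polynomial.aeval_X, Polynomial.aeval_C] at h5
    refine ⟨-(Polynomial.aeval s f.charpoly.divX), ?_⟩
    rw [mul_neg]
    exact eq_neg_of_add_eq_zero_right h5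
  rw [Algebra.norm_apply, LinearMap.det_eq_sign_charpoly_coeff, map_mul]
  exact Dvd.dvd.mul_left h3 _

/-- transport of freeness from the standard localization to any localization -/
lemma free_of_away {R S Rr Sr : Type*} [CommRing R] [CommRing S] [Algebra R S] [CommRing Rr]
    [Algebra R Rr] [CommRing Sr] [Algebra S Sr] [Algebra Rr Sr] [Algebra R Sr]
    [IsScalarTower R Rr Sr] [IsScalarTower R S Sr] (r : R) [IsLocalization.Away r Rr]
    [IsLocalization (Algebra.algebraMapSubmonoid S (Submonoid.powers r)) Sr]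
    (h : Module.Free (Localization (Submonoid.powers r))
      (LocalizedModule (Submonoid.powers r) S)) : Module.Free Rr Sr := by
  let f : S →ₗ[R] Sr := (IsScalarTower.toAlgHom R S Sr).toLinearMap
  have hf : IsLocalizedModule (Submonoid.powers r) f :=
    (isLocalizedModule_iff_isLocalization).mpr inferInstance
  let e₁ : Localization (Submonoid.powers r) ≃ₐ[R] Rr :=
    IsLocalization.algEquiv (Submonoid.powers r) _ _
  let _ : Module (Localization (Submonoid.powers r)) Sr :=
    Module.compHom Sr (e₁ : Localization (Submonoid.powers r) →+* Rr)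
  have hsm : ∀ (c : Localization (Submonoid.powers r)) (x : Sr), c • x = e₁ c • x :=
    fun _ _ => rfl
  have : IsScalarTower R (Localization (Submonoid.powers r)) Sr := by
    refine ⟨fun a c x => ?_⟩
    rw [hsm, hsm, map_smul, smul_assoc]
  let e₂ : LocalizedModule (Submonoid.powers r) S ≃ₗ[R] Sr :=
    IsLocalizedModule.iso (Submonoid.powers r) f
  let e₃ : LocalizedModule (Submonoid.powers r) S ≃ₗ[Localization (Submonoid.powers r)] Sr :=
    e₂.extendScalarsOfIsLocalization (Submonoid.powers r) (Localization (Submonoid.powers r))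
  have : Module.Free (Localization (Submonoid.powers r)) Sr := Module.Free.of_equiv e₃
  let b := Module.Free.chooseBasis (Localization (Submonoid.powers r)) Sr
  exact Module.Free.of_basis (b.mapCoeffs e₁.toRingEquiv (fun c x => (hsm c x).symm))

end Algebra

section Geometry

open NormGlue

variable {X Y : Scheme.{u}} (π : X ⟶ Y)

/-- `Γ(X, π⁻¹V)` is a finite free `Γ(Y, V)`-module. -/
def IsFreeOver (V : Y.Opens) : Prop :=
  letI := (π.app V).hom.toAlgebra
  Module.Free Γ(Y, V) Γ(X, π ⁻¹ᵁ V) ∧ Module.Finite Γ(Y, V) Γ(X, π ⁻¹ᵁ V)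

/-- the rank of `Γ(X, π⁻¹V)` over `Γ(Y, V)` -/
noncomputable def rk (V : Y.Opens) : ℕ :=
  letI := (π.app V).hom.toAlgebra
  Module.finrank Γ(Y, V) Γ(X, π ⁻¹ᵁ V)

/-- the algebra norm of `Γ(X, π⁻¹V)` over `Γ(Y, V)` -/
noncomputable def normV (V : Y.Opens) : Γ(X, π ⁻¹ᵁ V) →* Γ(Y, V) :=
  letI := (π.app V).hom.toAlgebra
  Algebra.norm Γ(Y, V)

lemma normV_app {V : Y.Opens} (h : IsFreeOver π V) (g : Γ(Y, V)) :
    normV π V ((π.app V).hom g) = g ^ rk π V := by
  letI := (π.app V).hom.toAlgebra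
  haveI := h.1
  exact Algebra.norm_algebraMap g

lemma dvd_app_normV {V : Y.Opens} (h : IsFreeOver π V) (s : Γ(X, π ⁻¹ᵁ V)) :
    s ∣ (π.app V).hom (normV π V s) := by
  letI := (π.app V).hom.toAlgebra
  haveI := h.1
  haveI := h.2
  exact dvd_algebraMap_norm s

/-- compatibility of the norm with restriction to a basic open -/
lemma normV_res_basicOpen [IsAffineHom π] {V : Y.Opens} (hV : IsAffineOpen V)
    (h : IsFreeOver π V) (f : Γ(Y, V)) (s : Γ(X, π ⁻¹ᵁ V)) :
    resY (Y.basicOpen_le f) (normV π V s) =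
      normV π (Y.basicOpen f) (resX π (Y.basicOpen_le f) s) := by
  letI a1 : Algebra Γ(Y, V) Γ(X, π ⁻¹ᵁ V) := (π.app V).hom.toAlgebra
  letI a2 : Algebra Γ(Y, V) Γ(Y, Y.basicOpen f) := (resY (Y.basicOpen_le f)).toAlgebra
  letI a3 : Algebra Γ(X, π ⁻¹ᵁ V) Γ(X, π ⁻¹ᵁ (Y.basicOpen f)) :=
    (resX π (Y.basicOpen_le f)).toAlgebra
  letI a4 : Algebra Γ(Y, Y.basicOpen f) Γ(X, π ⁻¹ᵁ (Y.basicOpen f)) :=
    (π.app (Y.basicOpen f)).hom.toAlgebra
  letI a5 : Algebra Γ(Y, V) Γ(X, π ⁻¹ᵁ (Y.basicOpen f)) :=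
    ((π.app (Y.basicOpen f)).hom.comp (resY (Y.basicOpen_le f))).toAlgebra
  haveI t1 : IsScalarTower Γ(Y, V) Γ(Y, Y.basicOpen f) Γ(X, π ⁻¹ᵁ (Y.basicOpen f)) :=
    IsScalarTower.of_algebraMap_eq' rfl
  haveI t2 : IsScalarTower Γ(Y, V) Γ(X, π ⁻¹ᵁ V) Γ(X, π ⁻¹ᵁ (Y.basicOpen f)) := by
    refine IsScalarTower.of_algebraMap_eq' ?_
    ext g
    exact (resX_app π (Y.basicOpen_le f) g).symm
  haveI l1 : IsLocalization (Submonoid.powers f) Γ(Y, Y.basicOpen f) :=
    hV.isLocalization_of_eq_basicOpen f (homOfLE (Y.basicOpen_le f)) rfl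
  haveI l2 : IsLocalization (Algebra.algebraMapSubmonoid Γ(X, π ⁻¹ᵁ V) (Submonoid.powers f))
      Γ(X, π ⁻¹ᵁ (Y.basicOpen f)) := by
    rw [Algebra.algebraMapSubmonoid_powers]
    exact (hV.preimage π).isLocalization_of_eq_basicOpen ((π.app V).hom f)
      ((Opens.map π.base).map (homOfLE (Y.basicOpen_le f))) (Scheme.preimage_basicOpen π f)
  haveI := h.1
  haveI := h.2
  exact (Algebra.norm_localization Γ(Y, V) (Submonoid.powers f) s).symm

lemma normV_res_of_eq_basicOpen [IsAffineHom π] {V : Y.Opens} (hV : IsAffineOpen V)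
    (h : IsFreeOver π V) (f : Γ(Y, V)) (D : Y.Opens) (hD : D = Y.basicOpen f) (hDV : D ≤ V)
    (s : Γ(X, π ⁻¹ᵁ V)) :
    resY hDV (normV π V s) = normV π D (resX π hDV s) := by
  subst hD
  exact normV_res_basicOpen π hV h f s

/-- compatibility of the norm with restriction between affine opens over which `π` is free -/
lemma normV_res [IsAffineHom π] {V W : Y.Opens} (hV : IsAffineOpen V) (hW : IsAffineOpen W)
    (hfV : IsFreeOver π V) (hfW : IsFreeOver π W) (h : W ≤ V) (s : Γ(X, π ⁻¹ᵁ V)) :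
    resY h (normV π V s) = normV π W (resX π h s) := by
  refine Y.sheaf.eq_of_locally_eq'
    (fun f : {f : Γ(Y, V) // Y.basicOpen f ≤ W} => Y.basicOpen f.1) W
    (fun f => homOfLE f.2) ?_ _ _ (fun f => ?_)
  · intro y hy
    obtain ⟨f, hfW', hyf⟩ := hV.exists_basicOpen_le (V := W) ⟨y, hy⟩ (h hy)
    exact Opens.mem_iSup.mpr ⟨⟨f, hfW'⟩, hyf⟩
  · obtain ⟨f, hf⟩ := f
    have e1 : resY hf (resY h (normV π V s)) = resY (hf.trans h) (normV π V s) :=
      resY_resY h hf _
    have e2 := normV_res_of_eq_basicOpen π hV hfV f (Y.basicOpen f) rfl (hf.trans h) s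
    have hD : Y.basicOpen f = Y.basicOpen (resY h f) := by
      have := Y.basicOpen_res f (homOfLE h).op
      exact (this.trans (inf_eq_right.mpr hf)).symm
    have e3 := normV_res_of_eq_basicOpen π hW hfW (resY h f) (Y.basicOpen f) hD hf (resX π h s)
    have e4 : resX π hf (resX π h s) = resX π (hf.trans h) s := resX_resX π h hf s
    change resY hf (resY h (normV π V s)) = resY hf (normV π W (resX π h s))
    rw [e1, e2, e3, e4]

/-- the rank of `π` at a point of a free affine is the rank of the free module -/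
lemma finrank_eq_rk [IsFinite π] [Flat π] {V : Y.Opens} (hV : IsAffineOpen V)
    (h : IsFreeOver π V) (y : Y) (hy : y ∈ V) : π.finrank y = rk π V := by
  have hπV : IsAffineOpen (π ⁻¹ᵁ V) := hV.preimage π
  have hsq : IsPullback hπV.fromSpec (Spec.map (π.appLE V (π ⁻¹ᵁ V) le_rfl)) π hV.fromSpec := by
    refine (IsOpenImmersion.isPullback (Spec.map (π.appLE V (π ⁻¹ᵁ V) le_rfl))
      hπV.fromSpec hV.fromSpec π ?_ ?_).flip
    · exact (IsAffineOpen.SpecMap_appLE_fromSpec π hV hπV le_rfl).symm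
    · rw [hV.opensRange_fromSpec, hπV.opensRange_fromSpec]
  have hy' : hV.fromSpec (hV.primeIdealOf ⟨y, hy⟩) = y := hV.fromSpec_primeIdealOf ⟨y, hy⟩
  have h1 := Scheme.Hom.finrank_of_isPullback _ _ _ _ hsq (hV.primeIdealOf ⟨y, hy⟩)
  rw [hy'] at h1
  rw [← h1, ← Scheme.Hom.app_eq_appLE]
  have hfin : (π.app V).hom.Finite := π.finite_app V hV
  have hflat : (π.app V).hom.Flat := by
    have := π.flat_appLE hV hπV le_rfl
    rwa [← Scheme.Hom.app_eq_appLE] at this
  rw [Scheme.Hom.finrank_SpecMap_eq_finrank hfin hflat]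
  letI := (π.app V).hom.toAlgebra
  haveI := h.1
  change Module.rankAtStalk (R := Γ(Y, V)) Γ(X, π ⁻¹ᵁ V) _ = _
  rw [Module.rankAtStalk_eq_finrank_of_free]
  rfl

lemma mem_basicOpen_iff_notMem_primeIdealOf {U : Y.Opens} (hU : IsAffineOpen U) (x : U)
    (f : Γ(Y, U)) : (x : Y) ∈ Y.basicOpen f ↔ f ∉ (hU.primeIdealOf x).asIdeal := by
  have := hU.isLocalization_stalk x
  rw [Y.mem_basicOpen f x x.2]
  exact IsLocalization.AtPrime.isUnit_to_map_iff (Y.presheaf.stalk (x : Y))
    (hU.primeIdealOf x).asIdeal f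

/-- freeness over a basic open from freeness of the standard localization -/
lemma isFreeOver_basicOpen [IsFinite π] {V : Y.Opens} (hV : IsAffineOpen V) (f : Γ(Y, V))
    (h : letI := (π.app V).hom.toAlgebra
      Module.Free (Localization (Submonoid.powers f))
        (LocalizedModule (Submonoid.powers f) Γ(X, π ⁻¹ᵁ V))) :
    IsFreeOver π (Y.basicOpen f) := by
  refine ⟨?_, π.finite_app _ (hV.basicOpen f)⟩
  letI a1 : Algebra Γ(Y, V) Γ(X, π ⁻¹ᵁ V) := (π.app V).hom.toAlgebra
  letI a2 : Algebra Γ(Y, V) Γ(Y, Y.basicOpen f) := (resY (Y.basicOpen_le f)).toAlgebra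
  letI a3 : Algebra Γ(X, π ⁻¹ᵁ V) Γ(X, π ⁻¹ᵁ (Y.basicOpen f)) :=
    (resX π (Y.basicOpen_le f)).toAlgebra
  letI a4 : Algebra Γ(Y, Y.basicOpen f) Γ(X, π ⁻¹ᵁ (Y.basicOpen f)) :=
    (π.app (Y.basicOpen f)).hom.toAlgebra
  letI a5 : Algebra Γ(Y, V) Γ(X, π ⁻¹ᵁ (Y.basicOpen f)) :=
    ((π.app (Y.basicOpen f)).hom.comp (resY (Y.basicOpen_le f))).toAlgebra
  haveI t1 : IsScalarTower Γ(Y, V) Γ(Y, Y.basicOpen f) Γ(X, π ⁻¹ᵁ (Y.basicOpen f)) :=
    IsScalarTower.of_algebraMap_eq' rfl
  haveI t2 : IsScalarTower Γ(Y, V) Γ(X, π ⁻¹ᵁ V) Γ(X, π ⁻¹ᵁ (Y.basicOpen f)) := by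
    refine IsScalarTower.of_algebraMap_eq' ?_
    ext g
    exact (resX_app π (Y.basicOpen_le f) g).symm
  haveI l1 : IsLocalization.Away f Γ(Y, Y.basicOpen f) :=
    hV.isLocalization_of_eq_basicOpen f (homOfLE (Y.basicOpen_le f)) rfl
  haveI l2 : IsLocalization (Algebra.algebraMapSubmonoid Γ(X, π ⁻¹ᵁ V) (Submonoid.powers f))
      Γ(X, π ⁻¹ᵁ (Y.basicOpen f)) := by
    rw [Algebra.algebraMapSubmonoid_powers]
    exact (hV.preimage π).isLocalization_of_eq_basicOpen ((π.app V).hom f)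
      ((Opens.map π.base).map (homOfLE (Y.basicOpen_le f))) (Scheme.preimage_basicOpen π f)
  exact free_of_away f h

/-- the affine opens over which a finite locally free morphism is free form a basis -/
lemma isBasis_free [IsFinite π] [Flat π] [LocallyOfFinitePresentation π] :
    Opens.IsBasis {V : Y.Opens | IsAffineOpen V ∧ IsFreeOver π V} := by
  rw [Opens.isBasis_iff_nbhd]
  intro U y hy
  obtain ⟨_, ⟨V₀, hV₀, rfl⟩, hyV₀, hV₀U⟩ :=
    Y.isBasis_affineOpens.exists_subset_of_mem_open hy U.2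
  have hπV : IsAffineOpen (π ⁻¹ᵁ V₀) := hV₀.preimage π
  letI := (π.app V₀).hom.toAlgebra
  haveI hfin : Module.Finite Γ(Y, V₀) Γ(X, π ⁻¹ᵁ V₀) := π.finite_app V₀ hV₀
  haveI hflat : Module.Flat Γ(Y, V₀) Γ(X, π ⁻¹ᵁ V₀) := by
    have := π.flat_appLE hV₀ hπV le_rfl
    rwa [← Scheme.Hom.app_eq_appLE] at this
  haveI hfp : Algebra.FinitePresentation Γ(Y, V₀) Γ(X, π ⁻¹ᵁ V₀) := by
    have := π.finitePresentation_appLE hV₀ hπV le_rfl
    rwa [← Scheme.Hom.app_eq_appLE] at this
  haveI : Module.FinitePresentation Γ(Y, V₀) Γ(X, π ⁻¹ᵁ V₀) :=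
    Module.FinitePresentation.of_finite_of_finitePresentation _ _
  let p := (hV₀.primeIdealOf ⟨y, hyV₀⟩).asIdeal
  haveI : Module.Free (Localization.AtPrime p)
      (LocalizedModule p.primeCompl Γ(X, π ⁻¹ᵁ V₀)) := Module.free_of_flat_of_isLocalRing
  obtain ⟨r, hr, hfree, -⟩ := Module.FinitePresentation.exists_free_localizedModule_powers
    p.primeCompl (LocalizedModule.mkLinearMap p.primeCompl Γ(X, π ⁻¹ᵁ V₀))
    (Localization.AtPrime p)
  refine ⟨Y.basicOpen r, ⟨hV₀.basicOpen r, isFreeOver_basicOpen π hV₀ r hfree⟩, ?_,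
    (Y.basicOpen_le r).trans hV₀U⟩
  exact (mem_basicOpen_iff_notMem_primeIdealOf hV₀ ⟨y, hyV₀⟩ r).mpr hr

lemma subsingleton_of_not_nonempty (V : Y.Opens) (h : ¬ (V : Set Y).Nonempty) :
    Subsingleton Γ(Y, V) := by
  have hV : V = ⊥ := by
    ext y
    simp only [Opens.coe_bot, Set.mem_empty_iff_false, iff_false]
    exact fun hy => h ⟨y, hy⟩
  rw [hV]
  infer_instance

/-- A finite locally free morphism all of whose ranks divide `D ≥ 1` has a norm of degree `D`. -/
theorem hasNorm_of_dvd [IsFinite π] [Flat π] [LocallyOfFinitePresentation π] (D : ℕ) (hD : 1 ≤ D)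
    (h : ∀ y, π.finrank y ∣ D) : Nrm.HasNorm π D := by
  let B : Set Y.Opens := {V | IsAffineOpen V ∧ IsFreeOver π V}
  have hB : Opens.IsBasis B := isBasis_free π
  have hrk : ∀ (V : B) (y : Y), y ∈ V.1 → π.finrank y = rk π V.1 :=
    fun V y hy => finrank_eq_rk π V.2.1 V.2.2 y hy
  have hdvd : ∀ (V : B), (V.1 : Set Y).Nonempty → rk π V.1 ∣ D := by
    rintro V ⟨y, hy⟩
    rw [← hrk V y hy]
    exact h y
  let L : LocalNorm π D B :=
    { N := fun V => (normV π V.1) ^ (D / rk π V.1)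
      res := by
        intro V W hWV s
        by_cases hne : (W.1 : Set Y).Nonempty
        · obtain ⟨y, hy⟩ := hne
          have e : rk π V.1 = rk π W.1 := (hrk V y (hWV hy)).symm.trans (hrk W y hy)
          rw [MonoidHom.pow_apply, MonoidHom.pow_apply, map_pow,
            normV_res π V.2.1 W.2.1 V.2.2 W.2.2 hWV s, e]
        · have := subsingleton_of_not_nonempty W.1 hne
          exact Subsingleton.elim _ _
      app := by
        intro V g
        by_cases hne : (V.1 : Set Y).Nonempty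
        · rw [MonoidHom.pow_apply, normV_app π V.2.2, ← pow_mul,
            Nat.mul_div_cancel' (hdvd V hne)]
        · have := subsingleton_of_not_nonempty V.1 hne
          exact Subsingleton.elim _ _
      mem := by
        intro V s x hx hs
        have hne : (V.1 : Set Y).Nonempty := ⟨_, hx⟩
        have hk : 1 ≤ D / rk π V.1 :=
          Nat.div_pos (Nat.le_of_dvd hD (hdvd V hne)) (Nat.pos_of_dvd_of_pos (hdvd V hne) hD)
        rw [MonoidHom.pow_apply, map_pow]
        refine Ideal.pow_mem_of_mem _ ?_ _ hk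
        rw [IsLocalRing.mem_maximalIdeal, mem_nonunits_iff] at hs ⊢
        intro hu
        apply hs
        have h1 : π.base x ∈ Y.basicOpen (normV π V.1 s) := (Y.mem_basicOpen _ _ hx).mpr hu
        have h2 : x ∈ π ⁻¹ᵁ Y.basicOpen (normV π V.1 s) := h1
        rw [Scheme.preimage_basicOpen] at h2
        obtain ⟨t, ht⟩ := dvd_app_normV π V.2.2 s
        change x ∈ X.basicOpen ((π.app V.1).hom (normV π V.1 s)) at h2
        rw [ht, Scheme.basicOpen_mul] at h2
        exact (Scheme.mem_basicOpen _ _ x hx).mp h2.1 }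
  exact L.hasNorm hB hD

end Geometry

end NormFree

end Groth.Agent.Lib.Helper45
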