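import Groth.Prelude.Def_Fitting
import Mathlib.Topology.Sheaves.SheafCondition.UniqueGluing

/-!
# Gluing norms from a basis of opens

`hasNorm_of_basis`: to construct a norm of degree `d` for `π : X ⟶ Y` (`Nrm.NormOfDegree`) it suffices
to give multiplicative maps `N_V : Γ(X, π⁻¹V) →* Γ(Y, V)` for `V` in a basis `B` of opens of `Y`,
compatible with restriction between members of `B`, with `N_V (π♯ g) = g ^ d` and the vanishing property.
-/

set_option autoImplicit false
universe u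
open CategoryTheory AlgebraicGeometry TopologicalSpace Opposite

namespace Groth.Agent.Lib.Helper45

namespace NormGlue

variable {X Y : Scheme.{u}} (π : X ⟶ Y)

/-- restriction of sections of `X` over preimages -/
noncomputable abbrev resX {U V : Y.Opens} (h : V ≤ U) : Γ(X, π ⁻¹ᵁ U) →+* Γ(X, π ⁻¹ᵁ V) :=
  (X.presheaf.map ((Opens.map π.base).map (homOfLE h)).op).hom

/-- restriction of sections of `Y` -/
noncomputable abbrev resY {U V : Y.Opens} (h : V ≤ U) : Γ(Y, U) →+* Γ(Y, V) :=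
  (Y.presheaf.map (homOfLE h).op).hom

lemma resY_resY {U V W : Y.Opens} (h : V ≤ U) (h' : W ≤ V) (t : Γ(Y, U)) :
    resY h' (resY h t) = resY (h'.trans h) t := by
  simp only [resY]
  rw [← CommRingCat.comp_apply, ← Functor.map_comp]
  rfl

lemma resX_resX {U V W : Y.Opens} (h : V ≤ U) (h' : W ≤ V) (t : Γ(X, π ⁻¹ᵁ U)) :
    resX π h' (resX π h t) = resX π (h'.trans h) t := by
  simp only [resX]
  rw [← CommRingCat.comp_apply, ← Functor.map_comp]
  rfl

lemma resX_app {U V : Y.Opens} (h : V ≤ U) (g : Γ(Y, U)) :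
    resX π h (π.app U g) = π.app V (resY h g) := by
  simp only [resX, resY]
  rw [← CommRingCat.comp_apply, ← CommRingCat.comp_apply]
  congr 2
  exact (π.naturality (homOfLE h).op).symm

/-- two sections of `O_Y` over `U` agreeing on all members of a basis contained in `U` are equal -/
lemma eq_of_basis {B : Set Y.Opens} (hB : Opens.IsBasis B) {U : Y.Opens} (s t : Γ(Y, U))
    (h : ∀ V : B, ∀ hV : V.1 ≤ U, resY hV s = resY hV t) : s = t := by
  refine Y.sheaf.eq_of_locally_eq' (fun V : {V : B // V.1 ≤ U} => V.1.1) U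
    (fun V => homOfLE V.2) ?_ s t (fun V => h V.1 V.2)
  intro y hy
  obtain ⟨V, hVB, hyV, hVU⟩ := (Opens.isBasis_iff_nbhd.mp hB) hy
  exact Opens.mem_iSup.mpr ⟨⟨⟨V, hVB⟩, hVU⟩, hyV⟩

end NormGlue

open NormGlue

/-- local norm data on a basis of opens -/
structure LocalNorm {X Y : Scheme.{u}} (π : X ⟶ Y) (d : ℕ) (B : Set Y.Opens) where
  /-- the norm maps on members of the basis -/
  N : ∀ V : B, Γ(X, π ⁻¹ᵁ V.1) →* Γ(Y, V.1)
  res : ∀ (V W : B) (h : W.1 ≤ V.1) (s : Γ(X, π ⁻¹ᵁ V.1)), resY h (N V s) = N W (resX π h s)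
  app : ∀ (V : B) (g : Γ(Y, V.1)), N V (π.app V.1 g) = g ^ d
  mem : ∀ (V : B) (s : Γ(X, π ⁻¹ᵁ V.1)) (x : X) (hx : π.base x ∈ V.1),
    X.presheaf.germ (π ⁻¹ᵁ V.1) x hx s ∈ IsLocalRing.maximalIdeal (X.presheaf.stalk x) →
      Y.presheaf.germ V.1 (π.base x) hx (N V s) ∈
        IsLocalRing.maximalIdeal (Y.presheaf.stalk (π.base x))

namespace LocalNorm

variable {X Y : Scheme.{u}} {π : X ⟶ Y} {d : ℕ} {B : Set Y.Opens} (L : LocalNorm π d B)

/-- the glued section -/
lemma exists_glue (hB : Opens.IsBasis B) (U : Y.Opens) (s : Γ(X, π ⁻¹ᵁ U)) :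
    ∃ t : Γ(Y, U), ∀ V : B, ∀ hV : V.1 ≤ U, resY hV t = L.N V (resX π hV s) := by
  let ι := {V : B // V.1 ≤ U}
  let sf : ∀ V : ι, Γ(Y, V.1.1) := fun V => L.N V.1 (resX π V.2 s)
  have hcompat : TopCat.Presheaf.IsCompatible Y.sheaf.1 (fun V : ι => V.1.1) sf := by
    intro V V'
    refine eq_of_basis hB _ _ (fun W hW => ?_)
    have hWV : W.1 ≤ V.1.1 := hW.trans inf_le_left
    have hWV' : W.1 ≤ V'.1.1 := hW.trans inf_le_right
    have e1 : resY hW ((Y.presheaf.map (Opens.infLELeft V.1.1 V'.1.1).op).hom (sf V)) =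
        resY hWV (sf V) := resY_resY inf_le_left hW (sf V)
    have e2 : resY hW ((Y.presheaf.map (Opens.infLERight V.1.1 V'.1.1).op).hom (sf V')) =
        resY hWV' (sf V') := resY_resY inf_le_right hW (sf V')
    refine e1.trans (Eq.trans ?_ e2.symm)
    simp only [sf]
    rw [L.res V.1 W hWV, L.res V'.1 W hWV', resX_resX, resX_resX]
  obtain ⟨t, ht, -⟩ := Y.sheaf.existsUnique_gluing' (fun V : ι => V.1.1) U
    (fun V => homOfLE V.2) (by
      intro y hy
      obtain ⟨V, hVB, hyV, hVU⟩ := (Opens.isBasis_iff_nbhd.mp hB) hy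
      exact Opens.mem_iSup.mpr ⟨⟨⟨V, hVB⟩, hVU⟩, hyV⟩) sf hcompat
  exact ⟨t, fun V hV => ht ⟨V, hV⟩⟩

/-- the glued norm as a function -/
noncomputable def glueFun (hB : Opens.IsBasis B) (U : Y.Opens) (s : Γ(X, π ⁻¹ᵁ U)) : Γ(Y, U) :=
  (L.exists_glue hB U s).choose

lemma glueFun_spec (hB : Opens.IsBasis B) (U : Y.Opens) (s : Γ(X, π ⁻¹ᵁ U)) (V : B)
    (hV : V.1 ≤ U) : resY hV (L.glueFun hB U s) = L.N V (resX π hV s) :=
  (L.exists_glue hB U s).choose_spec V hV

lemma glueFun_eq (hB : Opens.IsBasis B) (U : Y.Opens) (s : Γ(X, π ⁻¹ᵁ U)) (t : Γ(Y, U))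
    (ht : ∀ V : B, ∀ hV : V.1 ≤ U, resY hV t = L.N V (resX π hV s)) :
    L.glueFun hB U s = t :=
  eq_of_basis hB _ _ (fun V hV => (L.glueFun_spec hB U s V hV).trans (ht V hV).symm)

/-- the glued norm -/
noncomputable def glue (hB : Opens.IsBasis B) (U : Y.Opens) : Γ(X, π ⁻¹ᵁ U) →* Γ(Y, U) where
  toFun := L.glueFun hB U
  map_one' := L.glueFun_eq hB U 1 1 (fun V hV => by rw [map_one, map_one, map_one])
  map_mul' s t := L.glueFun_eq hB U (s * t) _ (fun V hV => by
    rw [map_mul, map_mul, map_mul, L.glueFun_spec, L.glueFun_spec])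

/-- the norm of degree `d` obtained by gluing -/
noncomputable def normOfDegree (hB : Opens.IsBasis B) (hd : 1 ≤ d) : Nrm.NormOfDegree π d where
  one_le := hd
  norm := L.glue hB
  norm_res := by
    intro U V i s
    symm
    refine L.glueFun_eq hB V _ _ (fun W hW => ?_)
    have h1 : resY hW ((Y.presheaf.map i.op).hom (L.glueFun hB U s)) =
        resY (hW.trans i.le) (L.glueFun hB U s) := resY_resY i.le hW _
    have h2 : resX π hW ((X.presheaf.map ((Opens.map π.base).map i).op).hom s) =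
        resX π (hW.trans i.le) s := resX_resX π i.le hW s
    exact h1.trans ((L.glueFun_spec hB U s W _).trans (congrArg _ h2.symm))
  norm_app := by
    intro U g
    refine L.glueFun_eq hB U _ _ (fun V hV => ?_)
    rw [map_pow, resX_app, L.app]
  norm_mem := by
    intro U s x hx hs
    obtain ⟨V, hVB, hxV, hVU⟩ := (Opens.isBasis_iff_nbhd.mp hB) hx
    have h1 := L.mem ⟨V, hVB⟩ (resX π hVU s) x hxV (by
      have : X.presheaf.germ (π ⁻¹ᵁ V) x hxV (resX π hVU s) =
          X.presheaf.germ (π ⁻¹ᵁ U) x hx s :=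
        TopCat.Presheaf.germ_res_apply X.presheaf ((Opens.map π.base).map (homOfLE hVU)) x hxV s
      rw [this]
      exact hs)
    rw [← L.glueFun_spec hB U s ⟨V, hVB⟩ hVU] at h1
    have h2 : Y.presheaf.germ V (π.base x) hxV (resY hVU (L.glueFun hB U s)) =
        Y.presheaf.germ U (π.base x) hx (L.glueFun hB U s) :=
      TopCat.Presheaf.germ_res_apply Y.presheaf (homOfLE hVU) (π.base x) hxV _
    rw [h2] at h1
    exact h1

include L in
theorem hasNorm (hB : Opens.IsBasis B) (hd : 1 ≤ d) : Nrm.HasNorm π d :=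
  ⟨L.normOfDegree hB hd⟩

end LocalNorm

end Groth.Agent.Lib.Helper45
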