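import Groth.Agent.Lib.Helper45.NormGlue
import Mathlib.AlgebraicGeometry.FunctionField
import Mathlib.AlgebraicGeometry.Morphisms.Finite
import Mathlib.RingTheory.Norm.Transitivity
import Mathlib.FieldTheory.Minpoly.IsIntegrallyClosed
import Mathlib.RingTheory.Localization.Finiteness
import Mathlib.RingTheory.Algebraic.Integral
import Mathlib.RingTheory.LocalProperties.IntegrallyClosed

/-!
# Norms for finite surjective morphisms onto normal integral schemes
-/

set_option autoImplicit false
universe u
open CategoryTheory AlgebraicGeometry TopologicalSpace Opposite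

namespace Groth.Agent.Lib.Helper45

namespace NormNormal

section Algebra

open IntermediateField in
/-- The norm of the fraction fields restricts to an integral extension of an integrally closed
domain (the upper ring need not be integrally closed). -/
lemma exists_intNorm (A K L B : Type*) [CommRing A] [IsDomain A] [IsIntegrallyClosed A] [Field K]
    [Field L] [Algebra A K] [IsFractionRing A K] [Algebra K L] [FiniteDimensional K L]
    [CommRing B] [Algebra A B] [Algebra B L] [Algebra A L] [IsScalarTower A K L]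
    [IsScalarTower A B L] [Algebra.IsIntegral A B]
    (hinj : Function.Injective (algebraMap B L)) :
    ∃ N : B →* A, (∀ b, algebraMap A K (N b) = Algebra.norm K (algebraMap B L b)) ∧
      (∀ b, b ∣ algebraMap A B (N b)) ∧ (∀ a, N (algebraMap A B a) = a ^ Module.finrank K L) := by
  have hint : ∀ b : B, IsIntegral A (algebraMap B L b) := fun b =>
    (Algebra.IsIntegral.isIntegral b).map (IsScalarTower.toAlgHom A B L)
  have hex : ∀ b : B, ∃ a : A, algebraMap A K a = Algebra.norm K (algebraMap B L b) := fun b =>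
    IsIntegrallyClosed.isIntegral_iff.mp (Algebra.isIntegral_norm K (hint b))
  choose N hN using hex
  have hAK : Function.Injective (algebraMap A K) := IsFractionRing.injective A K
  refine ⟨⟨⟨N, ?_⟩, ?_⟩, hN, ?_, ?_⟩
  · apply hAK
    rw [hN, map_one, map_one, map_one]
  · intro b c
    apply hAK
    rw [hN, map_mul, map_mul, map_mul, hN, hN]
  · intro b
    change b ∣ algebraMap A B (N b)
    set x := algebraMap B L b with hx
    have hxA : IsIntegral A x := hint b
    have hxK : IsIntegral K x := hxA.tower_top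
    have e1 : minpoly K x = (minpoly A x).map (algebraMap A K) :=
      minpoly.isIntegrallyClosed_eq_field_fractions' K hxA
    have e2 : Algebra.norm K x = Algebra.norm K (AdjoinSimple.gen K x) ^ Module.finrank K⟮x⟯ L :=
      Algebra.norm_eq_norm_adjoin K x
    have e3 : Algebra.norm K (AdjoinSimple.gen K x) =
        (-1) ^ (adjoin.powerBasis hxK).dim * (minpoly K x).coeff 0 := by
      have := Algebra.PowerBasis.norm_gen_eq_coeff_zero_minpoly (adjoin.powerBasis hxK)
      rw [adjoin.powerBasis_gen, minpoly_gen] at this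
      exact this
    set k := Module.finrank K⟮x⟯ L with hk
    have hk1 : k ≠ 0 := by
      have : 0 < k := Module.finrank_pos
      omega
    set c := (minpoly A x).coeff 0 with hc
    set n := (adjoin.powerBasis hxK).dim with hn
    have e4 : N b = ((-1) ^ n * c) ^ k := by
      apply hAK
      rw [hN, ← hx, e2, e3, e1, Polynomial.coeff_map, map_pow, map_mul, map_pow, map_neg, map_one]
    -- b divides c in B
    have h0 : Polynomial.aeval b (minpoly A x) = 0 := by
      apply hinj
      rw [map_zero, ← Polynomial.aeval_algebraMap_apply, ← hx, minpoly.aeval]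
    have h3 : b ∣ algebraMap A B c := by
      have h4 := Polynomial.X_mul_divX_add (minpoly A x)
      have h5 := congrArg (Polynomial.aeval b) h4
      rw [h0, map_add, map_mul, Polynomial.aeval_X, Polynomial.aeval_C] at h5
      refine ⟨-(Polynomial.aeval b (minpoly A x).divX), ?_⟩
      rw [mul_neg]
      exact eq_neg_of_add_eq_zero_right h5
    rw [e4, map_pow, map_mul]
    exact h3.trans ((dvd_mul_left _ _).trans (dvd_pow_self _ hk1))
  · intro a
    change N (algebraMap A B a) = a ^ Module.finrank K L
    apply hAK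
    rw [hN, ← IsScalarTower.algebraMap_apply, IsScalarTower.algebraMap_apply A K L,
      Algebra.norm_algebraMap, map_pow]

end Algebra

section Geometry

open NormGlue

variable {X Y : Scheme.{u}} (π : X ⟶ Y) [IsIntegral X] [IsIntegral Y]

lemma map_genericPoint [Surjective π] : π.base (genericPoint X) = genericPoint Y := by
  have h1 := (genericPoint_spec X).image π.continuous
  rw [Set.image_univ, π.surjective.denseRange.closure_range] at h1
  exact ((genericPoint_spec Y).eq h1).symm

/-- the map of function fields induced by a dominant morphism -/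
noncomputable def ffMap (h : π.base (genericPoint X) = genericPoint Y) :
    Y.functionField ⟶ X.functionField :=
  Y.presheaf.stalkSpecializes (specializes_of_eq h) ≫ π.stalkMap (genericPoint X)

lemma ffMap_germ (h : π.base (genericPoint X) = genericPoint Y) (V : Y.Opens)
    (hV : genericPoint Y ∈ V) (hX : genericPoint X ∈ π ⁻¹ᵁ V) (g : Γ(Y, V)) :
    (ffMap π h).hom (Y.presheaf.germ V (genericPoint Y) hV g) =
      X.presheaf.germ (π ⁻¹ᵁ V) (genericPoint X) hX ((π.app V).hom g) := by
  unfold ffMap
  rw [CommRingCat.hom_comp, RingHom.comp_apply]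
  have h1 := TopCat.Presheaf.germ_stalkSpecializes Y.presheaf hV (specializes_of_eq h)
  have h2 : (Y.presheaf.stalkSpecializes (specializes_of_eq h)).hom
      (Y.presheaf.germ V (genericPoint Y) hV g) =
      Y.presheaf.germ V (π.base (genericPoint X)) hX g := by
    rw [← h1]
    rfl
  rw [h2]
  exact Scheme.Hom.germ_stalkMap_apply π V (genericPoint X) hX g

/-- the norm of the function fields -/
noncomputable def ffNorm (h : π.base (genericPoint X) = genericPoint Y) :
    X.functionField →* Y.functionField :=
  letI := (ffMap π h).hom.toAlgebra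
  Algebra.norm Y.functionField

/-- the degree of the function field extension -/
noncomputable def ffDeg (h : π.base (genericPoint X) = genericPoint Y) : ℕ :=
  letI := (ffMap π h).hom.toAlgebra
  Module.finrank Y.functionField X.functionField

omit [IsIntegral Y] in
lemma isIntegrallyClosed_of_isNormal (hY : ∀ y : Y, IsIntegrallyClosed (Y.presheaf.stalk y))
    {V : Y.Opens} (hV : IsAffineOpen V) [IsDomain Γ(Y, V)] : IsIntegrallyClosed Γ(Y, V) := by
  exact @IsIntegrallyClosed.of_isLocalization_maximal Γ(Y, V) _
    (fun P hP => Y.presheaf.stalk (hV.fromSpec ⟨P, hP.isPrime⟩)) (fun P hP => inferInstance)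
    (fun P hP => TopCat.Presheaf.algebra_section_stalk Y.presheaf _)
    (fun P hP => hV.isLocalization_stalk' ⟨P, hP.isPrime⟩ (hV.isoSpec.inv _).2) _
    (fun P hP => hY _)

/-- the local norm over a nonempty affine open, together with finiteness of the function field
extension -/
lemma exists_localNorm [IsFinite π] (h : π.base (genericPoint X) = genericPoint Y)
    (hY : ∀ y : Y, IsIntegrallyClosed (Y.presheaf.stalk y)) {V : Y.Opens} (hV : IsAffineOpen V)
    (hηV : genericPoint Y ∈ V) (hηX : genericPoint X ∈ π ⁻¹ᵁ V) :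
    1 ≤ ffDeg π h ∧ ∃ N : Γ(X, π ⁻¹ᵁ V) →* Γ(Y, V),
      (∀ s, Y.presheaf.germ V (genericPoint Y) hηV (N s) =
        ffNorm π h (X.presheaf.germ (π ⁻¹ᵁ V) (genericPoint X) hηX s)) ∧
      (∀ s, s ∣ (π.app V).hom (N s)) ∧ (∀ g, N ((π.app V).hom g) = g ^ ffDeg π h) := by
  haveI : Nonempty V := ⟨⟨_, hηV⟩⟩
  haveI : Nonempty (π ⁻¹ᵁ V) := ⟨⟨_, hηX⟩⟩
  letI a1 : Algebra Γ(Y, V) Γ(X, π ⁻¹ᵁ V) := (π.app V).hom.toAlgebra
  letI a2 : Algebra Y.functionField X.functionField := (ffMap π h).hom.toAlgebra
  letI a3 : Algebra Γ(Y, V) X.functionField :=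
    ((algebraMap Γ(X, π ⁻¹ᵁ V) X.functionField).comp (algebraMap Γ(Y, V) Γ(X, π ⁻¹ᵁ V))).toAlgebra
  haveI t1 : IsScalarTower Γ(Y, V) Γ(X, π ⁻¹ᵁ V) X.functionField :=
    IsScalarTower.of_algebraMap_eq' rfl
  haveI t2 : IsScalarTower Γ(Y, V) Y.functionField X.functionField := by
    refine IsScalarTower.of_algebraMap_eq' ?_
    ext g
    exact (ffMap_germ π h V hηV hηX g).symm
  haveI f1 : IsFractionRing Γ(Y, V) Y.functionField :=
    functionField_isFractionRing_of_isAffineOpen Y V hV
  haveI f2 : IsFractionRing Γ(X, π ⁻¹ᵁ V) X.functionField :=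
    functionField_isFractionRing_of_isAffineOpen X (π ⁻¹ᵁ V) (hV.preimage π)
  haveI : IsIntegrallyClosed Γ(Y, V) := isIntegrallyClosed_of_isNormal hY hV
  haveI hfin : Module.Finite Γ(Y, V) Γ(X, π ⁻¹ᵁ V) := π.finite_app V hV
  have hinjB : Function.Injective (algebraMap Γ(X, π ⁻¹ᵁ V) X.functionField) :=
    IsFractionRing.injective _ _
  have hinjA : Function.Injective (algebraMap Γ(Y, V) Γ(X, π ⁻¹ᵁ V)) := by
    have h1 : Function.Injective (algebraMap Γ(Y, V) X.functionField) := by
      rw [IsScalarTower.algebraMap_eq Γ(Y, V) Y.functionField X.functionField]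
      exact (algebraMap Y.functionField X.functionField).injective.comp
        (IsFractionRing.injective _ _)
    rw [IsScalarTower.algebraMap_eq Γ(Y, V) Γ(X, π ⁻¹ᵁ V) X.functionField] at h1
    exact Function.Injective.of_comp h1
  haveI : FaithfulSMul Γ(Y, V) Γ(X, π ⁻¹ᵁ V) := (faithfulSMul_iff_algebraMap_injective _ _).mpr hinjA
  haveI : Module.Finite Y.functionField X.functionField :=
    Module.Finite.of_isLocalization Γ(Y, V) Γ(X, π ⁻¹ᵁ V) (nonZeroDivisors Γ(Y, V))
  refine ⟨Module.finrank_pos, ?_⟩
  obtain ⟨N, h1, h2, h3⟩ := exists_intNorm Γ(Y, V) Y.functionField X.functionField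
    Γ(X, π ⁻¹ᵁ V) hinjB
  exact ⟨N, h1, h2, h3⟩

/-- A finite surjective morphism of integral schemes with normal target has a norm. -/
theorem hasNorm_of_normal [IsFinite π] [Surjective π]
    (hY : ∀ y : Y, IsIntegrallyClosed (Y.presheaf.stalk y)) : ∃ d : ℕ, Nrm.HasNorm π d := by
  have h := map_genericPoint π
  let B : Set Y.Opens := {V | IsAffineOpen V ∧ (V : Set Y).Nonempty}
  have hB : Opens.IsBasis B := by
    rw [Opens.isBasis_iff_nbhd]
    intro U y hy
    obtain ⟨_, ⟨V, hV, rfl⟩, hyV, hVU⟩ :=
      Y.isBasis_affineOpens.exists_subset_of_mem_open hy U.2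
    exact ⟨V, ⟨hV, ⟨y, hyV⟩⟩, hyV, hVU⟩
  have hη : ∀ V : B, genericPoint Y ∈ V.1 := fun V =>
    ((genericPoint_spec Y).mem_open_set_iff V.1.2).mpr (by simpa using V.2.2)
  have hηX : ∀ V : B, genericPoint X ∈ π ⁻¹ᵁ V.1 := fun V => by
    change π.base (genericPoint X) ∈ V.1
    rw [h]
    exact hη V
  have hd : 1 ≤ ffDeg π h := by
    have hmem : genericPoint Y ∈ (⊤ : Y.Opens) := trivial
    obtain ⟨V, hVB, -, -⟩ := (Opens.isBasis_iff_nbhd.mp hB) hmem
    exact (exists_localNorm π h hY hVB.1 (hη ⟨V, hVB⟩) (hηX ⟨V, hVB⟩)).1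
  choose N hN1 hN2 hN3 using fun V : B => (exists_localNorm π h hY V.2.1 (hη V) (hηX V)).2
  refine ⟨ffDeg π h, ?_⟩
  let L : LocalNorm π (ffDeg π h) B :=
    { N := N
      res := by
        intro V W hWV s
        apply germ_injective_of_isIntegral Y (genericPoint Y) (hη W)
        have e1 : Y.presheaf.germ W.1 (genericPoint Y) (hη W) (resY hWV (N V s)) =
            Y.presheaf.germ V.1 (genericPoint Y) (hη V) (N V s) :=
          TopCat.Presheaf.germ_res_apply Y.presheaf (homOfLE hWV) (genericPoint Y) (hη W) _
        have e2 : X.presheaf.germ (π ⁻¹ᵁ W.1) (genericPoint X) (hηX W) (resX π hWV s) =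
            X.presheaf.germ (π ⁻¹ᵁ V.1) (genericPoint X) (hηX V) s :=
          TopCat.Presheaf.germ_res_apply X.presheaf ((Opens.map π.base).map (homOfLE hWV))
            (genericPoint X) (hηX W) s
        rw [e1, hN1, hN1, e2]
      app := fun V g => hN3 V g
      mem := by
        intro V s x hx hs
        rw [IsLocalRing.mem_maximalIdeal, mem_nonunits_iff] at hs ⊢
        intro hu
        apply hs
        have h1 : π.base x ∈ Y.basicOpen (N V s) := (Y.mem_basicOpen _ _ hx).mpr hu
        have h2 : x ∈ π ⁻¹ᵁ Y.basicOpen (N V s) := h1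
        rw [Scheme.preimage_basicOpen] at h2
        obtain ⟨t, ht⟩ := hN2 V s
        change x ∈ X.basicOpen ((π.app V.1).hom (N V s)) at h2
        rw [ht, Scheme.basicOpen_mul] at h2
        exact (Scheme.mem_basicOpen _ _ x hx).mp h2.1 }
  exact L.hasNorm hB hd

end Geometry

end NormNormal

end Groth.Agent.Lib.Helper45
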