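import Mathlib
import Groth.Agent.Lib.Helper45.LocFactorial

/-!
# Tools on prime divisors of normal schemes

Shared library of helper45 (namespace `Groth.Agent.Lib.Helper45.PrimeDivisors`).

* `ord_zpow`, `ord_prod_zpow`: orders of powers and of finite products of rational functions.
* `ord_eq_of_span_eq_pow`: a generator of `𝔪_y ^ n` at a codimension one point has order `n`.
* `exists_section_of_forall_mem_stalk`: a rational function regular at all points is a global
  function.
* `exists_generator_comap_maximalIdeal'`: variant of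
  `LocFactorial.exists_generator_comap_maximalIdeal` recording the generator.
* `isUnit_of_forall_ord_eq_zero`: a germ of order zero at all codimension one generizations is a
  unit.
-/

set_option autoImplicit false
set_option linter.style.haveILetI false
universe u
open CategoryTheory CategoryTheory.Limits AlgebraicGeometry TopologicalSpace

namespace Groth.Agent.Lib.Helper45.PrimeDivisors

open Groth.Agent.Lib.Helper45 Groth.Agent.Lib.Helper49

variable {X : Scheme.{u}} [IsIntegral X] [IsLocallyNoetherian X]

theorem ord_pow (f : X.functionField) (hf : f ≠ 0) (n : ℕ) (x : X) :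
    Scheme.ord (f ^ n) x = n * Scheme.ord f x := by
  induction n with
  | zero => rw [pow_zero, Ref1Group.ord_one]; simp
  | succ k ih =>
    rw [pow_succ, Scheme.ord_mul (pow_ne_zero k hf) hf, ih]
    push_cast
    ring

theorem ord_zpow (f : X.functionField) (hf : f ≠ 0) (n : ℤ) (x : X) :
    Scheme.ord (f ^ n) x = n * Scheme.ord f x := by
  cases n with
  | ofNat k =>
    rw [Int.ofNat_eq_natCast, zpow_natCast, ord_pow f hf]
  | negSucc k =>
    rw [zpow_negSucc, Ref1Group.ord_inv _ (pow_ne_zero _ hf), ord_pow f hf, Int.negSucc_eq]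
    push_cast
    ring

theorem ord_prod_zpow {ι : Type*} (T : Finset ι) (a : ι → X.functionField)
    (ha : ∀ i ∈ T, a i ≠ 0) (n : ι → ℤ) (x : X) :
    Scheme.ord (∏ i ∈ T, a i ^ n i) x = ∑ i ∈ T, n i * Scheme.ord (a i) x := by
  classical
  induction T using Finset.induction_on with
  | empty => rw [Finset.prod_empty, Finset.sum_empty, Ref1Group.ord_one]
  | insert i T hi ih =>
    have hai : a i ≠ 0 := ha i (Finset.mem_insert_self i T)
    have haT : ∀ j ∈ T, a j ≠ 0 := fun j hj => ha j (Finset.mem_insert_of_mem hj)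
    have hprod : ∏ j ∈ T, a j ^ n j ≠ 0 :=
      Finset.prod_ne_zero_iff.mpr fun j hj => zpow_ne_zero _ (haT j hj)
    rw [Finset.prod_insert hi, Finset.sum_insert hi,
      Scheme.ord_mul (zpow_ne_zero _ hai) hprod, ord_zpow _ hai, ih haT]

omit [IsLocallyNoetherian X] in
theorem prod_zpow_ne_zero {ι : Type*} (T : Finset ι) (a : ι → X.functionField)
    (ha : ∀ i ∈ T, a i ≠ 0) (n : ι → ℤ) : ∏ i ∈ T, a i ^ n i ≠ 0 :=
  Finset.prod_ne_zero_iff.mpr fun j hj => zpow_ne_zero _ (ha j hj)

/-- A generator of `𝔪_y ^ n` has order `n`. -/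
theorem ord_eq_of_span_eq_pow (hX : Pi1.IsNormalScheme X) {y : X} (hy : Order.coheight y = 1)
    (a : X.presheaf.stalk y) (n : ℕ)
    (h : Ideal.span {a} = IsLocalRing.maximalIdeal (X.presheaf.stalk y) ^ n) :
    Scheme.ord (algebraMap (X.presheaf.stalk y) X.functionField a) y = n := by
  obtain ⟨g, hg0, hg, hord⟩ := DivIdealMod.exists_generator_pow hX y hy n
  rw [hg, Ideal.span_singleton_eq_span_singleton] at h
  obtain ⟨u, hu⟩ := h
  have huK : algebraMap (X.presheaf.stalk y) X.functionField (u : X.presheaf.stalk y) ≠ 0 := by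
    rw [Ne, map_eq_zero_iff _ (IsFractionRing.injective _ _)]
    exact u.ne_zero
  have hgK : algebraMap (X.presheaf.stalk y) X.functionField g ≠ 0 := by
    rw [Ne, map_eq_zero_iff _ (IsFractionRing.injective _ _)]
    exact hg0
  have hau : a * (u : X.presheaf.stalk y) = g := hu
  have h1 : algebraMap (X.presheaf.stalk y) X.functionField a =
      algebraMap (X.presheaf.stalk y) X.functionField g *
        (algebraMap (X.presheaf.stalk y) X.functionField (u : X.presheaf.stalk y))⁻¹ := by
    rw [← hau, map_mul, mul_assoc, mul_inv_cancel₀ huK, mul_one]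
  rw [h1, Scheme.ord_mul hgK (inv_ne_zero huK), Ref1Group.ord_inv _ huK, hord,
    (LocFactorial.isUnit_iff_ord_eq_zero hX hy _ u.ne_zero).mp u.isUnit]
  simp

omit [IsLocallyNoetherian X] in
theorem nonempty_top : Nonempty ((⊤ : X.Opens) : Type u) := ⟨⟨genericPoint X, trivial⟩⟩

omit [IsLocallyNoetherian X] in
/-- A rational function which is regular at every point is a global function. -/
theorem exists_section_of_forall_mem_stalk (γ : X.functionField)
    (h : ∀ x : X, ∃ a : X.presheaf.stalk x,
      algebraMap (X.presheaf.stalk x) X.functionField a = γ) :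
    haveI := nonempty_top (X := X)
    ∃ g : Γ(X, ⊤), X.germToFunctionField ⊤ g = γ := by
  haveI := nonempty_top (X := X)
  have hloc : ∀ x : X, ∃ (V : X.Opens) (_ : x ∈ V) (s : Γ(X, V)),
      ∀ (_ : Nonempty V), X.germToFunctionField V s = γ := by
    intro x
    obtain ⟨a, ha⟩ := h x
    obtain ⟨V, hxV, s, rfl⟩ := TopCat.Presheaf.exists_germ_eq X.presheaf a
    refine ⟨V, hxV, s, fun _ => ?_⟩
    rw [← ha, Scheme.algebraMap_germ_eq_germToFunctionField]
  choose V hxV s hs using hloc
  have hcover : (⊤ : X.Opens) ≤ iSup V := fun x _ => Opens.mem_iSup.mpr ⟨x, hxV x⟩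
  have hcompat : TopCat.Presheaf.IsCompatible X.sheaf.1 V s := by
    intro x y
    haveI : Nonempty (V x) := ⟨⟨x, hxV x⟩⟩
    haveI : Nonempty (V y) := ⟨⟨y, hxV y⟩⟩
    haveI hne : Nonempty (V x ⊓ V y : X.Opens) := by
      obtain ⟨z, hz1, hz2⟩ := nonempty_preirreducible_inter (V x).isOpen (V y).isOpen
        ⟨x, hxV x⟩ ⟨y, hxV y⟩
      exact ⟨⟨z, hz1, hz2⟩⟩
    refine @Scheme.germToFunctionField_injective X _ (V x ⊓ V y) hne _ _ ?_
    have e1 : X.germToFunctionField (V x ⊓ V y)
        (X.presheaf.map (Opens.infLELeft (V x) (V y)).op (s x)) =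
        X.germToFunctionField (V x) (s x) := TopCat.Presheaf.germ_res_apply _ _ _ _ _
    have e2 : X.germToFunctionField (V x ⊓ V y)
        (X.presheaf.map (Opens.infLERight (V x) (V y)).op (s y)) =
        X.germToFunctionField (V y) (s y) := TopCat.Presheaf.germ_res_apply _ _ _ _ _
    exact e1.trans ((hs x inferInstance).trans ((hs y inferInstance).symm.trans e2.symm))
  obtain ⟨g, hg, -⟩ := X.sheaf.existsUnique_gluing' V ⊤ (fun x => homOfLE le_top) hcover s hcompat
  refine ⟨g, ?_⟩
  have x : X := genericPoint X
  haveI : Nonempty (V x) := ⟨⟨x, hxV x⟩⟩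
  have e2 : X.germToFunctionField (V x) (X.presheaf.map (homOfLE le_top).op g) =
      X.germToFunctionField ⊤ g := TopCat.Presheaf.germ_res_apply _ _ _ _ _
  have e3 : X.presheaf.map (homOfLE (le_top : V x ≤ ⊤)).op g = s x := hg x
  exact e2.symm.trans ((congrArg _ e3).trans (hs x inferInstance))

theorem isDVR_stalk (hX : Pi1.IsNormalScheme X) (y : X) (hy : Order.coheight y = 1) :
    IsDiscreteValuationRing (X.presheaf.stalk y) := by
  haveI : IsIntegrallyClosed (X.presheaf.stalk y) := (hX y).2
  exact OrdGeneric.isDiscreteValuationRing_of_ringKrullDim_eq_one _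
    ((OrdGeneric.coheight_eq_one_iff y).mp hy)

/-- A germ of order zero along all codimension one generizations is a unit. -/
theorem isUnit_of_forall_ord_eq_zero (hX : Pi1.IsNormalScheme X) (x : X)
    (t : X.presheaf.stalk x) (ht0 : t ≠ 0)
    (h0 : ∀ y : X, Order.coheight y = 1 → y ⤳ x →
      Scheme.ord (algebraMap (X.presheaf.stalk x) X.functionField t) y = 0) : IsUnit t := by
  have htK : algebraMap (X.presheaf.stalk x) X.functionField t ≠ 0 := by
    rw [Ne, map_eq_zero_iff _ (IsFractionRing.injective _ _)]
    exact ht0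
  obtain ⟨b, hb⟩ := Hartogs.exists_algebraMap_eq_of_forall_codim_one hX x
    (algebraMap (X.presheaf.stalk x) X.functionField t)⁻¹ (fun y hy hyx => by
      haveI := isDVR_stalk hX y hy
      apply OrdGeneric.exists_algebraMap_eq_of_ord_nonneg y hy _ (inv_ne_zero htK)
      rw [Ref1Group.ord_inv _ htK, h0 y hy hyx]
      simp)
  have h1 : algebraMap (X.presheaf.stalk x) X.functionField (t * b) =
      algebraMap (X.presheaf.stalk x) X.functionField 1 := by
    rw [map_mul, hb, mul_inv_cancel₀ htK, map_one]
  exact IsUnit.of_mul_eq_one b (IsFractionRing.injective _ _ h1)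

/-- **Principal prime divisors**, with the generator recorded. -/
theorem comap_maximalIdeal_eq_span (hX : Pi1.IsNormalScheme X) {ζ x : X}
    (hζ : Order.coheight ζ = 1) (h : ζ ⤳ x) (t : X.presheaf.stalk x) (ht0 : t ≠ 0)
    (h1 : Scheme.ord (algebraMap (X.presheaf.stalk x) X.functionField t) ζ = 1)
    (h0 : ∀ y : X, Order.coheight y = 1 → y ⤳ x → y ≠ ζ →
      Scheme.ord (algebraMap (X.presheaf.stalk x) X.functionField t) y = 0) :
    Ideal.comap (X.presheaf.stalkSpecializes h).hom
      (IsLocalRing.maximalIdeal (X.presheaf.stalk ζ)) = Ideal.span {t} := by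
  classical
  have hφ : algebraMap (X.presheaf.stalk x) X.functionField t ≠ 0 := by
    rw [Ne, map_eq_zero_iff _ (IsFractionRing.injective _ _)]
    exact ht0
  have hspec_ne : ∀ {y : X} (hyx : y ⤳ x) (b : X.presheaf.stalk x), b ≠ 0 →
      X.presheaf.stalkSpecializes hyx b ≠ 0 := by
    intro y hyx b hb h0'
    have h2 := LocFactorial.algebraMap_stalkSpecializes hyx b
    rw [h0', map_zero] at h2
    exact hb ((map_eq_zero_iff _ (IsFractionRing.injective (X.presheaf.stalk x)
      X.functionField)).mp h2.symm)
  refine le_antisymm ?_ ?_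
  · intro b hb
    rw [Ideal.mem_comap] at hb
    by_cases hb0 : b = 0
    · rw [hb0]
      exact Ideal.zero_mem _
    have hbK : algebraMap (X.presheaf.stalk x) X.functionField b ≠ 0 := by
      rw [Ne, map_eq_zero_iff _ (IsFractionRing.injective _ _)]
      exact hb0
    obtain ⟨c, hc⟩ := Hartogs.exists_algebraMap_eq_of_forall_codim_one hX x
      (algebraMap (X.presheaf.stalk x) X.functionField b *
        (algebraMap (X.presheaf.stalk x) X.functionField t)⁻¹) (fun y hy hyx => by
        by_cases hyζ : y = ζ
        · subst hyζ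
          haveI := isDVR_stalk hX y hy
          apply OrdGeneric.exists_algebraMap_eq_of_ord_nonneg y hy _
            (mul_ne_zero hbK (inv_ne_zero hφ))
          rw [Scheme.ord_mul hbK (inv_ne_zero hφ), Ref1Group.ord_inv _ hφ, h1]
          have hsb := hspec_ne h b hb0
          have hnu : ¬ IsUnit ((X.presheaf.stalkSpecializes h).hom b) :=
            (IsLocalRing.mem_maximalIdeal _).mp hb
          have h3 := LocFactorial.ord_algebraMap_nonneg hy _ hsb
          have h4 := (LocFactorial.isUnit_iff_ord_eq_zero hX hy _ hsb).not.mp hnu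
          rw [LocFactorial.algebraMap_stalkSpecializes] at h3 h4
          omega
        · have hst := hspec_ne hyx t ht0
          have hu : IsUnit (X.presheaf.stalkSpecializes hyx t) := by
            rw [LocFactorial.isUnit_iff_ord_eq_zero hX hy _ hst,
              LocFactorial.algebraMap_stalkSpecializes]
            exact h0 y hy hyx hyζ
          refine ⟨X.presheaf.stalkSpecializes hyx b * ↑hu.unit⁻¹, ?_⟩
          rw [map_mul, LocFactorial.algebraMap_stalkSpecializes]
          congr 1
          have h5 : algebraMap (X.presheaf.stalk y) X.functionField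
              ((↑hu.unit⁻¹ : X.presheaf.stalk y) * X.presheaf.stalkSpecializes hyx t) = 1 := by
            rw [IsUnit.val_inv_mul, map_one]
          rw [map_mul, LocFactorial.algebraMap_stalkSpecializes] at h5
          exact eq_inv_of_mul_eq_one_left h5)
    have h6 : algebraMap (X.presheaf.stalk x) X.functionField (c * t) =
        algebraMap (X.presheaf.stalk x) X.functionField b := by
      rw [map_mul, hc, mul_assoc, inv_mul_cancel₀ hφ, mul_one]
    have h7 := IsFractionRing.injective (X.presheaf.stalk x) X.functionField h6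
    exact Ideal.mem_span_singleton'.mpr ⟨c, h7⟩
  · rw [Ideal.span_singleton_le_iff_mem, Ideal.mem_comap]
    have hst := hspec_ne h t ht0
    have hnu : ¬ IsUnit ((X.presheaf.stalkSpecializes h).hom t) := by
      intro hu
      have := (LocFactorial.isUnit_iff_ord_eq_zero hX hζ _ hst).mp hu
      rw [LocFactorial.algebraMap_stalkSpecializes, h1] at this
      exact one_ne_zero this
    exact (IsLocalRing.mem_maximalIdeal _).mpr hnu

end Groth.Agent.Lib.Helper45.PrimeDivisors
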