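import Mathlib
import Groth.Agent.Lib.Helper45.PrimeDivisors
import Groth.Agent.Lib.Helper45.DivLocFinite
import Groth.Agent.S5090
import Groth.Agent.Lib.Helper45.InvRef1
import Groth.Agent.Lib.Helper45.DivIdealMod
import Groth.Agent.Lib.Helper11.GenLocusBasis

/-!
# Principal prime divisors, factoriality and triviality of the Picard group

Shared library of helper45 (namespace `Groth.Agent.Lib.Helper45.PrimeDivTFAE`): the implications
between the four conditions of EGA IV 21.6.13-type statements on a Noetherian integral scheme.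
-/

set_option autoImplicit false
set_option linter.style.haveILetI false
universe u
open CategoryTheory CategoryTheory.Limits AlgebraicGeometry TopologicalSpace

namespace Groth.Agent.Lib.Helper45.PrimeDivTFAE

open Groth.Agent.Lib.Helper45 Groth.Agent.Lib.Helper49 Groth.Agent.Lib.Helper45.PrimeDivisors

variable (X : Scheme.{u}) [IsIntegral X] [IsLocallyNoetherian X]

/-- Condition (1): every prime divisor is cut out by a global function. -/
def P1 : Prop :=
  ∀ ζ : ↥X, Order.coheight ζ = 1 → ∃ g : Γ(X, ⊤),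
    (∀ (x : ↥X) (h : ζ ⤳ x),
      (IsLocalRing.maximalIdeal ↑(X.presheaf.stalk ζ)).comap (X.presheaf.stalkSpecializes h).hom =
        Ideal.span {X.presheaf.germ ⊤ x trivial g}) ∧
    ∀ x : ↥X, ¬ ζ ⤳ x → IsUnit (X.presheaf.germ ⊤ x trivial g)

/-- Condition (2): normal, and every prime divisor is principal. -/
def P2 : Prop :=
  Pi1.IsNormalScheme X ∧ ∀ x₀ : ↥X, Order.coheight x₀ = 1 → ∃ f : ↑X.functionField, f ≠ 0 ∧
    Scheme.ord f x₀ = 1 ∧ ∀ x : ↥X, x ≠ x₀ → Order.coheight x = 1 → Scheme.ord f x = 0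

/-- Condition (3): locally factorial with trivial Picard group. -/
def P3 : Prop :=
  (∀ x : ↥X, UniqueFactorizationMonoid ↑(X.presheaf.stalk x)) ∧
    ∀ L : X.Modules, PicF.IsInvertible L → Nonempty (L ≅ Coh.structureModule X)

/-- Condition (4): normal, and the Picard groups of all opens are trivial. -/
def P4 : Prop :=
  Pi1.IsNormalScheme X ∧ ∀ (U : X.Opens) (L : (U : Scheme.{u}).Modules),
    PicF.IsInvertible L → Nonempty (L ≅ Coh.structureModule (U : Scheme.{u}))

variable {X}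

omit [IsIntegral X] [IsLocallyNoetherian X] in
theorem not_specializes_of_coheight_eq_one {ζ x : X} (hζ : Order.coheight ζ = 1)
    (hx : Order.coheight x = 1) (hne : x ≠ ζ) : ¬ ζ ⤳ x := by
  intro hspec
  have hle : x ≤ ζ := Scheme.le_iff_specializes.mpr hspec
  have hlt : x < ζ := by
    refine lt_of_le_not_ge hle fun hge => hne ?_
    exact ((Scheme.le_iff_specializes.mp hge).antisymm hspec).eq
  have h1 := Order.coheight_add_one_le hlt
  rw [hζ, hx] at h1
  exact absurd h1 (by decide)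

omit [IsLocallyNoetherian X] in
theorem algebraMap_germ_top (x : X) (g : Γ(X, ⊤)) :
    haveI := nonempty_top (X := X)
    algebraMap (X.presheaf.stalk x) X.functionField (X.presheaf.germ ⊤ x trivial g) =
      X.germToFunctionField ⊤ g := by
  haveI := nonempty_top (X := X)
  exact Scheme.algebraMap_germ_eq_germToFunctionField (X := X) (U := ⊤) trivial g

theorem locallyFactorial_of_principal
    (h : ∀ ζ : ↥X, Order.coheight ζ = 1 → ∀ (x : ↥X) (h : ζ ⤳ x),
      ∃ t : ↑(X.presheaf.stalk x), t ≠ 0 ∧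
        (IsLocalRing.maximalIdeal ↑(X.presheaf.stalk ζ)).comap
          (X.presheaf.stalkSpecializes h).hom = Ideal.span {t}) :
    ∀ x : ↥X, UniqueFactorizationMonoid ↑(X.presheaf.stalk x) := by
  have key := (Groth.Agent.S5090.result X (fun x _ => inferInstance)).mp ?_
  · intro x
    obtain ⟨_, hu⟩ := key x
    exact hu
  · intro ζ hζdim x hsp
    have hζ : Order.coheight ζ = 1 := (OrdGeneric.coheight_eq_one_iff ζ).mpr hζdim
    obtain ⟨t, ht0, ht⟩ := h ζ hζ x hsp
    exact ⟨t, mem_nonZeroDivisors_of_ne_zero ht0, ht⟩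

theorem p2_of_p1 (h1 : P1 X) : P2 X := by
  haveI := nonempty_top (X := X)
  -- the generators are nonzero
  have hgne : ∀ (ζ : X) (hζ : Order.coheight ζ = 1) (g : Γ(X, ⊤)),
      (∀ (x : ↥X) (h : ζ ⤳ x),
        (IsLocalRing.maximalIdeal ↑(X.presheaf.stalk ζ)).comap (X.presheaf.stalkSpecializes h).hom =
          Ideal.span {X.presheaf.germ ⊤ x trivial g}) → g ≠ 0 := by
    rintro ζ hζ g hg rfl
    have h2 := hg ζ (specializes_refl ζ)
    rw [TopCat.Presheaf.stalkSpecializes_refl, map_zero] at h2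
    have h3 : IsLocalRing.maximalIdeal (X.presheaf.stalk ζ) = ⊥ := by
      have : Ideal.comap (CommRingCat.Hom.hom (𝟙 (X.presheaf.stalk ζ)))
          (IsLocalRing.maximalIdeal (X.presheaf.stalk ζ)) =
          IsLocalRing.maximalIdeal (X.presheaf.stalk ζ) := Ideal.comap_id _
      rw [← this, h2]
      simp
    have h4 : IsField (X.presheaf.stalk ζ) := IsLocalRing.isField_iff_maximalIdeal_eq.mpr h3
    have h5 := (OrdGeneric.coheight_eq_one_iff ζ).mp hζ
    rw [ringKrullDim_eq_zero_of_isField h4] at h5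
    exact absurd h5 (by decide)
  have hgerm_ne : ∀ (g : Γ(X, ⊤)), g ≠ 0 → ∀ x : X, X.presheaf.germ ⊤ x trivial g ≠ 0 := by
    intro g hg x h0
    exact hg (germ_injective_of_isIntegral X (U := ⊤) x trivial (h0.trans (map_zero _).symm))
  -- local factoriality, hence normality
  have hufd : ∀ x : ↥X, UniqueFactorizationMonoid ↑(X.presheaf.stalk x) :=
    locallyFactorial_of_principal fun ζ hζ x hsp => by
      obtain ⟨g, hg, -⟩ := h1 ζ hζ
      exact ⟨_, hgerm_ne g (hgne ζ hζ g hg) x, hg x hsp⟩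
  have hX : Pi1.IsNormalScheme X := fun x => by
    haveI := hufd x
    exact ⟨inferInstance, inferInstance⟩
  refine ⟨hX, fun ζ hζ => ?_⟩
  obtain ⟨g, hg, hunit⟩ := h1 ζ hζ
  have hg0 := hgne ζ hζ g hg
  refine ⟨X.germToFunctionField ⊤ g, ?_, ?_, ?_⟩
  · intro h0
    exact hg0 (Scheme.germToFunctionField_injective X ⊤ (h0.trans (map_zero _).symm))
  · have h2 := hg ζ (specializes_refl ζ)
    rw [TopCat.Presheaf.stalkSpecializes_refl] at h2
    have h3 : Ideal.span {X.presheaf.germ ⊤ ζ trivial g} =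
        IsLocalRing.maximalIdeal (X.presheaf.stalk ζ) ^ 1 := by
      rw [pow_one, ← h2]
      exact (Ideal.comap_id _).symm
    have h4 := ord_eq_of_span_eq_pow hX hζ _ 1 h3
    rw [algebraMap_germ_top] at h4
    exact_mod_cast h4
  · intro x hxne hx
    have hns := not_specializes_of_coheight_eq_one hζ hx hxne
    have hu := hunit x hns
    have h4 := (LocFactorial.isUnit_iff_ord_eq_zero hX hx _ (hgerm_ne g hg0 x)).mp hu
    rw [algebraMap_germ_top] at h4
    exact h4

theorem p1_of_p2 (h2 : P2 X) : P1 X := by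
  haveI := nonempty_top (X := X)
  obtain ⟨hX, hf⟩ := h2
  intro ζ hζ
  obtain ⟨f, hf0, hf1, hfz⟩ := hf ζ hζ
  have hord_nonneg : ∀ y : X, Order.coheight y = 1 → 0 ≤ Scheme.ord f y := by
    intro y hy
    by_cases hyζ : y = ζ
    · rw [hyζ, hf1]
      exact zero_le_one
    · rw [hfz y hyζ hy]
  obtain ⟨g, hg⟩ := exists_section_of_forall_mem_stalk f (fun x =>
    Hartogs.exists_algebraMap_eq_of_forall_codim_one hX x f (fun y hy _ => by
      haveI := isDVR_stalk hX y hy
      exact OrdGeneric.exists_algebraMap_eq_of_ord_nonneg y hy f hf0 (hord_nonneg y hy)))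
  have hgerm_ne : ∀ x : X, X.presheaf.germ ⊤ x trivial g ≠ 0 := by
    intro x h0
    have h3 := algebraMap_germ_top x g
    rw [h0, map_zero, hg] at h3
    exact hf0 h3.symm
  refine ⟨g, fun x hsp => ?_, fun x hns => ?_⟩
  · refine comap_maximalIdeal_eq_span hX hζ hsp _ (hgerm_ne x) ?_ ?_
    · rw [algebraMap_germ_top, hg, hf1]
    · intro y hy _ hne
      rw [algebraMap_germ_top, hg, hfz y hne hy]
  · refine isUnit_of_forall_ord_eq_zero hX x _ (hgerm_ne x) fun y hy hyx => ?_
    rw [algebraMap_germ_top, hg]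
    refine hfz y ?_ hy
    rintro rfl
    exact hns hyx

/-- On a normal quasi-compact scheme with principal prime divisors, every divisor of a rational
section of a rank one reflexive module is principal. -/
theorem linEq_zero_of_p2 [CompactSpace X] (h2 : P2 X) (L : X.Modules) (d : X → ℤ)
    (hd : Ref1Group.HasDiv L d) : Ref1Group.LinEq d 0 := by
  classical
  obtain ⟨hX, hf⟩ := h2
  obtain ⟨hL1, σ, hσ, hdσ⟩ := hd
  have hs : (Submodule.Quotient.mk σ : Cyc.secFibre L (genericPoint X)) ≠ 0 := fun h0 =>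
    hσ ((OrdGeneric.secFibre_mk_eq_iff L σ 0).mp h0)
  set d' : X → ℤ := fun x => if Order.coheight x = 1 then d x else 0 with hd'
  have hlf : LocallyFiniteSupport d' := fun z =>
    DivLocFinite.secOrd_locallyFinite hX L hL1 _ hs d'
      (fun x hx => by simp only [hd', if_neg hx])
      (fun x hx => by simp only [hd', if_pos hx]; exact (hdσ x hx).symm) z
  have hfin : (Function.support d').Finite := by
    have := hlf.finite_inter_support_of_isCompact (W := Set.univ) isCompact_univ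
    rwa [Set.univ_inter] at this
  set T : Finset X := hfin.toFinset with hT
  have hTmem : ∀ ζ : X, ζ ∈ T → Order.coheight ζ = 1 := by
    intro ζ hζ
    rw [hT, Set.Finite.mem_toFinset, Function.mem_support] at hζ
    by_contra hne
    exact hζ (by simp only [hd', if_neg hne])
  choose a ha0 ha1 haz using hf
  set a' : X → X.functionField := fun ζ => if h : Order.coheight ζ = 1 then a ζ h else 1 with ha'
  have ha'0 : ∀ ζ ∈ T, a' ζ ≠ 0 := by
    intro ζ hζ
    simp only [ha', dif_pos (hTmem ζ hζ)]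
    exact ha0 ζ _
  refine ⟨∏ ζ ∈ T, a' ζ ^ d' ζ, prod_zpow_ne_zero T a' ha'0 d', fun x hx => ?_⟩
  rw [ord_prod_zpow T a' ha'0 d' x, Pi.zero_apply, zero_add]
  have hterm : ∀ ζ ∈ T, d' ζ * Scheme.ord (a' ζ) x = if ζ = x then d' x else 0 := by
    intro ζ hζ
    have hζ1 := hTmem ζ hζ
    simp only [ha', dif_pos hζ1]
    by_cases hζx : ζ = x
    · subst hζx
      rw [ha1 ζ hζ1, mul_one, if_pos rfl]
    · rw [haz ζ hζ1 x (Ne.symm hζx) hx, mul_zero, if_neg hζx]
  rw [Finset.sum_congr rfl hterm, Finset.sum_ite_eq' T x]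
  have hdx : d' x = d x := by simp only [hd', if_pos hx]
  by_cases hxT : x ∈ T
  · rw [if_pos hxT, hdx]
  · rw [if_neg hxT]
    rw [hT, Set.Finite.mem_toFinset, Function.mem_support, not_not] at hxT
    rw [← hdx, hxT]

theorem ufd_of_p2 (h2 : P2 X) : ∀ x : ↥X, UniqueFactorizationMonoid ↑(X.presheaf.stalk x) := by
  obtain ⟨hX, hf⟩ := h2
  refine locallyFactorial_of_principal fun ζ hζ x hsp => ?_
  obtain ⟨f, hf0, hf1, hfz⟩ := hf ζ hζ
  exact LocFactorial.exists_generator_comap_maximalIdeal hX hζ hsp f hf0 hf1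
    (fun y hy _ hne => hfz y hne hy)

theorem p3_of_p2 [CompactSpace X] (h2 : P2 X) : P3 X := by
  refine ⟨ufd_of_p2 h2, fun L hL => ?_⟩
  have hL1 := InvRef1.isRef1_of_isInvertible L hL
  obtain ⟨d, hd⟩ := Ref1Group.exists_hasDiv L hL1
  exact (Ref1Group.iso_iff_linEq h2.1 hd Ref1Group.hasDiv_structureModule).mpr
    (linEq_zero_of_p2 h2 L d hd)

omit [IsLocallyNoetherian X] in
/-- UFD stalks give normality. -/
theorem isNormalScheme_of_ufd
    (h : ∀ x : ↥X, UniqueFactorizationMonoid ↑(X.presheaf.stalk x)) : Pi1.IsNormalScheme X :=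
  fun x => by
    haveI := h x
    exact ⟨inferInstance, inferInstance⟩

/-- On a locally factorial scheme with trivial Picard group every Weil divisor is principal. -/
theorem exists_ord_eq_of_p3 (h3 : P3 X) (D : X → ℤ) (hD : LocallyFiniteSupport D)
    (hD0 : ∀ x : X, Order.coheight x ≠ 1 → D x = 0) :
    ∃ f : X.functionField, f ≠ 0 ∧ ∀ x : X, Order.coheight x = 1 → Scheme.ord f x = D x := by
  obtain ⟨hUFD, hPic⟩ := h3
  have hX := isNormalScheme_of_ufd hUFD
  obtain ⟨F, hF⟩ := DivIdealMod.exists_hasDiv hX D hD hD0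
  have hF1 := hF.1
  have hinv : PicF.IsInvertible F :=
    InvRef1.isInvertible_of_stalk_equiv F hF1.1 (fun x => by
      haveI := hUFD x
      haveI : F.IsQuasicoherent := hF1.1.1
      haveI : Module.IsReflexive (X.presheaf.stalk x) (F.presheaf.stalk x) :=
        (RefHullStalk.isReflexive_iff_forall_isReflexiveAt F hF1.1).mp hF1.2.1 x
      obtain ⟨n₀, hn₀, hrank⟩ := Rank1Invertible.exists_rank_one_stalk F hF1.2.2 x
      exact ReflexiveUFD.nonempty_linearEquiv_self_of_isReflexive_rank_one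
        (A := X.presheaf.stalk x) (F.presheaf.stalk x) n₀ hn₀ hrank)
  obtain ⟨f, hf0, hf⟩ :=
    (Ref1Group.iso_iff_linEq hX hF Ref1Group.hasDiv_structureModule).mp (hPic F hinv)
  refine ⟨f, hf0, fun x hx => ?_⟩
  rw [hf x hx, Pi.zero_apply, zero_add]

theorem p2_of_p3 (h3 : P3 X) : P2 X := by
  classical
  refine ⟨isNormalScheme_of_ufd h3.1, fun ζ hζ => ?_⟩
  obtain ⟨f, hf0, hf⟩ := exists_ord_eq_of_p3 h3 (fun x => if x = ζ then 1 else 0)
    (fun z => ⟨Set.univ, Filter.univ_mem, (Set.finite_singleton ζ).subset (by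
      rintro x ⟨-, hx⟩
      by_contra hne
      exact hx (if_neg hne))⟩)
    (fun x hx => if_neg (by rintro rfl; exact hx hζ))
  refine ⟨f, hf0, ?_, fun x hne hx => ?_⟩
  · rw [hf ζ hζ, if_pos rfl]
  · rw [hf x hx, if_neg hne]

/-- A module with local bases around the points of `V` restricts to an invertible module on `V`. -/
theorem isInvertible_restrict_of_isBasisOn {Y : Scheme.{u}} {L : Y.Modules} [L.IsQuasicoherent]
    (V : Y.Opens)
    (h : ∀ x ∈ V, ∃ W : Y.Opens, x ∈ W ∧ ∃ t : Γ(L, W), IsBasisOn L W t) :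
    PicF.IsInvertible (L.restrict V.ι) := by
  have hq : (L.restrict V.ι).IsQuasicoherent := inferInstance
  intro y
  obtain ⟨W, hxW, t, ht⟩ := h (V.ι.base y) y.2
  obtain ⟨_, ⟨A', hA', rfl⟩, hyA', hA'W⟩ :=
    (V : Scheme.{u}).isBasis_affineOpens.exists_subset_of_mem_open
      (show y ∈ ((V.ι ⁻¹ᵁ W : (V : Scheme.{u}).Opens) : Set _) from hxW) (V.ι ⁻¹ᵁ W).2
  have hle : V.ι ''ᵁ A' ≤ W := by
    rintro _ ⟨z, hz, rfl⟩
    exact hA'W hz
  have hb := Groth.Agent.Lib.Helper11.GenLocus.isBasisOn_restrict V A' (mres L hle t) (ht.mono hle)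
  exact ⟨A', hyA', hb.nonempty_iso hA'⟩

theorem p2_of_p4 (h4 : P4 X) : P2 X := by
  classical
  obtain ⟨hX, hPic⟩ := h4
  refine ⟨hX, fun ζ hζ => ?_⟩
  set D : X → ℤ := fun x => if x = ζ then 1 else 0 with hD
  obtain ⟨F, hF1, σ, hσ, hd⟩ := DivIdealMod.exists_hasDiv hX D
    (fun z => ⟨Set.univ, Filter.univ_mem, (Set.finite_singleton ζ).subset (by
      rintro x ⟨-, hx⟩
      by_contra hne
      exact hx (if_neg hne))⟩)
    (fun x hx => if_neg (by rintro rfl; exact hx hζ))
  haveI : F.IsQuasicoherent := hF1.1.1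
  -- the locus where `F` is invertible
  set W : X.Opens := sSup {V : X.Opens | ∃ t : Γ(F, V), IsBasisOn F V t} with hW
  have hmemW : ∀ x : X, ringKrullDim (X.presheaf.stalk x) ≤ 1 → x ∈ W := by
    intro x hx
    obtain ⟨V, hxV, τ, hτ⟩ := Ref1Tensor.exists_isBasisOn_of_isRef1 hX F hF1 x hx
    rw [hW, Opens.mem_sSup]
    exact ⟨V, ⟨τ, hτ⟩, hxV⟩
  have hinv : PicF.IsInvertible (F.restrict W.ι) :=
    isInvertible_restrict_of_isBasisOn W (fun x hx => by
      rw [hW, Opens.mem_sSup] at hx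
      obtain ⟨V, ⟨τ, hτ⟩, hxV⟩ := hx
      exact ⟨V, hxV, τ, hτ⟩)
  obtain ⟨φ⟩ := hPic W _ hinv
  obtain ⟨τ, hτ⟩ := exists_isBasisOn_of_iso φ
  have hηW : genericPoint X ∈ W := hmemW _ (by
    have := (OrdGeneric.coheight_eq_one_iff ζ).mp hζ
    rw [ringKrullDim_stalk_eq_coheight, DivIdealMod.coheight_genericPoint]
    exact zero_le_one)
  have hgerm_ne : F.presheaf.germ W (genericPoint X) hηW τ ≠ 0 := by
    intro h0
    have h1' : (1 : X.presheaf.stalk (genericPoint X)) = 0 :=
      InvOrd.germ_basis_ann hτ _ hηW 1 (by rw [h0, smul_zero])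
    exact one_ne_zero h1'
  obtain ⟨k, hk⟩ := Ref1Codim1.exists_smul_eq_of_ne_zero F hF1.2.2 _ hgerm_ne σ
  have hk0 : k ≠ 0 := by
    rintro rfl
    rw [zero_smul] at hk
    exact hσ hk
  have hordk : ∀ y : X, Order.coheight y = 1 → Scheme.ord (X := X) k y = D y := by
    intro y hcy
    have hyW : y ∈ W := hmemW y ((OrdGeneric.coheight_eq_one_iff y).mp hcy).le
    rw [← hd y hcy, hk]
    exact (InvOrd.secOrdAt_eq_ord_of_isBasisOn hτ y hyW hcy _ k hηW).symm
  refine ⟨k, hk0, ?_, fun x hne hx => ?_⟩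
  · rw [hordk ζ hζ, hD]
    exact if_pos rfl
  · rw [hordk x hx, hD]
    exact if_neg hne

omit [IsIntegral X] [IsLocallyNoetherian X] in
theorem isNormalScheme_opens (hX : Pi1.IsNormalScheme X) (U : X.Opens) :
    Pi1.IsNormalScheme (U : Scheme.{u}) := fun u => by
  obtain ⟨hd, hic⟩ := hX (U.ι u)
  let e : X.presheaf.stalk (U.ι u) ≃+* (U : Scheme.{u}).presheaf.stalk u :=
    (asIso (U.ι.stalkMap u)).commRingCatIsoToRingEquiv
  exact ⟨e.symm.toMulEquiv.isDomain _, IsIntegrallyClosed.of_equiv e⟩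

/-- Principality of prime divisors passes to nonempty opens. -/
theorem p2_opens (h2 : P2 X) (U : X.Opens) [Nonempty U] : P2 (U : Scheme.{u}) := by
  obtain ⟨hX, hf⟩ := h2
  refine ⟨isNormalScheme_opens hX U, fun u₀ hu₀ => ?_⟩
  have hx₀ : Order.coheight (U.ι u₀) = 1 := by
    rw [coheight_eq_of_isOpenImmersion]
    exact hu₀
  obtain ⟨f, hf0, hf1, hfz⟩ := hf (U.ι u₀) hx₀
  refine ⟨(Groth.Agent.Lib.Helper21.functionFieldMap U.ι).hom f,
    Groth.Agent.Lib.Helper21.functionFieldMap_ne_zero U.ι hf0, ?_, fun u hne hu => ?_⟩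
  · rw [Groth.Agent.Lib.Helper21.ord_functionFieldMap, hf1]
  · rw [Groth.Agent.Lib.Helper21.ord_functionFieldMap]
    refine hfz (U.ι u) (fun h => hne ?_) ?_
    · exact U.ι.isOpenEmbedding.injective h
    · rw [coheight_eq_of_isOpenImmersion]
      exact hu

theorem p4_of_p2 [CompactSpace X] (h2 : P2 X) : P4 X := by
  refine ⟨h2.1, fun U L hL => ?_⟩
  by_cases hU : Nonempty U
  · haveI : IsNoetherian X := {}
    haveI : CompactSpace (U : Scheme.{u}) :=
      isCompact_iff_compactSpace.mp (NoetherianSpace.isCompact (U : Set X))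
    exact (p3_of_p2 (p2_opens h2 U)).2 L hL
  · haveI : IsEmpty (U : Scheme.{u}) := not_nonempty_iff.mp hU
    haveI : IsIso (0 : L ⟶ Coh.structureModule (U : Scheme.{u})) :=
      Groth.Agent.Lib.Helper49.isIso_of_stalkMap_bijective _ (fun x => isEmptyElim x)
    exact ⟨asIso (0 : L ⟶ Coh.structureModule (U : Scheme.{u}))⟩

end Groth.Agent.Lib.Helper45.PrimeDivTFAE
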