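import Mathlib
import Groth.Agent.Lib.Helper45.FreeOverDVR
import Groth.Agent.Lib.Helper49.PushforwardFP
import Groth.Agent.Lib.Helper49.FinLocFree
import Groth.Agent.S1709

/-!
# Direct image of the structure sheaf along a finite morphism to a regular scheme of dimension ≤ 1

Shared library of helper45 (namespace `Groth.Agent.Lib.Helper45.PushFreeDVR`).
-/

set_option autoImplicit false
set_option linter.style.haveILetI false
universe u
open CategoryTheory CategoryTheory.Limits AlgebraicGeometry TopologicalSpace

namespace Groth.Agent.Lib.Helper45.PushFreeDVR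

open Groth.Agent.Lib.Helper45 Groth.Agent.Lib.Helper49

variable {C C' : Scheme.{u}} (f : C ⟶ C')

/-- The direct image of the structure sheaf along a finite morphism to a locally Noetherian scheme
is finitely presented. -/
theorem isFinitePresentation_pushforward_structureModule [IsFinite f] [IsLocallyNoetherian C'] :
    SheafOfModules.IsFinitePresentation (R := C'.ringCatSheaf)
      ((Scheme.Modules.pushforward f).obj (Coh.structureModule C)) := by
  haveI : (Coh.structureModule C).IsQuasicoherent := inferInstance
  haveI : ((Scheme.Modules.pushforward f).obj (Coh.structureModule C)).IsQuasicoherent :=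
    isQuasicoherent_pushforward (Coh.structureModule C) f
  refine isFinitePresentation_of_finitePresentation_sections _ fun V => ?_
  rw [finitePresentation_sections_pushforward_iff]
  have h2 : (f.app V.1).hom.Finite := IsFinite.finite_app f V.1 V.2
  haveI : IsNoetherianRing Γ(C', V.1) := IsLocallyNoetherian.component_noetherian V
  let _ : Algebra Γ(C', V.1) Γ(C, f ⁻¹ᵁ V.1) := (f.app V.1).hom.toAlgebra
  let _ : Module Γ(C', V.1) Γ(Coh.structureModule C, f ⁻¹ᵁ V.1) :=
    Module.compHom _ (f.app V.1).hom
  have hfin : Module.Finite Γ(C', V.1) Γ(C, f ⁻¹ᵁ V.1) := h2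
  have hfin' : Module.Finite Γ(C', V.1) Γ(Coh.structureModule C, f ⁻¹ᵁ V.1) := hfin
  exact Module.finitePresentation_of_finite _ _

theorem isFinLocFree_pushforward_structureModule [IsFinite f] [IsLocallyNoetherian C']
    (hreg : ∀ y : C', IsRegularLocalRing (C'.presheaf.stalk y))
    (hdim : ∀ y : C', ringKrullDim (C'.presheaf.stalk y) ≤ 1)
    (hass : ∀ x : C, Curv2.IsAssPoint (Coh.structureModule C) x →
      ringKrullDim (C'.presheaf.stalk (f.base x)) = 0) :
    FlatMod.IsFinLocFree ((Scheme.Modules.pushforward f).obj (Coh.structureModule C)) := by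
  haveI : IsLocallyNoetherian C := LocallyOfFiniteType.isLocallyNoetherian f
  have hfp := isFinitePresentation_pushforward_structureModule f
  rw [isFinLocFree_iff_isFinitePresentation_and_free_stalk]
  refine ⟨hfp, fun y => ?_⟩
  haveI := hreg y
  haveI : Module.FinitePresentation (C'.presheaf.stalk y)
      ↑(((Scheme.Modules.pushforward f).obj (Coh.structureModule C)).presheaf.stalk y) :=
    finitePresentation_stalk_of_isFinitePresentation _ hfp y
  refine FreeOverDVR.free_of_regular_dim_le_one _ (hdim y) _ fun hA => ?_
  have hA' : Curv2.IsAssPoint ((Scheme.Modules.pushforward f).obj (Coh.structureModule C)) y := hA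
  have h1 := (Groth.Agent.S1709.result f (Coh.structureModule C) inferInstance).1
  have h2 : y ∈ {s : ↥C' | Curv2.IsAssPoint
      ((Scheme.Modules.pushforward f).obj (Coh.structureModule C)) s} := hA'
  rw [← h1] at h2
  obtain ⟨x, hx, rfl⟩ := h2
  exact hass x hx

end Groth.Agent.Lib.Helper45.PushFreeDVR
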