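import Groth.Agent.Lib.Helper45.QCohStalk
import Groth.Agent.Lib.Helper45.ModulesBasic
import Groth.Agent.Lib.Helper45.WeakAssIsLoc

/-!
# Quasi-coherent modules on quasi-compact opens

Shared library of helper45.  Everything lives in `Groth.Agent.Lib.Helper45`.

* `exists_pow_smul_eq_zero_of_isCompact`: for `F` quasi-coherent, `W` a quasi-compact open,
  `a ∈ Γ(X, W)` and `σ ∈ Γ(F, W)` vanishing on `D(a)`, some power of `a` kills `σ`.
* `annEl_map_of_ker`: the annihilator formula `ann_B (f m) = (ann_A m) B` for a localization `B`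
  of `A` and an `A`-linear map `f` into a `B`-module whose kernel elements are killed by elements
  of the submonoid (weaker than `IsLocalizedModule`).
* `mem_minimalPrimes_annEl_of_radical_eq`: the corresponding consequence for weakly associated
  primes.
-/

set_option autoImplicit false
universe u v w
open CategoryTheory CategoryTheory.Limits AlgebraicGeometry TopologicalSpace

namespace Groth.Agent.Lib.Helper45

section Alg

variable {A : Type u} [CommRing A] (S : Submonoid A) (B : Type v) [CommRing B] [Algebra A B]
  [IsLocalization S B] {M : Type w} {N : Type*} [AddCommGroup M] [Module A M] [AddCommGroup N]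
  [Module A N] [Module B N] [IsScalarTower A B N] (f : M →ₗ[A] N)

include S in
/-- The annihilator over the localized ring of the image of `m` is the extension of the
annihilator of `m`, as soon as elements of the kernel of `f` are killed by elements of `S`. -/
theorem annEl_map_of_ker (hker : ∀ m : M, f m = 0 → ∃ s : S, s • m = 0) (m : M) :
    annEl B (f m) = (annEl A m).map (algebraMap A B) := by
  have hiff : ∀ m : M, f m = 0 ↔ ∃ s : S, s • m = 0 := by
    intro m
    refine ⟨hker m, ?_⟩
    rintro ⟨s, hs⟩
    have hunit : IsUnit (algebraMap A B s) := IsLocalization.map_units B s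
    have h0 : algebraMap A B s • f m = 0 := by
      rw [algebraMap_smul, ← map_smul]
      have : (s : A) • m = 0 := hs
      rw [this, map_zero]
    exact (hunit.smul_eq_zero).mp h0
  ext b
  obtain ⟨a, t, rfl⟩ := IsLocalization.exists_mk'_eq S b
  have hunit : IsUnit (algebraMap A B t) := IsLocalization.map_units B t
  have h1 : IsLocalization.mk' B a t • f m = 0 ↔ algebraMap A B a • f m = 0 := by
    have : algebraMap A B a = algebraMap A B t * IsLocalization.mk' B a t := by
      rw [mul_comm, IsLocalization.mk'_spec]
    rw [this, mul_smul]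
    exact (hunit.smul_eq_zero).symm
  rw [mem_annEl, h1, algebraMap_smul, ← map_smul, hiff,
    IsLocalization.mk'_mem_map_algebraMap_iff S]
  constructor
  · rintro ⟨c, hc⟩
    refine ⟨c, c.2, ?_⟩
    rw [mem_annEl, mul_smul]
    exact hc
  · rintro ⟨c, hcS, hc⟩
    refine ⟨⟨c, hcS⟩, ?_⟩
    rw [mem_annEl, mul_smul] at hc
    exact hc

end Alg

section AtPrime

variable {A : Type u} [CommRing A] (p : Ideal A) [p.IsPrime] (B : Type v) [CommRing B] [Algebra A B]
  [IsLocalization.AtPrime B p] [IsLocalRing B] {M : Type w} {N : Type*} [AddCommGroup M]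
  [Module A M] [AddCommGroup N] [Module A N] [Module B N] [IsScalarTower A B N] (f : M →ₗ[A] N)

/-- If the annihilator of `f m` in the local ring `A_p` has radical the maximal ideal, then `p` is
minimal over the annihilator of `m` (for `f` with kernel killed by elements outside `p`). -/
theorem mem_minimalPrimes_annEl_of_radical_eq
    (hker : ∀ m : M, f m = 0 → ∃ s : p.primeCompl, s • m = 0) (m : M)
    (hm : (annEl B (f m)).radical = IsLocalRing.maximalIdeal B) :
    p ∈ (annEl A m).minimalPrimes := by
  rw [annEl_map_of_ker p.primeCompl B f hker m] at hm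
  have hmem : IsLocalRing.maximalIdeal B ∈
      ((annEl A m).map (algebraMap A B)).minimalPrimes := by
    refine ⟨⟨inferInstance, ?_⟩, ?_⟩
    · rw [← hm]; exact Ideal.le_radical
    · intro q hq _
      rw [← hm]
      exact (Ideal.IsPrime.radical_le_iff hq.1).mpr hq.2
  rw [IsLocalization.minimalPrimes_map p.primeCompl, Set.mem_preimage,
    IsLocalization.AtPrime.under_maximalIdeal B p] at hmem
  exact hmem

end AtPrime

variable {X : Scheme.{u}}

/-- For a quasi-coherent module `F`, a quasi-compact open `W`, a function `a` on `W` and a section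
`σ` of `F` over `W` vanishing on `D(a)`, some power of `a` kills `σ`. -/
theorem exists_pow_smul_eq_zero_of_isCompact (F : X.Modules)
    [SheafOfModules.IsQuasicoherent.{u, u, u} F] (W : X.Opens) (hW : IsCompact (W : Set X))
    (a : Γ(X, W)) (σ : Γ(F, W))
    (h : F.presheaf.map (homOfLE (X.basicOpen_le a)).op σ = 0) : ∃ n : ℕ, a ^ n • σ = 0 := by
  -- a finite cover of `W` by affine opens contained in `W`
  let ι := {U : X.affineOpens // (U : X.Opens) ≤ W}
  obtain ⟨s, hs⟩ := hW.elim_finite_subcover
    (fun U : ι => ((U.1 : X.Opens) : Set X)) (fun U => (U.1 : X.Opens).2)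
    (by
      intro x hx
      obtain ⟨_, ⟨U, hU : IsAffineOpen U, rfl⟩, hxU, hUW⟩ :=
        X.isBasis_affineOpens.exists_subset_of_mem_open hx W.2
      exact Set.mem_iUnion.mpr ⟨⟨⟨U, hU⟩, hUW⟩, hxU⟩)
  -- on each member of the cover a power of `a` kills `σ`
  have hex : ∀ U : ι, ∃ n : ℕ, ∀ k, n ≤ k →
      F.presheaf.map (homOfLE U.2).op (a ^ k • σ) = 0 := by
    intro U
    have hU : IsAffineOpen (U.1 : X.Opens) := U.1.2
    set aU : Γ(X, (U.1 : X.Opens)) := X.presheaf.map (homOfLE U.2).op a with haU
    set σU : Γ(F, (U.1 : X.Opens)) := F.presheaf.map (homOfLE U.2).op σ with hσU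
    have hle : X.basicOpen aU ≤ X.basicOpen a := by
      rw [haU, Scheme.basicOpen_res]
      exact inf_le_right
    have h0 : F.presheaf.map (homOfLE (X.basicOpen_le aU)).op σU = 0 := by
      have h1 : F.presheaf.map (homOfLE (X.basicOpen_le aU)).op σU =
          F.presheaf.map (homOfLE hle).op
            (F.presheaf.map (homOfLE (X.basicOpen_le a)).op σ) := by
        rw [hσU, ← ConcreteCategory.comp_apply, ← ConcreteCategory.comp_apply,
          ← Functor.map_comp, ← Functor.map_comp]
        rfl
      rw [h1, h, map_zero]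
    obtain ⟨n, hn⟩ := exists_pow_smul_eq_zero_of_restrict_eq_zero hU F aU σU h0
    refine ⟨n, fun k hk => ?_⟩
    rw [Scheme.Modules.map_smul, map_pow]
    change aU ^ k • σU = 0
    obtain ⟨d, rfl⟩ := Nat.exists_eq_add_of_le hk
    rw [pow_add, mul_comm, mul_smul, hn, smul_zero]
  choose n hn using hex
  refine ⟨s.sup n, ?_⟩
  apply section_ext_germ
  intro x hx
  obtain ⟨U, hUs, hxU⟩ := Set.mem_iUnion₂.mp (hs hx)
  rw [map_zero, ← TopCat.Presheaf.germ_res_apply F.presheaf (homOfLE U.2) x hxU,
    hn U (s.sup n) (Finset.le_sup hUs), map_zero]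

end Groth.Agent.Lib.Helper45
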