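import Groth.Agent.Lib.Helper45.WeakAss
import Mathlib.RingTheory.Localization.AtPrime.Basic
import Mathlib.RingTheory.Ideal.MinimalPrime.Localization

/-!
# Zero divisors in localizations and weakly associated primes of the ring

Shared library of helper45.  Everything lives in `Groth.Agent.Lib.Helper45`.
-/

set_option autoImplicit false

universe u v

namespace Groth.Agent.Lib.Helper45

variable {R : Type u} [CommRing R]

/-- `r` is a zero divisor "at `q`": it kills an element which stays nonzero in `R_q`. -/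
def IsZeroDivAt (q : Ideal R) (r : R) : Prop :=
  ∃ c : R, r * c = 0 ∧ ∀ u : R, u ∉ q → u * c ≠ 0

/-- A zero divisor at `q` lies in a weakly associated prime contained in `q`. -/
theorem exists_weakAss_of_isZeroDivAt {q : Ideal R} [q.IsPrime] {r : R} (h : IsZeroDivAt q r) :
    ∃ q' ∈ FlatCA.weakAss R R, r ∈ q' ∧ q' ≤ q := by
  obtain ⟨c, hrc, hc⟩ := h
  have hle : annEl R c ≤ q := by
    intro u hu
    by_contra huq
    exact hc u huq (by simpa [mem_annEl] using hu)
  obtain ⟨q', hq', hq'q⟩ := Ideal.exists_minimalPrimes_le hle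
  refine ⟨q', ⟨c, hq'⟩, hq'.1.2 ?_, hq'q⟩
  rw [mem_annEl, smul_eq_mul]
  exact hrc

/-- An element of a weakly associated prime `q' ≤ q` is a zero divisor at `q`. -/
theorem isZeroDivAt_of_mem_weakAss {q q' : Ideal R} (hq' : q' ∈ FlatCA.weakAss R R) (hle : q' ≤ q)
    {r : R} (hr : r ∈ q') : IsZeroDivAt q r := by
  obtain ⟨c, hc⟩ := hq'
  replace hc : q' ∈ (annEl R c).minimalPrimes := hc
  have hq'P : q'.IsPrime := hc.1.1
  -- some power of `r` times something outside `q'` kills `c`
  have hA : ∃ n : ℕ, ∃ w : R, w ∉ q' ∧ w * r ^ n * c = 0 := by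
    have hrad := IsLocalization.AtPrime.radical_map_of_mem_minimalPrimes
      (A := Localization.AtPrime q') q' _ hc
    have hmem : algebraMap R (Localization.AtPrime q') r ∈
        ((annEl R c).map (algebraMap R (Localization.AtPrime q'))).radical := by
      rw [hrad]
      exact Ideal.mem_map_of_mem _ hr
    obtain ⟨n, hn⟩ := hmem
    rw [← map_pow, IsLocalization.algebraMap_mem_map_algebraMap_iff q'.primeCompl] at hn
    obtain ⟨w, hw, hwn⟩ := hn
    refine ⟨n, w, hw, ?_⟩
    simpa [mem_annEl] using hwn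
  classical
  obtain ⟨w, hw, hwn⟩ := Nat.find_spec hA
  have hn0 : Nat.find hA ≠ 0 := by
    intro h0
    rw [h0, pow_zero, mul_one] at hwn
    exact hw (hc.1.2 (by simpa [mem_annEl] using hwn))
  obtain ⟨n', hn'⟩ := Nat.exists_eq_succ_of_ne_zero hn0
  have hmin := Nat.find_min hA (m := n') (by omega)
  refine ⟨w * r ^ n' * c, ?_, ?_⟩
  · rw [hn', pow_succ] at hwn
    rw [← hwn]
    ring
  · intro u hu h0
    apply hmin
    refine ⟨u * w, ?_, ?_⟩
    · intro huw
      rcases Ideal.IsPrime.mem_or_mem hq'P huw with h | h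
      · exact hu (hle h)
      · exact hw h
    · rw [← h0]; ring

theorem isZeroDivAt_iff {q : Ideal R} [q.IsPrime] {r : R} :
    IsZeroDivAt q r ↔ ∃ q' ∈ FlatCA.weakAss R R, r ∈ q' ∧ q' ≤ q :=
  ⟨exists_weakAss_of_isZeroDivAt, fun ⟨_, hq', hr, hle⟩ => isZeroDivAt_of_mem_weakAss hq' hle hr⟩

/-- In an abstract localization at a prime `q`, the image of `r` is a nonzerodivisor iff `r` is not
a zero divisor at `q`. -/
theorem algebraMap_mem_nonZeroDivisors_iff (q : Ideal R) [q.IsPrime] (B : Type v) [CommRing B]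
    [Algebra R B] [IsLocalization.AtPrime B q] (r : R) :
    algebraMap R B r ∈ nonZeroDivisors B ↔ ¬ IsZeroDivAt q r := by
  constructor
  · rintro hr ⟨c, hrc, hc⟩
    have h0 : algebraMap R B c = 0 := by
      apply (mem_nonZeroDivisors_iff_right.mp hr)
      rw [← map_mul, mul_comm, hrc, map_zero]
    obtain ⟨u, hu⟩ := (IsLocalization.map_eq_zero_iff q.primeCompl B c).mp h0
    exact hc u u.2 hu
  · intro h
    rw [mem_nonZeroDivisors_iff_right]
    intro b hb
    obtain ⟨c, t, rfl⟩ := IsLocalization.exists_mk'_eq q.primeCompl b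
    have h1 : algebraMap R B (c * r) = 0 := by
      have : algebraMap R B (c * r) = algebraMap R B t * (IsLocalization.mk' B c t *
          algebraMap R B r) := by
        rw [map_mul, ← mul_assoc, mul_comm (algebraMap R B t), IsLocalization.mk'_spec]
      rw [this, hb, mul_zero]
    obtain ⟨w, hw⟩ := (IsLocalization.map_eq_zero_iff q.primeCompl B (c * r)).mp h1
    by_contra hne
    apply h
    refine ⟨w * c, by rw [← hw]; ring, ?_⟩
    intro u hu h0
    apply hne
    rw [IsLocalization.mk'_eq_zero_iff]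
    exact ⟨⟨u * w, Submonoid.mul_mem _ hu w.2⟩, by rw [← h0]; simp only []; ring⟩

/-- If the ring has finitely many weakly associated primes and `r` is not a zero divisor at `p`,
then `r` is not a zero divisor at any prime of a basic open neighbourhood `D(g)` of `p`. -/
theorem exists_forall_not_isZeroDivAt (hfin : (FlatCA.weakAss R R).Finite) (p : Ideal R)
    [p.IsPrime] (r : R) (hr : ¬ IsZeroDivAt p r) :
    ∃ g : R, g ∉ p ∧ ∀ q : Ideal R, q.IsPrime → g ∉ q → ¬ IsZeroDivAt q r := by
  classical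
  let T : Finset (Ideal R) := hfin.toFinset.filter fun q' => r ∈ q'
  have hT : ∀ q' ∈ T, ∃ g : R, g ∈ q' ∧ g ∉ p := by
    intro q' hq'
    rw [Finset.mem_filter, Set.Finite.mem_toFinset] at hq'
    by_contra hcon
    push Not at hcon
    exact hr (isZeroDivAt_of_mem_weakAss hq'.1 hcon hq'.2)
  choose! g hg hgp using hT
  refine ⟨∏ q' ∈ T, g q', ?_, ?_⟩
  · intro hmem
    rw [Ideal.IsPrime.prod_mem_iff] at hmem
    obtain ⟨q', hq', hq'p⟩ := hmem
    exact hgp q' hq' hq'p
  · intro q hq hgq hz
    have := hq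
    obtain ⟨q', hq'w, hrq', hq'q⟩ := exists_weakAss_of_isZeroDivAt hz
    have hq'T : q' ∈ T := by
      rw [Finset.mem_filter, Set.Finite.mem_toFinset]
      exact ⟨hq'w, hrq'⟩
    apply hgq
    apply hq'q
    obtain ⟨c, hc⟩ := Finset.dvd_prod_of_mem g hq'T
    rw [hc]
    exact Ideal.mul_mem_right _ _ (hg q' hq'T)

end Groth.Agent.Lib.Helper45
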