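import Groth.Agent.Lib.Helper45.RegularSections
import Groth.Agent.Lib.Helper45.ZeroDivLoc

/-!
# Germs of regular sections versus nonzerodivisors of the local ring

Shared library of helper45.  Everything lives in `Groth.Agent.Lib.Helper45`.
-/

set_option autoImplicit false
universe u
open CategoryTheory CategoryTheory.Limits AlgebraicGeometry TopologicalSpace

namespace Groth.Agent.Lib.Helper45

variable {X : Scheme.{u}}

theorem germ_mem_nonZeroDivisors_iff {U : X.Opens} (hU : IsAffineOpen U) (x : U) (r : Γ(X, U)) :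
    X.presheaf.germ U x x.2 r ∈ nonZeroDivisors (X.presheaf.stalk (x : X)) ↔
      ¬ IsZeroDivAt (hU.primeIdealOf x).asIdeal r := by
  have := hU.isLocalization_stalk x
  exact algebraMap_mem_nonZeroDivisors_iff (hU.primeIdealOf x).asIdeal
    (X.presheaf.stalk (x : X)) r

/-- If `Γ(X, U)` (`U` affine) has finitely many weakly associated primes, a section whose germ at
`x` is a nonzerodivisor is regular on a basic open neighbourhood of `x`. -/
theorem exists_basicOpen_regSub {U : X.Opens} (hU : IsAffineOpen U)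
    (hfin : (FlatCA.weakAss Γ(X, U) Γ(X, U)).Finite) (x : U) (r : Γ(X, U))
    (hr : X.presheaf.germ U x x.2 r ∈ nonZeroDivisors (X.presheaf.stalk (x : X))) :
    ∃ g : Γ(X, U), (x : X) ∈ X.basicOpen g ∧
      X.presheaf.map (homOfLE (X.basicOpen_le g)).op r ∈ Mero.regSub X (X.basicOpen g) := by
  rw [germ_mem_nonZeroDivisors_iff hU] at hr
  obtain ⟨g, hgp, hg⟩ := exists_forall_not_isZeroDivAt hfin _ r hr
  refine ⟨g, (mem_basicOpen_iff_not_mem_primeIdealOf hU x g).mpr hgp, ?_⟩
  rintro ⟨y, hy⟩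
  have hyU : y ∈ U := X.basicOpen_le g hy
  change X.presheaf.germ (X.basicOpen g) y hy (X.presheaf.map (homOfLE (X.basicOpen_le g)).op r) ∈ _
  rw [TopCat.Presheaf.germ_res_apply]
  rw [germ_mem_nonZeroDivisors_iff hU ⟨y, hyU⟩]
  apply hg _ (hU.primeIdealOf ⟨y, hyU⟩).isPrime
  exact (mem_basicOpen_iff_not_mem_primeIdealOf hU ⟨y, hyU⟩ g).mp hy

/-- Units of the local ring are germs of regular sections. -/
theorem mem_regStalk_of_isUnit (x : X) (a : X.presheaf.stalk x) (ha : IsUnit a) :
    a ∈ Mero.regStalk X x := by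
  obtain ⟨V, hxV, f, rfl⟩ := TopCat.Presheaf.exists_germ_eq X.presheaf a
  have hxf : x ∈ X.basicOpen f := (X.mem_basicOpen f x hxV).mpr ha
  refine ⟨X.basicOpen f, hxf, X.presheaf.map (homOfLE (X.basicOpen_le f)).op f, ?_, ?_⟩
  · rintro ⟨y, hy⟩
    change X.presheaf.germ (X.basicOpen f) y hy _ ∈ _
    rw [TopCat.Presheaf.germ_res_apply]
    exact ((X.mem_basicOpen f y (X.basicOpen_le f hy)).mp hy).mem_nonZeroDivisors
  · rw [TopCat.Presheaf.germ_res_apply]

/-- If `x` has an affine neighbourhood whose ring has finitely many weakly associated primes, then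
the germs of regular sections at `x` are exactly the nonzerodivisors of the local ring. -/
theorem regStalk_eq_nonZeroDivisors_of_finite {U : X.Opens} (hU : IsAffineOpen U)
    (hfin : (FlatCA.weakAss Γ(X, U) Γ(X, U)).Finite) (x : U) :
    Mero.regStalk X (x : X) = nonZeroDivisors (X.presheaf.stalk (x : X)) := by
  apply le_antisymm (Mero.regStalk_le_nonZeroDivisors _)
  intro a ha
  have hloc := hU.isLocalization_stalk x
  obtain ⟨r, s, rfl⟩ := IsLocalization.exists_mk'_eq (hU.primeIdealOf x).asIdeal.primeCompl a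
  have hs : IsUnit (algebraMap Γ(X, U) (X.presheaf.stalk (x : X)) s) :=
    IsLocalization.map_units _ s
  have hr : algebraMap Γ(X, U) (X.presheaf.stalk (x : X)) r ∈
      nonZeroDivisors (X.presheaf.stalk (x : X)) := by
    rw [← IsLocalization.mk'_spec (X.presheaf.stalk (x : X)) r s]
    exact mul_mem ha hs.mem_nonZeroDivisors
  obtain ⟨g, hxg, hg⟩ := exists_basicOpen_regSub hU hfin x r hr
  have h1 : algebraMap Γ(X, U) (X.presheaf.stalk (x : X)) r ∈ Mero.regStalk X (x : X) := by
    refine ⟨X.basicOpen g, hxg, _, hg, ?_⟩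
    rw [TopCat.Presheaf.germ_res_apply]
    rfl
  obtain ⟨u, hu⟩ := hs
  have h2 : (↑u⁻¹ : X.presheaf.stalk (x : X)) ∈ Mero.regStalk X (x : X) :=
    mem_regStalk_of_isUnit _ _ (Units.isUnit _)
  have h3 : IsLocalization.mk' (X.presheaf.stalk (x : X)) r s =
      algebraMap Γ(X, U) (X.presheaf.stalk (x : X)) r * (↑u⁻¹ : X.presheaf.stalk (x : X)) := by
    rw [Units.eq_mul_inv_iff_mul_eq, hu, IsLocalization.mk'_spec]
  rw [h3]
  exact mul_mem h1 h2

end Groth.Agent.Lib.Helper45
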