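import Mathlib
import Groth.Agent.Lib.Helper45.TorsionFreeGerm
import Groth.Agent.Lib.Helper49.StalkNbhd

/-!
# Torsion free modules on reduced schemes and dense opens

Shared library of helper45 (namespace `Groth.Agent.Lib.Helper45.TorsionFreeDense`).

* `exists_opens_subset_closure`: in a locally Noetherian scheme, a point without proper
  generizations has an open neighbourhood contained in its closure.
* `mem_of_dense_of_isField`: a dense open contains every point whose local ring is a field.
* `section_eq_zero_of_germ_eq_zero_on_dense`: a section of a torsion free quasi-coherent module on a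
  reduced locally Noetherian scheme whose germs vanish on a dense open is zero.
* `hom_eq_zero_of_restrict_eq_zero`: a morphism into such a module which vanishes on a dense open
  is zero.
* `exists_iso_of_quotients_of_restrict_iso`: two torsion free quotients of a module which agree
  over a dense open agree.
-/

set_option autoImplicit false
set_option linter.style.haveILetI false
universe u
open CategoryTheory CategoryTheory.Limits AlgebraicGeometry TopologicalSpace Opposite

namespace Groth.Agent.Lib.Helper45.TorsionFreeDense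

open Groth.Agent.Lib.Helper45 Groth.Agent.Lib.Helper45.TorsionFreeGerm

variable {X : Scheme.{u}} [IsLocallyNoetherian X]

/-- In a locally Noetherian scheme, a point without proper generizations has an open neighbourhood
contained in its closure. -/
theorem exists_opens_subset_closure (y : X) (hgen : ∀ z : X, z ⤳ y → z = y) :
    ∃ N : X.Opens, y ∈ N ∧ ∀ u ∈ N, y ⤳ u := by
  obtain ⟨_, ⟨V, hV : IsAffineOpen V, rfl⟩, hyV, -⟩ :=
    X.isBasis_affineOpens.exists_subset_of_mem_open (Set.mem_univ y) isOpen_univ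
  haveI : IsNoetherianRing Γ(X, V) := IsLocallyNoetherian.component_noetherian ⟨V, hV⟩
  haveI : NoetherianSpace (↑V : Scheme.{u}) := noetherianSpace_of_isAffineOpen V hV
  have hinj : Function.Injective (Scheme.Opens.ι V) := (Scheme.Opens.ι V).isOpenEmbedding.injective
  obtain ⟨y', hy'⟩ : ∃ y' : (↑V : Scheme.{u}), (Scheme.Opens.ι V) y' = y := ⟨⟨y, hyV⟩, rfl⟩
  let S : Set (↑V : Scheme.{u}) :=
    ⋃ Z ∈ {Z ∈ irreducibleComponents (↑V : Scheme.{u}) | y' ∉ Z}, Z
  have hScl : IsClosed S := by
    refine Set.Finite.isClosed_biUnion ?_ (fun Z hZ => isClosed_of_mem_irreducibleComponents Z hZ.1)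
    exact (NoetherianSpace.finite_irreducibleComponents (α := (↑V : Scheme.{u}))).subset
      fun Z hZ => hZ.1
  have hy'S : y' ∈ Sᶜ := by
    intro hmem
    obtain ⟨Z, hZ, hxZ⟩ := Set.mem_iUnion₂.mp hmem
    exact hZ.2 hxZ
  have hS : ∀ u' ∈ Sᶜ, y' ⤳ u' := by
    intro u' hu'
    obtain ⟨Z, hZ, huZ⟩ := exists_mem_irreducibleComponents_subset_of_isIrreducible
      ({u'} : Set (↑V : Scheme.{u})) isIrreducible_singleton
    have hu'Z : u' ∈ Z := huZ (Set.mem_singleton u')
    have hy'Z : y' ∈ Z := by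
      by_contra hcon
      exact hu' (Set.mem_biUnion
        (show Z ∈ {Z ∈ irreducibleComponents (↑V : Scheme.{u}) | y' ∉ Z} from ⟨hZ, hcon⟩) hu'Z)
    obtain ⟨η, hη⟩ := QuasiSober.sober hZ.1 (isClosed_of_mem_irreducibleComponents Z hZ)
    have h1 : η ⤳ y' := by
      rw [specializes_iff_mem_closure, hη.def]
      exact hy'Z
    have h2 : (Scheme.Opens.ι V) η ⤳ y := by
      rw [← hy']
      exact h1.map (Scheme.Opens.ι V).continuous
    have h3 : η = y' := hinj ((hgen _ h2).trans hy'.symm)
    rw [specializes_iff_mem_closure, ← h3, hη.def]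
    exact hu'Z
  refine ⟨(Scheme.Opens.ι V) ''ᵁ ⟨Sᶜ, hScl.isOpen_compl⟩, ⟨y', hy'S, hy'⟩, ?_⟩
  rintro _ ⟨u', hu', rfl⟩
  rw [← hy']
  exact (hS u' hu').map (Scheme.Opens.ι V).continuous

omit [IsLocallyNoetherian X] in
/-- A point whose local ring is a field has no proper generizations. -/
theorem eq_of_specializes_of_isField {y z : X} (hfield : IsField (X.presheaf.stalk y))
    (h : z ⤳ y) : z = y := by
  have h0 := ringKrullDim_eq_zero_of_isField hfield
  rw [ringKrullDim_stalk_eq_coheight] at h0
  have h1 : Order.coheight y = 0 := by exact_mod_cast h0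
  have h4 : IsMax y := Order.coheight_eq_zero.mp h1
  have h5 : y ≤ z := Scheme.le_iff_specializes.mpr h
  have h6 : y ⤳ z := Scheme.le_iff_specializes.mp (h4 h5)
  exact (h.antisymm h6).eq

/-- A dense open contains every point whose local ring is a field. -/
theorem mem_of_dense_of_isField (U : X.Opens) (hU : Dense (U : Set X)) (y : X)
    (hfield : IsField (X.presheaf.stalk y)) : y ∈ U := by
  obtain ⟨N, hyN, hN⟩ := exists_opens_subset_closure y
    (fun z hz => eq_of_specializes_of_isField hfield hz)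
  obtain ⟨u, huN, huU⟩ := hU.inter_open_nonempty N N.isOpen ⟨y, hyN⟩
  exact (hN u huN).mem_open U.isOpen huU

variable [AlgebraicGeometry.IsReduced X]

/-- A section of a torsion free quasi-coherent module on a reduced locally Noetherian scheme whose
germs vanish at the points of a dense open is zero. -/
theorem section_eq_zero_of_germ_eq_zero_on_dense (F : X.Modules) [F.IsQuasicoherent]
    (htF : TorSh.IsTorsionFree F) (U : X.Opens) (hU : Dense (U : Set X)) {V : X.Opens}
    (n : Γ(F, V)) (h : ∀ (y : X) (hy : y ∈ V), y ∈ U → F.presheaf.germ V y hy n = 0) : n = 0 := by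
  refine section_ext_germ F V n 0 fun y hy => ?_
  rw [map_zero]
  by_contra hne
  obtain ⟨_, ⟨V', hV' : IsAffineOpen V', rfl⟩, hyV', hV'V⟩ :=
    X.isBasis_affineOpens.exists_subset_of_mem_open hy V.isOpen
  have hle : V' ≤ V := hV'V
  have ht : F.presheaf.map (homOfLE hle).op n ≠ 0 := by
    intro h0
    apply hne
    rw [← TopCat.Presheaf.germ_res_apply F.presheaf (homOfLE hle) y hyV' n, h0, map_zero]
  obtain ⟨y', hfield, hgerm⟩ := exists_germ_ne_zero_of_torsionFree F htF hV' _ ht
  rw [TopCat.Presheaf.germ_res_apply] at hgerm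
  exact hgerm (h y' (hle y'.2) (mem_of_dense_of_isField U hU y' hfield))

open Groth.Agent.Lib.Helper49 in
/-- A morphism into a torsion free quasi-coherent module (on a reduced locally Noetherian scheme)
which vanishes over a dense open is zero. -/
theorem hom_eq_zero_of_restrict_eq_zero {K F : X.Modules} [F.IsQuasicoherent]
    (htF : TorSh.IsTorsionFree F) (U : X.Opens) (hU : Dense (U : Set X)) (g : K ⟶ F)
    (hg : (Scheme.Modules.restrictFunctor U.ι).map g = 0) : g = 0 := by
  refine Scheme.Modules.hom_ext g 0 (fun V => ?_)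
  ext e
  change g.app V e = 0
  refine section_eq_zero_of_germ_eq_zero_on_dense F htF U hU _ fun y hyV hyU => ?_
  let W' : (↑U : Scheme.{u}).Opens := U.ι ⁻¹ᵁ V
  have hW : U.ι ''ᵁ W' ≤ V := by
    rintro _ ⟨z, hz, rfl⟩
    exact hz
  have hyW : y ∈ U.ι ''ᵁ W' := ⟨⟨y, hyU⟩, hyV, rfl⟩
  have h0 : g.app (U.ι ''ᵁ W') = 0 := by
    have := congrArg (fun φ => φ.app W') hg
    exact this
  rw [← stalkMap_germ, ← TopCat.Presheaf.germ_res_apply K.presheaf (homOfLE hW) y hyW e,
    stalkMap_germ, h0]
  exact map_zero _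

/-- Two torsion free quasi-coherent quotients of a module which are identified over a dense open
are identified globally (on a reduced locally Noetherian scheme). -/
theorem exists_iso_of_quotients_of_restrict_iso {E F₁ F₂ : X.Modules} [F₁.IsQuasicoherent]
    [F₂.IsQuasicoherent] (ht₁ : TorSh.IsTorsionFree F₁) (ht₂ : TorSh.IsTorsionFree F₂)
    (q₁ : E ⟶ F₁) (q₂ : E ⟶ F₂) [Epi q₁] [Epi q₂] (U : X.Opens) (hU : Dense (U : Set X))
    (φ : F₁.restrict U.ι ≅ F₂.restrict U.ι)
    (hφ : (Scheme.Modules.restrictFunctor U.ι).map q₁ ≫ φ.hom =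
      (Scheme.Modules.restrictFunctor U.ι).map q₂) :
    ∃ ψ : F₁ ≅ F₂, q₁ ≫ ψ.hom = q₂ ∧ (Scheme.Modules.restrictFunctor U.ι).map ψ.hom = φ.hom := by
  have hφ' : (Scheme.Modules.restrictFunctor U.ι).map q₂ ≫ φ.inv =
      (Scheme.Modules.restrictFunctor U.ι).map q₁ := by
    rw [← hφ, Category.assoc, Iso.hom_inv_id, Category.comp_id]
  have h12 : kernel.ι q₁ ≫ q₂ = 0 := by
    refine hom_eq_zero_of_restrict_eq_zero ht₂ U hU _ ?_
    rw [Functor.map_comp, ← hφ, ← Category.assoc, ← Functor.map_comp, kernel.condition,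
      Functor.map_zero, zero_comp]
  have h21 : kernel.ι q₂ ≫ q₁ = 0 := by
    refine hom_eq_zero_of_restrict_eq_zero ht₁ U hU _ ?_
    rw [Functor.map_comp, ← hφ', ← Category.assoc, ← Functor.map_comp, kernel.condition,
      Functor.map_zero, zero_comp]
  let ψ : F₁ ⟶ F₂ := Abelian.epiDesc q₁ q₂ h12
  let ψ' : F₂ ⟶ F₁ := Abelian.epiDesc q₂ q₁ h21
  have hψ : q₁ ≫ ψ = q₂ := Abelian.comp_epiDesc q₁ q₂ h12
  have hψ' : q₂ ≫ ψ' = q₁ := Abelian.comp_epiDesc q₂ q₁ h21
  have h1 : ψ ≫ ψ' = 𝟙 F₁ := by
    rw [← cancel_epi q₁, ← Category.assoc, hψ, hψ', Category.comp_id]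
  have h2 : ψ' ≫ ψ = 𝟙 F₂ := by
    rw [← cancel_epi q₂, ← Category.assoc, hψ', hψ, Category.comp_id]
  refine ⟨⟨ψ, ψ', h1, h2⟩, hψ, ?_⟩
  haveI : Epi ((Scheme.Modules.restrictFunctor U.ι).map q₁) := inferInstance
  rw [← cancel_epi ((Scheme.Modules.restrictFunctor U.ι).map q₁), ← Functor.map_comp, hφ]
  exact congrArg _ hψ

end Groth.Agent.Lib.Helper45.TorsionFreeDense
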