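import Mathlib

/-!
# Universal injectivity over a local ring from injectivity on the closed fibre

Shared library of helper45 (namespace `Groth.Agent.Lib.Helper45.UnivInj`).

* `lTensor_injective_of_baseChange_residueField_injective`: for a local ring `R`, a free `R`-module
  `F` and an endomorphism `σ` of `F` which is injective after tensoring with the residue field,
  `Q ⊗ σ` is injective for every `R`-module `Q`.
-/

set_option autoImplicit false
universe u v w

open TensorProduct

namespace Groth.Agent.Lib.Helper45.UnivInj

section Coef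

variable {R : Type u} [CommRing R] {F : Type v} [AddCommGroup F] [Module R F]
  {ι : Type w} (b : Module.Basis ι R F)

/-- The `i`-th coefficient of an element of `Q ⊗ F` with respect to a basis of `F`. -/
noncomputable def coef (Q : Type*) [AddCommGroup Q] [Module R Q] (i : ι) : Q ⊗[R] F →ₗ[R] Q :=
  (TensorProduct.rid R Q).toLinearMap ∘ₗ (b.coord i).lTensor Q

theorem coef_tmul {Q : Type*} [AddCommGroup Q] [Module R Q] (i : ι) (q : Q) (x : F) :
    coef b Q i (q ⊗ₜ x) = b.repr x i • q := by
  simp [coef]

theorem coef_rTensor {Q Q' : Type*} [AddCommGroup Q] [Module R Q] [AddCommGroup Q'] [Module R Q']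
    (j : Q →ₗ[R] Q') (i : ι) (x : Q ⊗[R] F) :
    coef b Q' i (j.rTensor F x) = j (coef b Q i x) := by
  induction x with
  | zero => simp
  | tmul q y => simp [coef_tmul]
  | add x y hx hy => simp [hx, hy]

theorem eq_zero_of_coef_eq_zero {Q : Type*} [AddCommGroup Q] [Module R Q] (x : Q ⊗[R] F)
    (h : ∀ i, coef b Q i x = 0) : x = 0 := by
  classical
  apply (TensorProduct.equivFinsuppOfBasisRight b).injective
  rw [map_zero]
  ext i
  rw [TensorProduct.equivFinsuppOfBasisRight_apply]
  exact h i

theorem finite_support_coef {Q : Type*} [AddCommGroup Q] [Module R Q] (x : Q ⊗[R] F) :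
    {i | coef b Q i x ≠ 0}.Finite := by
  classical
  refine ((TensorProduct.equivFinsuppOfBasisRight b x).support.finite_toSet).subset ?_
  intro i hi
  rw [Finset.mem_coe, Finsupp.mem_support_iff, TensorProduct.equivFinsuppOfBasisRight_apply]
  exact hi

theorem eq_sum_coef {Q : Type*} [AddCommGroup Q] [Module R Q] (x : Q ⊗[R] F) :
    x = ∑ i ∈ (finite_support_coef b x).toFinset, coef b Q i x ⊗ₜ[R] b i := by
  classical
  have h1 := (TensorProduct.equivFinsuppOfBasisRight b).symm_apply_apply x
  rw [TensorProduct.equivFinsuppOfBasisRight_symm_apply] at h1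
  conv_lhs => rw [← h1]
  rw [Finsupp.sum]
  refine Finset.sum_congr ?_ fun i _ => ?_
  · ext i
    rw [Finsupp.mem_support_iff, Set.Finite.mem_toFinset, Set.mem_ofPred_eq,
      TensorProduct.equivFinsuppOfBasisRight_apply]
    rfl
  · rw [TensorProduct.equivFinsuppOfBasisRight_apply]
    rfl

end Coef

section Residue

open IsLocalRing

variable {R : Type u} [CommRing R] [IsLocalRing R] {F : Type v} [AddCommGroup F] [Module R F]
  (σ : F →ₗ[R] F)

/-- If `σ ⊗ κ` is injective then `V ⊗ σ` is injective for every `κ`-vector space `V`. -/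
theorem lTensor_injective_of_residue_module
    (hσ : Function.Injective (σ.lTensor (ResidueField R)))
    (V : Type*) [AddCommGroup V] [Module R V] [Module (ResidueField R) V]
    [IsScalarTower R (ResidueField R) V] : Function.Injective (σ.lTensor V) := by
  let κ := ResidueField R
  let e := AlgebraTensorModule.cancelBaseChange R κ κ V F
  have h1 := AlgebraTensorModule.lTensor_comp_cancelBaseChange (R := R) (A := κ) (B := κ) (M := V) σ
  have h2 : Function.Injective
      (AlgebraTensorModule.lTensor κ V (AlgebraTensorModule.lTensor κ κ σ)) := by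
    have : Function.Injective ((AlgebraTensorModule.lTensor κ κ σ).lTensor V) :=
      Module.Flat.lTensor_preserves_injective_linearMap _ hσ
    exact this
  intro x y hxy
  obtain ⟨x', rfl⟩ := e.surjective x
  obtain ⟨y', rfl⟩ := e.surjective y
  have h3 : ∀ z, σ.lTensor V (e z) =
      e (AlgebraTensorModule.lTensor κ V (AlgebraTensorModule.lTensor κ κ σ) z) := fun z =>
    congrArg (fun f => f z) h1
  rw [h3, h3] at hxy
  exact congrArg e (h2 (e.injective hxy))

/-- **Universal injectivity from the closed fibre.** Over a local ring, an endomorphism of a free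
module which is injective modulo the maximal ideal stays injective after tensoring with any
module. -/
theorem lTensor_injective_of_residue {ι : Type w} (b : Module.Basis ι R F)
    (hσ : Function.Injective (σ.lTensor (ResidueField R)))
    (Q : Type*) [AddCommGroup Q] [Module R Q] : Function.Injective (σ.lTensor Q) := by
  classical
  rw [injective_iff_map_eq_zero]
  intro g hg
  let c : ι → Q := fun i => coef b Q i g
  let S : Finset ι := (finite_support_coef b g).toFinset
  let Q'' : Submodule R Q := Submodule.span R (Set.range c)
  have hfg : Q''.FG := by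
    have hsub : Set.range c ⊆ ((S.image c : Finset Q) : Set Q) ∪ {0} := by
      rintro _ ⟨i, rfl⟩
      by_cases hi : c i = 0
      · right
        exact hi
      · left
        rw [Finset.mem_coe, Finset.mem_image]
        exact ⟨i, (Set.Finite.mem_toFinset _).mpr hi, rfl⟩
    have hfin : (Set.range c).Finite :=
      ((Finset.finite_toSet _).union (Set.finite_singleton 0)).subset hsub
    exact Submodule.fg_span hfin
  let c'' : ι → Q'' := fun i => ⟨c i, Submodule.subset_span ⟨i, rfl⟩⟩
  let g'' : Q'' ⊗[R] F := ∑ i ∈ S, c'' i ⊗ₜ[R] b i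
  have hg'' : Q''.subtype.rTensor F g'' = g := by
    rw [map_sum]
    exact (eq_sum_coef b g).symm
  have hcoef'' : ∀ i, coef b Q'' i g'' = c'' i := by
    intro i
    apply Subtype.ext
    have := coef_rTensor b Q''.subtype i g''
    rw [hg''] at this
    exact this.symm
  have hfree : Module.Free R F := Module.Free.of_basis b
  have hflat : Module.Flat R F := Module.Flat.of_free
  have hσg'' : σ.lTensor Q'' g'' = 0 := by
    apply Module.Flat.rTensor_preserves_injective_linearMap Q''.subtype Subtype.val_injective
    rw [map_zero, ← LinearMap.comp_apply, LinearMap.rTensor_comp_lTensor,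
      ← LinearMap.lTensor_comp_rTensor, LinearMap.comp_apply, hg'', hg]
  let V := ResidueField R ⊗[R] Q''
  let π : Q'' →ₗ[R] V := TensorProduct.mk R (ResidueField R) Q'' 1
  have hπg : π.rTensor F g'' = 0 := by
    apply lTensor_injective_of_residue_module σ hσ V
    rw [map_zero, ← LinearMap.comp_apply, LinearMap.lTensor_comp_rTensor,
      ← LinearMap.rTensor_comp_lTensor, LinearMap.comp_apply, hσg'', map_zero]
  have hπc : ∀ i, π (c'' i) = 0 := fun i => by
    rw [← hcoef'' i, ← coef_rTensor, hπg, map_zero]
  have hker : ∀ q : Q'', π q = 0 → q ∈ maximalIdeal R • (⊤ : Submodule R Q'') := by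
    intro q hq
    have h2 : TensorProduct.quotTensorEquivQuotSMul Q'' (maximalIdeal R) (π q) =
        Submodule.Quotient.mk q :=
      TensorProduct.quotTensorEquivQuotSMul_mk_one_tmul (maximalIdeal R) q
    have h1 : (Submodule.Quotient.mk q : Q'' ⧸ maximalIdeal R • (⊤ : Submodule R Q'')) = 0 := by
      rw [← h2, hq]
      exact map_zero _
    exact (Submodule.Quotient.mk_eq_zero _).mp h1
  have hle : Q'' ≤ maximalIdeal R • Q'' := by
    rw [Submodule.span_le]
    rintro _ ⟨i, rfl⟩
    have h1 := hker (c'' i) (hπc i)
    have h2 := Submodule.mem_map_of_mem (f := Q''.subtype) h1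
    rw [Submodule.map_smul'', Submodule.map_subtype_top] at h2
    exact h2
  have hbot : Q'' = ⊥ :=
    Submodule.eq_bot_of_le_smul_of_le_jacobson_bot _ _ hfg hle
      (IsLocalRing.maximalIdeal_le_jacobson _)
  apply eq_zero_of_coef_eq_zero b
  intro i
  have h1 : c i ∈ Q'' := Submodule.subset_span ⟨i, rfl⟩
  rw [hbot] at h1
  exact h1

end Residue

end Groth.Agent.Lib.Helper45.UnivInj
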