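import Mathlib
import Groth.Prelude.Def_FlatCA
import Groth.Agent.Lib.Helper45.UnivInj

/-!
# Universal injectivity of multiplication by elements regular on the closed fibre

Shared library of helper45 (namespace `Groth.Agent.Lib.Helper45.UnivInj`).
-/

set_option autoImplicit false
universe u

open TensorProduct IsLocalRing

namespace Groth.Agent.Lib.Helper45.UnivInj

attribute [local instance] Algebra.TensorProduct.rightAlgebra

section FiberMod

variable {R : Type u} [CommRing R] (p : Ideal R) [p.IsPrime] (S : Type u) [CommRing S]
  [Algebra R S] (N : Type u) [AddCommGroup N] [Module S N] [Module R N] [IsScalarTower R S N]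

/-- The fibre module `(κ(p) ⊗ S) ⊗_S N` is `N ⊗_R κ(p)`, compatibly with the action of `S`. -/
noncomputable def fiberModEquiv : FlatCA.fiberMod p S N ≃ₗ[S] N ⊗[R] p.ResidueField :=
  (TensorProduct.comm S (p.Fiber S) N) ≪≫ₗ
    (LinearEquiv.lTensor N
      (Algebra.TensorProduct.commRight R S p.ResidueField).symm.toLinearEquiv) ≪≫ₗ
    (AlgebraTensorModule.cancelBaseChange R S S N p.ResidueField)

theorem smul_eq_rTensor (s : S) (x : N ⊗[R] p.ResidueField) :
    s • x = ((LinearMap.lsmul S N s).restrictScalars R).rTensor p.ResidueField x := by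
  induction x with
  | zero => simp
  | tmul n c => rfl
  | add x y hx hy => rw [smul_add, map_add, hx, hy]

/-- If `s` is a nonzerodivisor on the fibre module then `s ⊗ κ(p)` is injective on `N ⊗ κ(p)`. -/
theorem rTensor_injective_of_mem_nonZeroSMulDivisors (s : S)
    (hs : s ∈ nonZeroSMulDivisors S (FlatCA.fiberMod p S N)) :
    Function.Injective (((LinearMap.lsmul S N s).restrictScalars R).rTensor p.ResidueField) := by
  rw [injective_iff_map_eq_zero]
  intro x hx
  rw [← smul_eq_rTensor] at hx
  have h1 : s • (fiberModEquiv p S N).symm x = 0 := by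
    rw [← map_smul, hx, map_zero]
  have h2 := (mem_nonZeroSMulDivisors_iff.mp hs) _ h1
  exact (LinearEquiv.map_eq_zero_iff _).mp h2

end FiberMod

section Retract

variable {R : Type u} [CommRing R] {N F : Type*} [AddCommGroup N] [Module R N] [AddCommGroup F]
  [Module R F] (i : N →ₗ[R] F) (p : F →ₗ[R] N) (hpi : p ∘ₗ i = LinearMap.id) (σ : N →ₗ[R] N)

/-- The extension of an endomorphism of a retract `N` of `F` by the identity on the
complement. -/
def extendRetract : F →ₗ[R] F := i ∘ₗ σ ∘ₗ p + (LinearMap.id - i ∘ₗ p)

include hpi in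
theorem p_comp_extendRetract : p ∘ₗ extendRetract i p σ = σ ∘ₗ p := by
  ext x
  have h : ∀ n, p (i n) = n := fun n => congrArg (fun f => f n) hpi
  simp [extendRetract, h]

include hpi in
theorem extendRetract_comp_i : extendRetract i p σ ∘ₗ i = i ∘ₗ σ := by
  ext x
  have h : ∀ n, p (i n) = n := fun n => congrArg (fun f => f n) hpi
  simp [extendRetract, h]

include hpi in
theorem lTensor_extendRetract_injective (Q : Type*) [AddCommGroup Q] [Module R Q]
    (h : Function.Injective (σ.lTensor Q)) :
    Function.Injective ((extendRetract i p σ).lTensor Q) := by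
  rw [injective_iff_map_eq_zero]
  intro y hy
  have h1 : σ.lTensor Q (p.lTensor Q y) = 0 := by
    rw [← LinearMap.comp_apply, ← LinearMap.lTensor_comp, ← p_comp_extendRetract i p hpi σ,
      LinearMap.lTensor_comp, LinearMap.comp_apply, hy, map_zero]
  have h2 : p.lTensor Q y = 0 := (injective_iff_map_eq_zero _).mp h _ h1
  have h3 : (extendRetract i p σ).lTensor Q y = y := by
    unfold extendRetract
    rw [LinearMap.lTensor_add, LinearMap.lTensor_sub, LinearMap.lTensor_comp,
      LinearMap.lTensor_comp, LinearMap.lTensor_comp, LinearMap.add_apply, LinearMap.sub_apply,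
      LinearMap.comp_apply, LinearMap.comp_apply, LinearMap.comp_apply, h2, map_zero, map_zero,
      LinearMap.lTensor_id, LinearMap.id_apply, zero_add, sub_zero]
  rw [← h3, hy]

include hpi in
theorem lTensor_injective_of_extendRetract (Q : Type*) [AddCommGroup Q] [Module R Q]
    (h : Function.Injective ((extendRetract i p σ).lTensor Q)) :
    Function.Injective (σ.lTensor Q) := by
  rw [injective_iff_map_eq_zero]
  intro x hx
  have h1 : (extendRetract i p σ).lTensor Q (i.lTensor Q x) = 0 := by
    rw [← LinearMap.comp_apply, ← LinearMap.lTensor_comp, extendRetract_comp_i i p hpi σ,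
      LinearMap.lTensor_comp, LinearMap.comp_apply, hx, map_zero]
  have h2 : i.lTensor Q x = 0 := (injective_iff_map_eq_zero _).mp h _ h1
  have h3 : p.lTensor Q (i.lTensor Q x) = x := by
    rw [← LinearMap.comp_apply, ← LinearMap.lTensor_comp, hpi, LinearMap.lTensor_id,
      LinearMap.id_apply]
  rw [← h3, h2, map_zero]

end Retract

section Local

variable {R : Type u} [CommRing R] [IsLocalRing R] (S : Type u) [CommRing S] [Algebra R S]
  (N : Type u) [AddCommGroup N] [Module S N] [Module R N] [IsScalarTower R S N]

/-- The two residue fields of a local ring. -/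
noncomputable def residueFieldEquiv : ResidueField R ≃ₗ[R] (maximalIdeal R).ResidueField :=
  LinearEquiv.ofBijective
    (IsScalarTower.toAlgHom R (R ⧸ maximalIdeal R) (maximalIdeal R).ResidueField).toLinearMap
    (Ideal.bijective_algebraMap_quotient_residueField _)

theorem lTensor_residueField_injective (σ : N →ₗ[R] N)
    (h : Function.Injective (σ.rTensor (maximalIdeal R).ResidueField)) :
    Function.Injective (σ.lTensor (ResidueField R)) := by
  let Φ : ResidueField R ⊗[R] N ≃ₗ[R] N ⊗[R] (maximalIdeal R).ResidueField :=
    (TensorProduct.congr (residueFieldEquiv (R := R)) (LinearEquiv.refl R N)) ≪≫ₗ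
      TensorProduct.comm R _ _
  have hΦ : ∀ x, Φ (σ.lTensor (ResidueField R) x) =
      σ.rTensor (maximalIdeal R).ResidueField (Φ x) := by
    intro x
    induction x with
    | zero => simp
    | tmul c n => simp [Φ]
    | add x y hx hy => simp only [map_add, hx, hy]
  intro x y hxy
  apply Φ.injective
  apply h
  rw [← hΦ, ← hΦ, hxy]

theorem univInj_lsmul [Module.Projective R N] (s : S) (hs : s ∈ FlatCA.nzdFiber R S N) :
    FlatCA.UnivInj R ((LinearMap.lsmul S N s).restrictScalars R) := by
  intro Q _ _
  set σ : N →ₗ[R] N := (LinearMap.lsmul S N s).restrictScalars R with hσ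
  have h1 : Function.Injective (σ.lTensor (ResidueField R)) :=
    lTensor_residueField_injective N σ
      (rTensor_injective_of_mem_nonZeroSMulDivisors (maximalIdeal R) S N s hs)
  obtain ⟨i, hi⟩ := Module.projective_def'.mp (inferInstance : Module.Projective R N)
  let p : (N →₀ R) →ₗ[R] N := Finsupp.linearCombination R id
  have h2 := lTensor_extendRetract_injective i p hi σ (ResidueField R) h1
  have h3 := lTensor_injective_of_residue (extendRetract i p σ)
    (Finsupp.basisSingleOne (R := R) (ι := N)) h2 Q
  exact lTensor_injective_of_extendRetract i p hi σ Q h3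

theorem univInj_mkLinearMap [Module.Projective R N] :
    FlatCA.UnivInj R
      ((LocalizedModule.mkLinearMap (FlatCA.nzdFiber R S N) N).restrictScalars R) := by
  intro Q _ _
  set T := FlatCA.nzdFiber R S N with hT
  set f : N →ₗ[R] LocalizedModule T N := (LocalizedModule.mkLinearMap T N).restrictScalars R
    with hf
  rw [LinearMap.lTensor_inj_iff_rTensor_inj]
  have hloc : IsLocalizedModule T
      (AlgebraTensorModule.rTensor R Q (LocalizedModule.mkLinearMap T N)) := inferInstance
  rw [injective_iff_map_eq_zero]
  intro x hx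
  have hx' : AlgebraTensorModule.rTensor R Q (LocalizedModule.mkLinearMap T N) x = 0 := hx
  obtain ⟨t, ht⟩ := (IsLocalizedModule.eq_zero_iff T _).mp hx'
  have h1 := univInj_lsmul S N (t : S) t.2 Q
  rw [LinearMap.lTensor_inj_iff_rTensor_inj] at h1
  apply h1
  rw [map_zero]
  have h2 : ∀ y : N ⊗[R] Q, (t : S) • y =
      ((LinearMap.lsmul S N (t : S)).restrictScalars R).rTensor Q y := by
    intro y
    induction y with
    | zero => simp
    | tmul n q => rfl
    | add a b ha hb => rw [smul_add, map_add, ha, hb]
  rw [← h2]
  exact ht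

end Local

end Groth.Agent.Lib.Helper45.UnivInj
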