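import Groth.Agent.Lib.Helper45.WeakAss
import Mathlib.RingTheory.QuasiFinite.Basic
import Mathlib.RingTheory.Ideal.GoingUp

/-!
# Weakly associated primes and finite ring maps (Stacks 05C3)

Shared library of helper45.  Everything lives in `Groth.Agent.Lib.Helper45`.

* `exists_pow_mul_mem_of_mem_minimalPrimes`: if `p` is minimal over `I` and `x ∈ p` then
  `y * x ^ n ∈ I` for some `y ∉ p`.
* `under_mem_weakAss_of_finite`: for a finite ring map `A → B` and a `B`-module `M`, the
  contraction of a weakly associated prime of `M` over `B` is weakly associated to `M` over `A`.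
-/

set_option autoImplicit false

universe u v

namespace Groth.Agent.Lib.Helper45

/-- If `p` is a minimal prime over `I` and `x ∈ p`, then `y * x ^ n ∈ I` for some `y ∉ p`. -/
theorem exists_pow_mul_mem_of_mem_minimalPrimes {R : Type*} [CommRing R] {I p : Ideal R}
    (hp : p ∈ I.minimalPrimes) {x : R} (hx : x ∈ p) : ∃ n : ℕ, ∃ y : R, y ∉ p ∧ y * x ^ n ∈ I := by
  have : p.IsPrime := hp.1.1
  have hrad := IsLocalization.AtPrime.radical_map_of_mem_minimalPrimes
    (A := Localization.AtPrime p) p _ hp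
  have hmem : algebraMap R (Localization.AtPrime p) x ∈
      (I.map (algebraMap R (Localization.AtPrime p))).radical := by
    rw [hrad]
    exact Ideal.mem_map_of_mem _ hx
  obtain ⟨n, hn⟩ := hmem
  rw [← map_pow, IsLocalization.algebraMap_mem_map_algebraMap_iff p.primeCompl] at hn
  obtain ⟨w, hw, hwn⟩ := hn
  exact ⟨n, w, hw, hwn⟩

section Finite

variable {A : Type u} {B : Type v} [CommRing A] [CommRing B] [Algebra A B] [Module.Finite A B]
  {M : Type*} [AddCommGroup M] [Module A M] [Module B M] [IsScalarTower A B M]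

/-- Stacks 05C3 (the nontrivial inclusion): for a finite ring map `A → B` and a `B`-module `M`,
if `q` is weakly associated to `M` over `B` then `q ∩ A` is weakly associated to `M` over `A`. -/
theorem under_mem_weakAss_of_finite {q : Ideal B} (hq : q ∈ FlatCA.weakAss B M) :
    q.comap (algebraMap A B) ∈ FlatCA.weakAss A M := by
  classical
  obtain ⟨m, hm⟩ := hq
  replace hm : q ∈ (annEl B m).minimalPrimes := hm
  have hqP : q.IsPrime := hm.1.1
  set p : Ideal A := q.comap (algebraMap A B) with hp
  have hpP : p.IsPrime := Ideal.comap_isPrime _ _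
  have hint : Algebra.IsIntegral A B := inferInstance
  -- the finitely many primes of `B` over `p`
  have hfin : (p.primesOver B).Finite := Algebra.QuasiFinite.finite_primesOver p
  -- an element of `q` avoiding the other primes over `p`
  have hx : ∃ x ∈ q, ∀ Q ∈ p.primesOver B, Q ≠ q → x ∉ Q := by
    by_contra hcon
    push Not at hcon
    have hsub : (q : Set B) ⊆ ⋃ Q ∈ (p.primesOver B \ {q}), (Q : Set B) := by
      intro x hx
      obtain ⟨Q, hQ, hQq, hxQ⟩ := hcon x hx
      exact Set.mem_biUnion (⟨hQ, hQq⟩ : Q ∈ p.primesOver B \ {q}) hxQ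
    obtain ⟨Q, ⟨hQ, hQq⟩, hle⟩ := (Ideal.subset_union_prime_finite (hfin.subset Set.sdiff_subset)
      (f := id) q q (fun Q hQ _ _ => hQ.1.1)).mp hsub
    have hQP : Q.IsPrime := hQ.1
    apply hQq
    by_contra hne
    have hlt : q < Q := lt_of_le_of_ne hle (fun h => hne h.symm)
    have := Ideal.IsIntegral.comap_lt_comap (R := A) hlt
    have hQp : Q.comap (algebraMap A B) = p := (hQ.2.over).symm
    rw [hQp] at this
    exact lt_irrefl _ this
  obtain ⟨x, hxq, hxQ⟩ := hx
  obtain ⟨t, y, hy, hyx⟩ := exists_pow_mul_mem_of_mem_minimalPrimes hm hxq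
  rw [mem_annEl] at hyx
  refine ⟨y • m, ?_⟩
  show p ∈ (annEl A (y • m)).minimalPrimes
  have hle : annEl A (y • m) ≤ p := by
    intro r hr
    rw [mem_annEl, ← algebraMap_smul B r (y • m), smul_smul] at hr
    have : algebraMap A B r * y ∈ q := hm.1.2 (mem_annEl.mpr hr)
    exact (hqP.mem_or_mem this).resolve_right hy
  refine ⟨⟨hpP, hle⟩, ?_⟩
  intro p' hp' hp'p f hf
  have hp'P : p'.IsPrime := hp'.1
  -- `f ∈ p`, so some `z ∉ q` and `n` with `z * f ^ n • m = 0`
  obtain ⟨n, z, hz, hzn⟩ := exists_pow_mul_mem_of_mem_minimalPrimes hm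
    (show algebraMap A B f ∈ q from hf)
  rw [mem_annEl] at hzn
  -- the annihilator (in `B`) of `w = f ^ n • y • m`
  set w : M := (algebraMap A B f) ^ n • y • m with hw
  have hzK : z ∈ annEl B w := by
    rw [mem_annEl, hw, smul_smul, smul_smul]
    have : z * algebraMap A B f ^ n * y = y * (z * algebraMap A B f ^ n) := by ring
    rw [this, ← smul_smul, hzn, smul_zero]
  have hxK : x ^ t ∈ annEl B w := by
    rw [mem_annEl, hw, smul_smul, smul_smul]
    have : x ^ t * algebraMap A B f ^ n * y = algebraMap A B f ^ n * (y * x ^ t) := by ring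
    rw [this, ← smul_smul, hyx, smul_zero]
  have hnot : ¬ (annEl B w).comap (algebraMap A B) ≤ p := by
    intro hcomap
    obtain ⟨Q, hQK, hQP, hQp⟩ := Ideal.exists_ideal_over_prime_of_isIntegral p (annEl B w) hcomap
    have hQmem : Q ∈ p.primesOver B := ⟨hQP, ⟨hQp.symm⟩⟩
    by_cases hQq : Q = q
    · exact hz (hQq ▸ hQK hzK)
    · exact hxQ Q hQmem hQq (hQP.mem_of_pow_mem t (hQK hxK))
  obtain ⟨s, hsK, hsp⟩ := SetLike.not_le_iff_exists.mp hnot
  rw [Ideal.mem_comap, mem_annEl, hw, ← map_pow, algebraMap_smul, algebraMap_smul, smul_smul] at hsK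
  have hmem : s * f ^ n ∈ p' := hp'.2 (mem_annEl.mpr hsK)
  rcases hp'P.mem_or_mem hmem with h | h
  · exact absurd (hp'p h) hsp
  · exact hp'P.mem_of_pow_mem n h

end Finite

end Groth.Agent.Lib.Helper45
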