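import Groth.Agent.Lib.Helper45.WeakAssIsLoc
import Groth.Agent.Lib.Helper45.WeakAssFinite
import Mathlib.RingTheory.Flat.Equalizer
import Mathlib.RingTheory.Localization.BaseChange
import Mathlib.RingTheory.LocalRing.Module
import Mathlib.RingTheory.Flat.Stability

/-!
# Weakly associated primes and flat base change

Shared library of helper45.  Everything lives in `Groth.Agent.Lib.Helper45`.

* `annEl_one_tmul_of_flat`: for `B` flat over `A`, `ann_B (1 ⊗ m) = (ann_A m) B`.
* `mem_weakAss_of_mem_weakAss_tensor_of_finite_flat`: for a finite flat `A`-module `N`,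
  `WeakAss_A (N ⊗ M) ⊆ WeakAss_A M`.
-/

set_option autoImplicit false

universe u v w

open TensorProduct

namespace Groth.Agent.Lib.Helper45

section Flat

variable {A : Type u} {B : Type v} [CommRing A] [CommRing B] [Algebra A B] [Module.Flat A B]
  {M : Type w} [AddCommGroup M] [Module A M]

/-- Flat base change of annihilators of elements. -/
theorem annEl_one_tmul_of_flat (m : M) :
    annEl B ((1 : B) ⊗ₜ[A] m) = (annEl A m).map (algebraMap A B) := by
  apply le_antisymm
  · intro b hb
    rw [mem_annEl, TensorProduct.smul_tmul', smul_eq_mul, mul_one] at hb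
    let φ : A →ₗ[A] M := LinearMap.toSpanSingleton A M m
    have hker : LinearMap.ker φ = annEl A m := by
      ext r
      rw [LinearMap.mem_ker, LinearMap.toSpanSingleton_apply, mem_annEl]
    have hmem : b ⊗ₜ[A] (1 : A) ∈ LinearMap.ker (AlgebraTensorModule.lTensor B B φ) := by
      rw [LinearMap.mem_ker, AlgebraTensorModule.lTensor_tmul, LinearMap.toSpanSingleton_apply,
        one_smul]
      exact hb
    rw [Module.Flat.ker_lTensor_eq] at hmem
    obtain ⟨w, hw⟩ := hmem
    have key : ∀ w : B ⊗[A] (LinearMap.ker φ),
        TensorProduct.rid A B (AlgebraTensorModule.lTensor B B (LinearMap.ker φ).subtype w) ∈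
          (annEl A m).map (algebraMap A B) := by
      intro w
      induction w using TensorProduct.induction_on with
      | zero => simp
      | tmul b' i =>
        rw [AlgebraTensorModule.lTensor_tmul, Submodule.subtype_apply, TensorProduct.rid_tmul,
          Algebra.smul_def]
        refine Ideal.mul_mem_right _ _ (Ideal.mem_map_of_mem _ ?_)
        rw [← hker]
        exact i.2
      | add x y hx hy =>
        rw [map_add, map_add]
        exact Ideal.add_mem _ hx hy
    have := key w
    rw [hw, TensorProduct.rid_tmul, one_smul] at this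
    exact this
  · rw [Ideal.map_le_iff_le_comap]
    intro a ha
    rw [Ideal.mem_comap, mem_annEl, Algebra.algebraMap_eq_smul_one, smul_assoc, one_smul,
      ← TensorProduct.tmul_smul, mem_annEl.mp ha, TensorProduct.tmul_zero]

end Flat

section FiniteFlat

variable {A : Type u} [CommRing A] {N : Type u} [AddCommGroup N] [Module A N] [Module.Finite A N]
  [Module.Flat A N] {M : Type u} [AddCommGroup M] [Module A M]

/-- For a finite flat module `N`, weakly associated primes of `N ⊗ M` are weakly associated to
`M`. -/
theorem mem_weakAss_of_mem_weakAss_tensor_of_finite_flat {p : Ideal A}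
    (hp : p ∈ FlatCA.weakAss A (N ⊗[A] M)) : p ∈ FlatCA.weakAss A M := by
  classical
  have hP : p.IsPrime := isPrime_of_mem_weakAss hp
  let Ap := Localization.AtPrime p
  -- translate to the localization, realized as a base change
  rw [mem_weakAss_iff_exists_radical_annEl_eq_maximalIdeal p Ap
    (TensorProduct.mk A Ap (N ⊗[A] M) 1)] at hp
  rw [mem_weakAss_iff_exists_radical_annEl_eq_maximalIdeal p Ap (TensorProduct.mk A Ap M 1)]
  obtain ⟨x, hx⟩ := hp
  -- `Ap ⊗ N` is free over the local ring `Ap`
  have hfree : Module.Free Ap (Ap ⊗[A] N) := Module.free_of_flat_of_isLocalRing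
  let ι := Module.Free.ChooseBasisIndex Ap (Ap ⊗[A] N)
  let b : Module.Basis ι Ap (Ap ⊗[A] N) := Module.Free.chooseBasis Ap (Ap ⊗[A] N)
  let E : Ap ⊗[A] (N ⊗[A] M) ≃ₗ[Ap] ι →₀ (Ap ⊗[A] M) :=
    (AlgebraTensorModule.distribBaseChange A Ap N M) ≪≫ₗ
      (TensorProduct.congr b.repr (LinearEquiv.refl Ap (Ap ⊗[A] M))) ≪≫ₗ
      (TensorProduct.finsuppScalarLeft Ap (Ap ⊗[A] M) ι)
  let v := E x
  have hann : annEl Ap x = v.support.inf (fun i => annEl Ap (v i)) := by
    ext r
    rw [Submodule.mem_finsetInf, mem_annEl]
    constructor
    · intro h i _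
      rw [mem_annEl]
      have : r • v = 0 := by rw [← map_smul, h, map_zero]
      have h2 := DFunLike.congr_fun this i
      simpa using h2
    · intro h
      apply E.injective
      rw [map_smul, map_zero]
      ext i
      by_cases hi : i ∈ v.support
      · have := h i hi
        rw [mem_annEl] at this
        simpa using this
      · rw [Finsupp.notMem_support_iff] at hi
        simp [v, hi] at hi ⊢
  rw [hann] at hx
  have hrad : (v.support.inf (fun i => annEl Ap (v i))).radical =
      v.support.inf (fun i => (annEl Ap (v i)).radical) := by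
    induction v.support using Finset.induction_on with
    | empty => simp [Ideal.radical_top]
    | insert a s _ ih => rw [Finset.inf_insert, Finset.inf_insert, Ideal.radical_inf, ih]
  rw [hrad] at hx
  have hmP : (IsLocalRing.maximalIdeal Ap).IsPrime := inferInstance
  obtain ⟨i, hi, hle⟩ := (Ideal.IsPrime.inf_le' hmP).mp hx.le
  refine ⟨v i, le_antisymm hle ?_⟩
  rw [← hx]
  exact Finset.inf_le hi

end FiniteFlat

end Groth.Agent.Lib.Helper45
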