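import Groth.Agent.Lib.Helper45.WeakAss
import Mathlib.Algebra.Module.LocalizedModule.Basic
import Mathlib.RingTheory.Localization.AtPrime.Basic
import Mathlib.RingTheory.Ideal.AssociatedPrime.Basic

/-!
# Weakly associated primes and localization

Shared library of helper45.  Everything lives in `Groth.Agent.Lib.Helper45`.
-/

set_option autoImplicit false

universe u v

namespace Groth.Agent.Lib.Helper45

open Submodule

section Loc

variable {R : Type u} [CommRing R] (S : Submonoid R) {M : Type v} [AddCommGroup M] [Module R M]

theorem mk_eq_zero_iff (m : M) (s : S) :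
    LocalizedModule.mk m s = 0 ↔ ∃ u : S, (u : R) • m = 0 := by
  rw [← LocalizedModule.zero_mk (1 : S), LocalizedModule.mk_eq]
  simp [Submonoid.smul_def]

/-- The annihilator (over `S⁻¹R`) of `m/s` is the extension of the annihilator of `m`. -/
theorem annEl_mk (m : M) (s : S) :
    annEl (Localization S) (LocalizedModule.mk m s) =
      (annEl R m).map (algebraMap R (Localization S)) := by
  ext a
  induction a using Localization.induction_on with
  | H y =>
    obtain ⟨r, t⟩ := y
    rw [mem_annEl, LocalizedModule.mk_smul_mk, mk_eq_zero_iff,
      IsLocalization.mem_map_algebraMap_iff S, Localization.mk_eq_mk']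
    constructor
    · rintro ⟨u, hu⟩
      refine ⟨⟨⟨u * r, ?_⟩, u * t⟩, ?_⟩
      · rw [mem_annEl, mul_smul]
        exact hu
      · simp only [Submonoid.coe_mul, map_mul]
        rw [mul_comm (algebraMap R (Localization S) u), ← mul_assoc, IsLocalization.mk'_spec,
          mul_comm]
    · rintro ⟨⟨⟨i, hi⟩, v⟩, h⟩
      simp only at h
      have h2 : algebraMap R (Localization S) (r * v) =
          algebraMap R (Localization S) (i * t) := by
        rw [map_mul, map_mul, ← h, mul_right_comm, IsLocalization.mk'_spec]
      obtain ⟨c, hc⟩ := (IsLocalization.eq_iff_exists S (Localization S)).mp h2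
      refine ⟨c * v, ?_⟩
      rw [mem_annEl] at hi
      have : ((c * v : S) : R) * r = (c : R) * t * i := by
        simp only [Submonoid.coe_mul]
        calc (c : R) * v * r = c * (r * v) := by ring
          _ = c * (i * t) := hc
          _ = c * t * i := by ring
      rw [← mul_smul, this, mul_smul, hi, smul_zero]

/-- The annihilator over `R` of an element of `S⁻¹M` is the contraction of its annihilator over
`S⁻¹R`. -/
theorem annEl_comap (x : LocalizedModule S M) :
    annEl R x = (annEl (Localization S) x).comap (algebraMap R (Localization S)) := by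
  ext r
  rw [Ideal.mem_comap, mem_annEl, mem_annEl, algebraMap_smul]

/-- For `p` disjoint from `S`: `p` is weakly associated to `M` iff `p S⁻¹R` is weakly associated
to `S⁻¹M`. -/
theorem mem_weakAss_iff_map_mem_weakAss (p : Ideal R) [p.IsPrime]
    (hS : Disjoint (S : Set R) (p : Set R)) :
    p ∈ FlatCA.weakAss R M ↔
      Ideal.map (algebraMap R (Localization S)) p ∈
        FlatCA.weakAss (Localization S) (LocalizedModule S M) := by
  have hcomap : (Ideal.map (algebraMap R (Localization S)) p).under R = p :=
    IsLocalization.under_map_of_isPrime_disjoint S (Localization S) ‹_› hS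
  constructor
  · rintro ⟨m, hm⟩
    refine ⟨LocalizedModule.mk m 1, ?_⟩
    show _ ∈ (annEl (Localization S) (LocalizedModule.mk m 1)).minimalPrimes
    rw [annEl_mk, IsLocalization.minimalPrimes_map S, Set.mem_preimage, hcomap]
    exact hm
  · rintro ⟨x, hx⟩
    induction x using LocalizedModule.induction_on with
    | h m s =>
      refine ⟨m, ?_⟩
      replace hx : _ ∈ (annEl (Localization S) (LocalizedModule.mk m s)).minimalPrimes := hx
      rw [annEl_mk, IsLocalization.minimalPrimes_map S, Set.mem_preimage, hcomap] at hx
      exact hx

/-- The weakly associated primes of `S⁻¹M` over `R` are the contractions of those over `S⁻¹R`. -/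
theorem weakAss_localizedModule :
    FlatCA.weakAss R (LocalizedModule S M) =
      Ideal.comap (algebraMap R (Localization S)) ''
        FlatCA.weakAss (Localization S) (LocalizedModule S M) := by
  ext p
  constructor
  · rintro ⟨x, hx⟩
    replace hx : p ∈ (annEl R x).minimalPrimes := hx
    rw [annEl_comap, IsLocalization.minimalPrimes_comap S] at hx
    obtain ⟨q, hq, rfl⟩ := hx
    exact ⟨q, ⟨x, hq⟩, rfl⟩
  · rintro ⟨q, ⟨x, hx⟩, rfl⟩
    refine ⟨x, ?_⟩
    show _ ∈ (annEl R x).minimalPrimes
    rw [annEl_comap, IsLocalization.minimalPrimes_comap S]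
    exact ⟨q, hx, rfl⟩

/-- If `S` consists of `M`-regular elements then `M` and `S⁻¹M` have the same weakly associated
primes over `R`. -/
theorem weakAss_eq_weakAss_localizedModule (hS : ∀ s ∈ S, IsSMulRegular M s) :
    FlatCA.weakAss R M = FlatCA.weakAss R (LocalizedModule S M) := by
  apply Set.Subset.antisymm
  · refine weakAss_subset_of_injective (LocalizedModule.mkLinearMap S M) ?_
    rw [← LinearMap.ker_eq_bot, LinearMap.ker_eq_bot']
    intro m hm
    rw [LocalizedModule.mkLinearMap_apply, mk_eq_zero_iff] at hm
    obtain ⟨u, hu⟩ := hm
    exact hS u u.2 (by simpa using hu)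
  · rintro p ⟨x, hx⟩
    induction x using LocalizedModule.induction_on with
    | h m s =>
      refine ⟨m, ?_⟩
      have : annEl R (LocalizedModule.mk m s) = annEl R m := by
        ext r
        rw [mem_annEl, mem_annEl, LocalizedModule.smul'_mk, mk_eq_zero_iff]
        constructor
        · rintro ⟨u, hu⟩
          exact hS u u.2 (by simpa using hu)
        · intro h
          exact ⟨1, by rw [h, smul_zero]⟩
      replace hx : p ∈ (annEl R (LocalizedModule.mk m s)).minimalPrimes := hx
      rw [this] at hx
      exact hx

end Loc

end Groth.Agent.Lib.Helper45
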